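import Mathlib
import Cfsg.Prelude.Def_LieTypeDatum
import Cfsg.Agent.Lib.Small.Unitary.Eichler

/-!
Automorphisms of `PSU_n(q)` induced by unitary matrices and by field automorphisms.
-/

set_option autoImplicit false
set_option linter.unusedSectionVars false

namespace Cfsg.Agent.Small.PSUn

open Matrix Cfsg.Agent.Small.Unitary

variable {F : Type*} [Field F] [Fintype F] [StarRing F] {n q : ℕ}

local notation "Gn" => Cfsg.SU n F q
local notation "Pn" => Cfsg.PSU n F q
local notation "Un" => Cfsg.GU n F q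

/-- The projection to `PSU_n`. -/
abbrev pu : Gn →* Pn := QuotientGroup.mk' (Subgroup.center Gn)

theorem pu_surjective : Function.Surjective (pu : Gn → Pn) := QuotientGroup.mk'_surjective _

theorem pu_eq_one {g : Gn} : (pu g : Pn) = 1 ↔ g ∈ Subgroup.center Gn :=
  QuotientGroup.eq_one_iff g

theorem mem_GU_iff_star (hstar : ∀ x : F, star x = x ^ q) (g : GL (Fin n) F) :
    g ∈ Un ↔ (g.val)ᴴ * g.val = 1 := by
  have hform : ∀ u v : Fin n → F, Cfsg.hermForm n F q u v = herm v u := fun u v => by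
    simp [Cfsg.hermForm, herm, dotProduct, hstar, mul_comm]
  constructor
  · intro h
    ext i j
    have h1 := h (Pi.single j 1) (Pi.single i 1)
    change Cfsg.hermForm n F q (g.val *ᵥ Pi.single j 1) (g.val *ᵥ Pi.single i 1) =
      Cfsg.hermForm n F q (Pi.single j 1) (Pi.single i 1) at h1
    rw [hform, hform, Matrix.mulVec_single_one, Matrix.mulVec_single_one, herm_single_left,
      star_one, one_mul, Pi.single_apply] at h1
    rw [Matrix.one_apply, ← h1]
    rfl
  · intro h u v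
    change Cfsg.hermForm n F q (g.val *ᵥ u) (g.val *ᵥ v) = _
    rw [hform, hform, herm, Matrix.star_mulVec, ← Matrix.dotProduct_mulVec, Matrix.mulVec_mulVec, h,
      Matrix.one_mulVec]
    rfl

/-- `SU_n` inside `GU_n`. -/
def toU : Gn →* Un where
  toFun x := ⟨Matrix.SpecialLinearGroup.toGL x.1, x.2⟩
  map_one' := Subtype.ext (map_one _)
  map_mul' x y := Subtype.ext (map_mul _ _ _)

theorem toU_val (x : Gn) : ((toU x : Un) : GL (Fin n) F).val = x.1.1 := rfl

theorem conjU_aux (g : Un) (x : Gn) :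
    ∃ y : Gn, y.1.1 = g.1.val * x.1.1 * (g.1⁻¹ : GL (Fin n) F).val := by
  let s : Matrix.SpecialLinearGroup (Fin n) F := ⟨g.1.val * x.1.1 * (g.1⁻¹ : GL (Fin n) F).val, by
    rw [Matrix.det_mul, Matrix.det_mul, x.1.2, mul_one, ← Matrix.det_mul, Units.mul_inv,
      Matrix.det_one]⟩
  refine ⟨⟨s, ?_⟩, rfl⟩
  have h : g.1 * Matrix.SpecialLinearGroup.toGL x.1 * g.1⁻¹ ∈ Un :=
    mul_mem (mul_mem g.2 (show Matrix.SpecialLinearGroup.toGL x.1 ∈ Un from x.2)) (inv_mem g.2)
  exact h

theorem ext_val {x y : Gn} (h : x.1.1 = y.1.1) : x = y := Subtype.ext (Subtype.ext h)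

/-- Conjugation by `GU_n` on `SU_n`. -/
noncomputable def conjU : Un →* MulAut Gn where
  toFun g :=
    { toFun := fun x => (conjU_aux g x).choose
      invFun := fun x => (conjU_aux g⁻¹ x).choose
      left_inv := fun x => ext_val (by
        rw [(conjU_aux g⁻¹ _).choose_spec, (conjU_aux g x).choose_spec]
        simp [Matrix.mul_assoc])
      right_inv := fun x => ext_val (by
        rw [(conjU_aux g _).choose_spec, (conjU_aux g⁻¹ x).choose_spec]
        simp [Matrix.mul_assoc])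
      map_mul' := fun x y => ext_val (by
        change _ = (conjU_aux g x).choose.1.1 * (conjU_aux g y).choose.1.1
        rw [(conjU_aux g _).choose_spec, (conjU_aux g x).choose_spec,
          (conjU_aux g y).choose_spec]
        simp [Matrix.mul_assoc]) }
  map_one' := MulEquiv.ext fun x => ext_val (by
    change (conjU_aux 1 x).choose.1.1 = x.1.1
    rw [(conjU_aux 1 x).choose_spec]; simp)
  map_mul' g h := MulEquiv.ext fun x => ext_val (by
    change (conjU_aux (g * h) x).choose.1.1 = (conjU_aux g (conjU_aux h x).choose).choose.1.1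
    rw [(conjU_aux _ _).choose_spec, (conjU_aux g _).choose_spec, (conjU_aux h x).choose_spec]
    simp [Matrix.mul_assoc])

theorem conjU_val (g : Un) (x : Gn) :
    (conjU g x).1.1 = g.1.val * x.1.1 * (g.1⁻¹ : GL (Fin n) F).val :=
  (conjU_aux g x).choose_spec

theorem map_star_comm (hstar : ∀ x : F, star x = x ^ q) (σ : F ≃+* F) (x : F) :
    σ (star x) = star (σ x) := by rw [hstar, hstar, map_pow]

theorem conjTranspose_map' (hstar : ∀ x : F, star x = x ^ q) (σ : F ≃+* F)
    (A : Matrix (Fin n) (Fin n) F) : (A.map σ)ᴴ = Aᴴ.map σ := by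
  ext i k
  simp [map_star_comm hstar]

theorem map_mul_mat (σ : F ≃+* F) (A B : Matrix (Fin n) (Fin n) F) :
    (A * B).map σ = A.map σ * B.map σ :=
  Matrix.map_mul (f := (σ : F →+* F))

theorem map_one_mat (σ : F ≃+* F) : (1 : Matrix (Fin n) (Fin n) F).map σ = 1 :=
  Matrix.map_one σ (map_zero σ) (map_one σ)

theorem fieldU_aux (σ : F ≃+* F) (x : Gn) : ∃ y : Gn, y.1.1 = x.1.1.map σ := by
  let s : Matrix.SpecialLinearGroup (Fin n) F := ⟨x.1.1.map σ, by
    have h := RingEquiv.map_det σ x.1.1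
    rw [x.1.2, map_one] at h
    exact h.symm⟩
  refine ⟨⟨s, ?_⟩, rfl⟩
  intro u v
  have h := x.2 (σ.symm ∘ u) (σ.symm ∘ v)
  change Cfsg.hermForm n F q (x.1.1 *ᵥ (σ.symm ∘ u)) (x.1.1 *ᵥ (σ.symm ∘ v)) =
    Cfsg.hermForm n F q (σ.symm ∘ u) (σ.symm ∘ v) at h
  have h1 : ∀ w : Fin n → F, x.1.1.map σ *ᵥ w = σ ∘ (x.1.1 *ᵥ (σ.symm ∘ w)) := fun w => by
    funext k
    simp [Matrix.mulVec, dotProduct, map_sum]
  have h2 : ∀ a b : Fin n → F, Cfsg.hermForm n F q (σ ∘ a) (σ ∘ b) =
      σ (Cfsg.hermForm n F q a b) := fun a b => by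
    simp [Cfsg.hermForm, map_sum]
  change Cfsg.hermForm n F q (x.1.1.map σ *ᵥ u) (x.1.1.map σ *ᵥ v) = _
  rw [h1, h1, h2, h, ← h2]
  simp [Function.comp_def]

/-- Field automorphisms of `SU_n`. -/
noncomputable def fieldU : (F ≃+* F) →* MulAut Gn where
  toFun σ :=
    { toFun := fun x => (fieldU_aux σ x).choose
      invFun := fun x => (fieldU_aux σ.symm x).choose
      left_inv := fun x => ext_val (by
        rw [(fieldU_aux σ.symm _).choose_spec, (fieldU_aux σ x).choose_spec]
        ext i k; simp)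
      right_inv := fun x => ext_val (by
        rw [(fieldU_aux σ _).choose_spec, (fieldU_aux σ.symm x).choose_spec]
        ext i k; simp)
      map_mul' := fun x y => ext_val (by
        change _ = (fieldU_aux σ x).choose.1.1 * (fieldU_aux σ y).choose.1.1
        rw [(fieldU_aux σ _).choose_spec, (fieldU_aux σ x).choose_spec,
          (fieldU_aux σ y).choose_spec, ← map_mul_mat]
        rfl) }
  map_one' := MulEquiv.ext fun x => ext_val (by
    change (fieldU_aux 1 x).choose.1.1 = x.1.1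
    rw [(fieldU_aux 1 x).choose_spec]; ext i k; rfl)
  map_mul' g h := MulEquiv.ext fun x => ext_val (by
    change (fieldU_aux (g * h) x).choose.1.1 = (fieldU_aux g (fieldU_aux h x).choose).choose.1.1
    rw [(fieldU_aux _ _).choose_spec, (fieldU_aux g _).choose_spec, (fieldU_aux h x).choose_spec]
    ext i k; rfl)

theorem fieldU_val (σ : F ≃+* F) (x : Gn) : (fieldU σ x).1.1 = x.1.1.map σ :=
  (fieldU_aux σ x).choose_spec

/-- Automorphisms of `SU_n` descend to `PSU_n`. -/
noncomputable def descend : MulAut Gn →* MulAut Pn where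
  toFun e := QuotientGroup.congr _ _ e
    (Subgroup.characteristic_iff_map_eq.mp inferInstance e)
  map_one' := by
    ext g
    obtain ⟨A, rfl⟩ := pu_surjective g
    rfl
  map_mul' e e' := by
    ext g
    obtain ⟨A, rfl⟩ := pu_surjective g
    rfl

/-- Conjugation by `GU_n` on `PSU_n`. -/
noncomputable def cU : Un →* MulAut Pn := descend.comp conjU

/-- Field automorphisms of `PSU_n`. -/
noncomputable def fU : (F ≃+* F) →* MulAut Pn := descend.comp fieldU

theorem cU_apply (g : Un) (x : Gn) : cU g (pu x : Pn) = pu (conjU g x) := rfl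
theorem fU_apply (σ : F ≃+* F) (x : Gn) : fU σ (pu x : Pn) = pu (fieldU σ x) := rfl

theorem cU_toU (x : Gn) : cU (toU x) = MulAut.conj (pu x : Pn) := by
  ext y
  obtain ⟨w, rfl⟩ := pu_surjective y
  rw [cU_apply, MulAut.conj_apply, ← map_inv, ← map_mul, ← map_mul]
  congr 1
  apply ext_val
  rw [conjU_val, toU_val]
  rfl

theorem glField_mem (σ : F ≃+* F) (g : Un) :
    Units.map (σ.mapMatrix : Matrix (Fin n) (Fin n) F ≃+* Matrix (Fin n) (Fin n) F).toMonoidHom g.1
      ∈ Un := by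
  intro u v
  have h := g.2 (σ.symm ∘ u) (σ.symm ∘ v)
  change Cfsg.hermForm n F q (g.1.val *ᵥ (σ.symm ∘ u)) (g.1.val *ᵥ (σ.symm ∘ v)) =
    Cfsg.hermForm n F q (σ.symm ∘ u) (σ.symm ∘ v) at h
  have h1 : ∀ w : Fin n → F, g.1.val.map σ *ᵥ w = σ ∘ (g.1.val *ᵥ (σ.symm ∘ w)) := fun w => by
    funext k
    simp [Matrix.mulVec, dotProduct, map_sum]
  have h2 : ∀ a b : Fin n → F, Cfsg.hermForm n F q (σ ∘ a) (σ ∘ b) =
      σ (Cfsg.hermForm n F q a b) := fun a b => by
    simp [Cfsg.hermForm, map_sum]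
  change Cfsg.hermForm n F q (g.1.val.map σ *ᵥ u) (g.1.val.map σ *ᵥ v) = _
  rw [h1, h1, h2, h, ← h2]
  simp [Function.comp_def]

/-- A field automorphism applied to a unitary matrix. -/
noncomputable def uField (σ : F ≃+* F) : Un →* Un :=
  ((Units.map (σ.mapMatrix : Matrix (Fin n) (Fin n) F ≃+*
      Matrix (Fin n) (Fin n) F).toMonoidHom).comp (Cfsg.GU n F q).subtype).codRestrict _
    (glField_mem σ)

theorem uField_val (σ : F ≃+* F) (g : Un) : (uField σ g).1.val = g.1.val.map σ := rfl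

theorem fU_cU (σ : F ≃+* F) (g : Un) :
    (fU σ : MulAut Pn) * cU g = cU (uField σ g) * fU σ := by
  ext y
  obtain ⟨x, rfl⟩ := pu_surjective y
  simp only [MulAut.mul_apply, cU_apply, fU_apply]
  congr 1
  apply ext_val
  rw [fieldU_val, conjU_val, conjU_val, fieldU_val, map_mul_mat, map_mul_mat, uField_val]
  congr 1

theorem decomp_mul (g g' : Un) (σ σ' : F ≃+* F) :
    (cU g * fU σ) * (cU g' * fU σ') = (cU (g * uField σ g') * fU (σ * σ') : MulAut Pn) := by
  rw [mul_assoc (cU g), ← mul_assoc (fU σ), fU_cU, map_mul, map_mul]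
  simp only [mul_assoc]

theorem induced_iff (g : GL (Fin n) F) (hg : g ∈ Un) (σ : F ≃+* F) (β : MulAut Pn) :
    Cfsg.IsInducedBySemilinearPSU g σ β ↔ β = cU ⟨g, hg⟩ * fU σ := by
  constructor
  · intro h
    ext y
    obtain ⟨x, rfl⟩ := pu_surjective y
    exact h x (conjU ⟨g, hg⟩ (fieldU σ x)) (by rw [conjU_val, fieldU_val])
  · rintro rfl s s' hs
    change pu (conjU ⟨g, hg⟩ (fieldU σ s)) = pu s'
    congr 1
    apply ext_val
    rw [conjU_val, fieldU_val, hs]

theorem innerDiag_iff (β : MulAut Pn) : Cfsg.IsInnerDiagonalAutPSU β ↔ ∃ g, β = cU g := by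
  constructor
  · rintro ⟨g, hg, h⟩
    refine ⟨⟨g, hg⟩, ?_⟩
    ext y
    obtain ⟨x, rfl⟩ := pu_surjective y
    exact h x (conjU ⟨g, hg⟩ x) (by rw [conjU_val])
  · rintro ⟨g, rfl⟩
    refine ⟨g.1, g.2, fun s s' hs => ?_⟩
    change pu (conjU g s) = pu s'
    congr 1
    apply ext_val
    rw [conjU_val, hs]

theorem fieldOf_iff (σ : F ≃+* F) (β : MulAut Pn) : Cfsg.IsFieldAutPSUOf σ β ↔ β = fU σ := by
  constructor
  · intro h
    ext y
    obtain ⟨x, rfl⟩ := pu_surjective y
    exact h x (fieldU σ x) (fieldU_val σ x)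
  · rintro rfl s s' hs
    change pu (fieldU σ s) = pu s'
    congr 1
    apply ext_val
    rw [fieldU_val, hs]

theorem inndiag_eq : Cfsg.inndiagPSU n F q = (cU (n := n) (F := F) (q := q)).range := by
  apply le_antisymm
  · rw [Cfsg.inndiagPSU, Cfsg.autSubgroupOf, Subgroup.closure_le]
    intro β hβ
    obtain ⟨g, rfl⟩ := (innerDiag_iff β).mp hβ
    exact ⟨g, rfl⟩
  · rintro _ ⟨g, rfl⟩
    exact Subgroup.subset_closure ((innerDiag_iff _).mpr ⟨g, rfl⟩)

/-- The semilinear action. -/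
def sact (g : GL (Fin n) F) (σ : F ≃+* F) (v : Fin n → F) : Fin n → F := g.val *ᵥ (σ ∘ v)

theorem herm_comp (hstar : ∀ x : F, star x = x ^ q) (σ : F ≃+* F) (u v : Fin n → F) :
    herm (σ ∘ u) (σ ∘ v) = σ (herm u v) := by
  simp [herm, dotProduct, map_sum, map_star_comm hstar]

theorem herm_sact (hstar : ∀ x : F, star x = x ^ q) (g : Un) (σ : F ≃+* F) (u v : Fin n → F) :
    herm (sact g.1 σ u) (sact g.1 σ v) = σ (herm u v) := by
  rw [← herm_comp hstar, sact, sact, herm, Matrix.star_mulVec, ← Matrix.dotProduct_mulVec,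
    Matrix.mulVec_mulVec, (mem_GU_iff_star hstar _).mp g.2, Matrix.one_mulVec]
  rfl

theorem sact_add (g : GL (Fin n) F) (σ : F ≃+* F) (u v : Fin n → F) :
    sact g σ (u + v) = sact g σ u + sact g σ v := by
  rw [sact, sact, sact, ← Matrix.mulVec_add]
  congr 1
  funext k
  simp

theorem sact_smul (g : GL (Fin n) F) (σ : F ≃+* F) (c : F) (v : Fin n → F) :
    sact g σ (c • v) = σ c • sact g σ v := by
  rw [sact, sact, ← Matrix.mulVec_smul]
  congr 1
  funext k
  simp

theorem sact_injective (g : GL (Fin n) F) (σ : F ≃+* F) : Function.Injective (sact g σ) := by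
  intro u v h
  have h1 := congrArg (fun x => (g⁻¹ : GL (Fin n) F).val *ᵥ x) h
  simp only [sact, Matrix.mulVec_mulVec, Units.inv_mul, Matrix.one_mulVec] at h1
  funext k
  exact σ.injective (congrFun h1 k)

theorem EOk_sact (hstar : ∀ x : F, star x = x ^ q) (g : Un) (σ : F ≃+* F) {e z : Fin n → F} {a : F}
    (h : EOk e z a) : EOk (sact g.1 σ e) (sact g.1 σ z) (σ a) := by
  refine ⟨?_, ?_, ?_⟩ <;> simp only [herm_sact hstar]
  · rw [h.1, map_zero]
  · rw [h.2.1, map_zero]
  · rw [← map_star_comm hstar, ← map_add, ← map_add, h.2.2, map_zero]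

theorem act_conjU_fieldU (g : Un) (σ : F ≃+* F) (x : Gn) (v : Fin n → F) :
    act (conjU g (fieldU σ x)) (sact g.1 σ v) = sact g.1 σ (act x v) := by
  rw [act, conjU_val, fieldU_val, sact, sact, Matrix.mulVec_mulVec, Matrix.mul_assoc,
    Units.inv_mul, Matrix.mul_one, ← Matrix.mulVec_mulVec]
  congr 1
  funext k
  exact (RingHom.map_mulVec (σ : F →+* F) x.1.1 v k).symm

theorem aut_eich (hstar : ∀ x : F, star x = x ^ q) (g : Un) (σ : F ≃+* F) {e z : Fin n → F} {a : F}
    (h : EOk e z a) :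
    (cU g * fU σ : MulAut Pn) (pu (eich hstar e z a)) =
      pu (eich hstar (sact g.1 σ e) (sact g.1 σ z) (σ a)) := by
  rw [MulAut.mul_apply, fU_apply, cU_apply]
  congr 1
  apply eq_of_act
  intro x
  obtain ⟨v, rfl⟩ : ∃ v, sact g.1 σ v = x :=
    (Finite.injective_iff_surjective.mp (sact_injective g.1 σ)) x
  rw [act_conjU_fieldU, act_eich hstar h, act_eich hstar (EOk_sact hstar g σ h)]
  simp only [sact_add, sact_smul, herm_sact hstar, map_sub, map_mul]

end Cfsg.Agent.Small.PSUn
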