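import Mathlib
import Cfsg.Agent.Lib.Small.PSUn.Basic

/-!
The isotropic points of `PSU_n(q)` seen inside the group: centres of Sylow `p`-subgroups, and the
largest normal `p`-subgroup of the normaliser of a transvection group.
-/

set_option autoImplicit false
set_option linter.unusedSectionVars false

namespace Cfsg.Agent.Small.PSUn

open Matrix Cfsg.Agent.Small.Unitary
open scoped Pointwise

variable {F : Type*} [Field F] [Fintype F] [StarRing F] {n q : ℕ}

local notation "Gn" => Cfsg.SU n F q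
local notation "Pn" => Cfsg.PSU n F q
local notation "Vn" => Fin n → F

/-- A representative of an isotropic point. -/
def IsPt (v : Vn) : Prop := v ≠ 0 ∧ herm v v = 0

theorem pair_ne_zero {i j : Fin n} {e f : Vn} (P : Pair i j e f) : e ≠ 0 ∧ f ≠ 0 := by
  constructor <;> intro h <;> have := P.ef <;> rw [h] at this
  · rw [herm_zero_left] at this; exact zero_ne_one this
  · rw [herm_zero_right] at this; exact zero_ne_one this

theorem pair_symm {i j : Fin n} {e f : Vn} (P : Pair i j e f) : Pair i j f e :=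
  ⟨P.ne, P.supp_f, P.supp_e, P.ff, P.ee, P.fe, fun z h1 h2 => P.zero z h2 h1⟩

theorem pair_isPt {i j : Fin n} {e f : Vn} (P : Pair i j e f) : IsPt e ∧ IsPt f :=
  ⟨⟨(pair_ne_zero P).1, P.ee⟩, (pair_ne_zero P).2, P.ff⟩

theorem pair_span {i j : Fin n} {e f : Vn} (P : Pair i j e f) {x : Vn}
    (hx : Supp {i, j} x) : x = herm f x • e + herm e x • f := by
  have h1 := P.decompose (I := {i, j}) (by simp) (by simp) hx
  have h2 : x - herm f x • e - herm e x • f = 0 := funext fun m => h1 m (by simp)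
  rwa [sub_sub, sub_eq_zero] at h2

theorem exists_std (hstar : ∀ x : F, star x = x ^ q) (hF : Fintype.card F = q ^ 2) (hn : 3 ≤ n) :
    ∃ (i j k : Fin n) (e f : Vn), Pair i j e f ∧ k ≠ i ∧ k ≠ j := by
  obtain ⟨e, f, P⟩ := exists_pair hstar hF (n := n) (i := ⟨0, by omega⟩) (j := ⟨1, by omega⟩)
    (by simp [Fin.ext_iff])
  exact ⟨_, _, ⟨2, by omega⟩, e, f, P, by simp [Fin.ext_iff], by simp [Fin.ext_iff]⟩

theorem exists_act_eq (hstar : ∀ x : F, star x = x ^ q) (hF : Fintype.card F = q ^ 2) (hn : 3 ≤ n)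
    {v w : Vn} (hv : IsPt v) (hw : IsPt w) : ∃ g : Gn, act g v = w := by
  have htop : HasTrans hstar (⊤ : Subgroup Gn) := fun _ _ _ _ => trivial
  obtain ⟨i, j, k, e, f, P, hki, hkj⟩ := exists_std hstar hF hn
  have hk : k ∈ (Finset.univ : Finset (Fin n)) \ {i, j} := by simp [hki, hkj]
  have key : ∀ u : Vn, IsPt u → Moves (⊤ : Subgroup Gn) Finset.univ u e := fun u hu =>
    moves_to_e hF htop P (Finset.mem_univ _) (Finset.mem_univ _) hk hu.1 hu.2
      (fun m hm => absurd (Finset.mem_univ m) hm)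
  obtain ⟨g, -, -, hg⟩ := (key v hv).comp (key w hw).symm
  exact ⟨g, hg⟩

theorem IsPt.act (hstar : ∀ x : F, star x = x ^ q) {v : Vn} (hv : IsPt v) (g : Gn) :
    IsPt (Unitary.act g v) :=
  ⟨fun h => hv.1 (act_injective g (h.trans (Matrix.mulVec_zero _).symm)),
    by rw [herm_act hstar]; exact hv.2⟩

theorem IsPt.smul {v : Vn} (hv : IsPt v) {c : F} (hc : c ≠ 0) : IsPt (c • v) :=
  ⟨smul_ne_zero hc hv.1, by rw [herm_smul_left, herm_smul_right, hv.2, mul_zero, mul_zero]⟩

theorem exists_partner (hstar : ∀ x : F, star x = x ^ q) (hF : Fintype.card F = q ^ 2) (hn : 3 ≤ n)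
    {v : Vn} (hv : IsPt v) : ∃ w, IsPt w ∧ herm v w = 1 := by
  obtain ⟨i, j, k, e, f, P, -, -⟩ := exists_std hstar hF hn
  obtain ⟨g, rfl⟩ := exists_act_eq hstar hF hn (pair_isPt P).1 hv
  exact ⟨act g f, (pair_isPt P).2.act hstar g, by rw [herm_act hstar, P.ef]⟩

section PGroup

variable {p : ℕ} [Fact p.Prime] [CharP F p]

theorem exists_fixed {R : Type*} [Group R] (hR : IsPGroup p R) (U : AddSubgroup Vn)
    (ρ : R → Vn → Vn) (hmaps : ∀ r, ∀ u ∈ U, ρ r u ∈ U) (h1 : ∀ u ∈ U, ρ 1 u = u)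
    (hmul : ∀ r s, ∀ u ∈ U, ρ (r * s) u = ρ r (ρ s u)) (h0 : ∀ r, ρ r 0 = 0)
    (hU : ∃ u ∈ U, u ≠ 0) : ∃ u ∈ U, u ≠ 0 ∧ ∀ r, ρ r u = u := by
  let : MulAction R U :=
    { smul := fun r u => ⟨ρ r u.1, hmaps r u.1 u.2⟩
      one_smul := fun u => Subtype.ext (h1 u.1 u.2)
      mul_smul := fun r s u => Subtype.ext (hmul r s u.1 u.2) }
  obtain ⟨u, hu, hu0⟩ := hU
  have hdvd : p ∣ Nat.card U := by
    have hp : addOrderOf (⟨u, hu⟩ : U) = p := by
      apply addOrderOf_eq_prime
      · apply Subtype.ext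
        change p • u = 0
        funext m
        simp [CharP.cast_eq_zero]
      · exact fun h => hu0 (congrArg Subtype.val h)
    exact hp ▸ addOrderOf_dvd_natCard _
  obtain ⟨b, hb, hb0⟩ := hR.exists_fixed_point_of_prime_dvd_card_of_fixed_point U hdvd
    (a := (0 : U)) (fun r => Subtype.ext (h0 r))
  exact ⟨b.1, b.2, fun h => hb0 (Subtype.ext h.symm), fun r => congrArg Subtype.val (hb r)⟩

theorem exists_fixed_point (hstar : ∀ x : F, star x = x ^ q) (hF : Fintype.card F = q ^ 2)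
    (hn : 3 ≤ n) (S : Subgroup Gn) (hS : IsPGroup p S) :
    ∃ e : Vn, IsPt e ∧ ∀ s ∈ S, act s e = e := by
  classical
  have hfix : ∀ U : AddSubgroup Vn, (∀ s ∈ S, ∀ u ∈ U, act s u ∈ U) → (∃ u ∈ U, u ≠ 0) →
      ∃ u ∈ U, u ≠ 0 ∧ ∀ s ∈ S, act s u = u := fun U h hU => by
    obtain ⟨u, hu, hu0, hfix⟩ := exists_fixed hS U (fun s v => act s.1 v)
      (fun s u hu => h s.1 s.2 u hu) (fun u _ => act_one u) (fun r s u _ => act_mul r.1 s.1 u)
      (fun r => Matrix.mulVec_zero _) hU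
    exact ⟨u, hu, hu0, fun s hs => hfix ⟨s, hs⟩⟩
  let i0 : Fin n := ⟨0, by omega⟩
  obtain ⟨v, -, hv0, hv⟩ := hfix ⊤ (fun _ _ _ _ => trivial)
    ⟨Pi.single i0 1, trivial, fun h => (one_ne_zero : (1 : F) ≠ 0) (by simpa using congrFun h i0)⟩
  by_cases hvv : herm v v = 0
  · exact ⟨v, ⟨hv0, hvv⟩, hv⟩
  let U : AddSubgroup Vn :=
    { carrier := {u | herm v u = 0}
      add_mem' := fun {a b} ha hb => by
        change herm v (a + b) = 0
        rw [herm_add_right, ha, hb, add_zero]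
      zero_mem' := herm_zero_right v
      neg_mem' := fun {a} ha => by
        change herm v (-a) = 0
        rw [← neg_one_smul F a, herm_smul_right, ha, mul_zero] }
  have hUinv : ∀ s ∈ S, ∀ u ∈ U, act s u ∈ U := fun s hs u hu => by
    change herm v (act s u) = 0
    rw [← hv s hs, herm_act hstar]
    exact hu
  have hUne : ∃ u ∈ U, u ≠ 0 := by
    obtain ⟨k, hk⟩ : ∃ k, v k ≠ 0 := Function.ne_iff.mp hv0
    obtain ⟨m, hm⟩ : ∃ m : Fin n, m ≠ k := by
      by_cases h : k = i0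
      · exact ⟨⟨1, by omega⟩, by rw [h]; simp [i0, Fin.ext_iff]⟩
      · exact ⟨i0, Ne.symm h⟩
    refine ⟨Pi.single m 1 - (herm v (Pi.single m 1) / herm v v) • v, ?_, fun h => ?_⟩
    · change herm v _ = 0
      rw [herm_sub_right, herm_smul_right, div_mul_cancel₀ _ hvv, sub_self]
    · rw [sub_eq_zero] at h
      have h1 := congrFun h k
      rw [Pi.single_eq_of_ne (Ne.symm hm), Pi.smul_apply, smul_eq_mul] at h1
      rw [(mul_eq_zero.mp h1.symm).resolve_right hk, zero_smul] at h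
      exact (one_ne_zero : (1 : F) ≠ 0) (by simpa using congrFun h m)
  obtain ⟨u, hu, hu0, huf⟩ := hfix U hUinv hUne
  change herm v u = 0 at hu
  by_cases huu : herm u u = 0
  · exact ⟨u, ⟨hu0, huu⟩, huf⟩
  obtain ⟨x, hx⟩ := exists_neg_norm hstar hF (r := -herm u u / herm v v)
    (by rw [star_div₀, star_neg, star_herm, star_herm])
  have huv : herm u v = 0 := by rw [← star_herm, hu, star_zero]
  refine ⟨u + x • v, ⟨fun h => ?_, ?_⟩, fun s hs => by rw [act_add, act_smul, huf s hs, hv s hs]⟩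
  · have h1 := congrArg (herm v) h
    rw [herm_add_right, herm_smul_right, hu, herm_zero_right, zero_add] at h1
    rw [(mul_eq_zero.mp h1).resolve_right hvv, zero_smul, add_zero] at h
    exact hu0 h
  · simp only [herm_add_left, herm_add_right, herm_smul_left, herm_smul_right, hu, huv]
    rw [eq_div_iff hvv] at hx
    linear_combination hx

variable (hstar : ∀ x : F, star x = x ^ q)

/-- The Eichler subgroup at an isotropic vector. -/
noncomputable def Qg {e : Vn} (hee : herm e e = 0) : Subgroup Gn where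
  carrier := {g | ∃ z a, EOk e z a ∧ g = eich hstar e z a}
  one_mem' := ⟨0, 0, (EOk_zero_iff hee).mpr (by simp), (eich_zero_zero hstar hee).symm⟩
  mul_mem' := by
    rintro _ _ ⟨z, a, h, rfl⟩ ⟨w, b, h', rfl⟩
    exact ⟨_, _, h.add h', eich_mul hstar h h'⟩
  inv_mem' := by
    rintro _ ⟨z, a, h, rfl⟩
    have h' : EOk e (-z) (star a) := by
      refine ⟨hee, by rw [← neg_one_smul F z, herm_smul_right, h.2.1, mul_zero], ?_⟩
      rw [← neg_one_smul F z, herm_smul_left, herm_smul_right, star_star, star_neg, star_one]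
      linear_combination h.2.2
    refine ⟨-z, star a, h', inv_eq_of_mul_eq_one_right ?_⟩
    rw [eich_mul hstar h h', add_neg_cancel,
      show a + star a - herm z (-z) = 0 by
        rw [← neg_one_smul F z, herm_smul_right]; linear_combination h.2.2,
      eich_zero_zero hstar hee]

theorem eich_pow {e z : Vn} {a : F} (h : EOk e z a) :
    ∀ m : ℕ, ∃ b, EOk e (m • z) b ∧ eich hstar e z a ^ m = eich hstar e (m • z) b
  | 0 => ⟨0, by rw [zero_smul]; exact (EOk_zero_iff h.1).mpr (by simp),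
      by rw [pow_zero, zero_smul, eich_zero_zero hstar h.1]⟩
  | m + 1 => by
    obtain ⟨b, hb, hm⟩ := eich_pow h m
    refine ⟨b + a - herm (m • z) z, ?_, ?_⟩ <;> rw [succ_nsmul]
    · exact hb.add h
    · rw [pow_succ, hm, eich_mul hstar hb h]

theorem eich_zero_pow {e : Vn} (hee : herm e e = 0) {t : F} (ht : star t = -t) :
    ∀ m : ℕ, eich hstar e 0 t ^ m = eich hstar e 0 ((m : F) * t)
  | 0 => by rw [pow_zero, Nat.cast_zero, zero_mul, eich_zero_zero hstar hee]
  | m + 1 => by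
    have hm : star ((m : F) * t) = -((m : F) * t) := by rw [star_mul', star_natCast, ht, mul_neg]
    rw [pow_succ, eich_zero_pow hee ht m, eich_mul hstar ((EOk_zero_iff hee).mpr hm)
      ((EOk_zero_iff hee).mpr ht), herm_zero_left, add_zero, sub_zero, Nat.cast_succ, add_mul,
      one_mul]

theorem eich_pow_p2 {e z : Vn} {a : F} (h : EOk e z a) :
    eich hstar e z a ^ (p ^ 2) = 1 := by
  obtain ⟨b, hb, hpow⟩ := eich_pow hstar h p
  have hz : p • z = 0 := by
    funext m
    simp [CharP.cast_eq_zero]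
  rw [hz] at hb hpow
  rw [pow_two, pow_mul, hpow, eich_zero_pow hstar h.1 ((EOk_zero_iff h.1).mp hb),
    CharP.cast_eq_zero, zero_mul, eich_zero_zero hstar h.1]

theorem isPGroup_Qg {e : Vn} (hee : herm e e = 0) : IsPGroup p (Qg hstar hee) := by
  rintro ⟨_, z, a, h, rfl⟩
  exact ⟨2, Subtype.ext (eich_pow_p2 hstar h)⟩

theorem fixes_Qg {e : Vn} (hee : herm e e = 0) {g : Gn} (hg : g ∈ Qg hstar hee) : act g e = e := by
  obtain ⟨z, a, h, rfl⟩ := hg
  exact act_eich_self hstar h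

theorem Qg_le_sylow (S : Sylow p Gn) {e : Vn} (hee : herm e e = 0)
    (hS : ∀ s ∈ S, act s e = e) : Qg hstar hee ≤ (S : Subgroup Gn) := by
  have hn : (S : Subgroup Gn) ≤ Subgroup.normalizer (Qg hstar hee : Set Gn) := by
    intro s hs
    have key : ∀ s : Gn, act s e = e → ∀ x ∈ Qg hstar hee, s * x * s⁻¹ ∈ Qg hstar hee := by
      rintro s hs _ ⟨z, a, h, rfl⟩
      have h' := h.act hstar s
      rw [hs] at h'
      exact ⟨_, _, h', by rw [eich_conj hstar s h, hs]⟩
    rw [Subgroup.mem_normalizer_iff]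
    intro x
    refine ⟨key s (hS s hs) x, fun h => ?_⟩
    have h' := key s⁻¹ (hS _ (inv_mem hs)) _ h
    group at h'
    exact h'
  exact sup_eq_left.mp (S.3 (IsPGroup.to_sup_of_normal_right' S.2 (isPGroup_Qg hstar hee) hn)
    le_sup_left)

variable (hF : Fintype.card F = q ^ 2) (hn : 3 ≤ n)

include hstar hF in
theorem exists_skew_scale {x : F} (hx : x ≠ 0) : ∃ c : F, star (c * x) ≠ c * x := by
  obtain ⟨b, hb⟩ := Hermitian.exists_star_ne hstar hF
  exact ⟨b / x, by rwa [div_mul_cancel₀ _ hx]⟩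

include hF hn in
/-- The elements fixing `e` and centralising its Eichler subgroup are transvections. -/
theorem eq_trans_of_commute {e : Vn} (he : IsPt e) {x : Gn} (hxe : act x e = e)
    (hx : ∀ y ∈ Qg hstar he.2, x * y = y * x) :
    ∃ t : F, star t = -t ∧ x = eich hstar e 0 t := by
  obtain ⟨i, j, k, e0, f, P, -, -⟩ := exists_std hstar hF hn
  obtain ⟨g, hg⟩ := exists_act_eq hstar hF hn (pair_isPt P).1 he
  suffices h : ∀ x : Gn, act x e0 = e0 → (∀ y ∈ Qg hstar P.ee, x * y = y * x) →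
      ∃ t : F, star t = -t ∧ x = eich hstar e0 0 t by
    obtain ⟨t, ht, h⟩ := h (g⁻¹ * x * g) (by rw [act_mul, act_mul, hg, hxe, ← hg, act_inv_act]) (by
      rintro _ ⟨z, a, hz, rfl⟩
      have h1 : g * eich hstar e0 z a * g⁻¹ ∈ Qg hstar he.2 := by
        have h' := hz.act hstar g
        rw [hg] at h'
        exact ⟨_, _, h', by rw [eich_conj hstar g hz, hg]⟩
      have h2 := hx _ h1
      calc g⁻¹ * x * g * eich hstar e0 z a
          = g⁻¹ * (x * (g * eich hstar e0 z a * g⁻¹)) * g := by group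
        _ = g⁻¹ * (g * eich hstar e0 z a * g⁻¹ * x) * g := by rw [h2]
        _ = _ := by group)
    refine ⟨t, ht, ?_⟩
    have h3 : x = g * (g⁻¹ * x * g) * g⁻¹ := by group
    rw [h3, h, eich_conj hstar g ((EOk_zero_iff P.ee).mpr ht), hg,
      show act g (0 : Vn) = 0 from Matrix.mulVec_zero _]
  intro x hxe hx
  have hQ : ∀ w ∈ Wsub i j, ∀ b, EOk e0 w b →
      eich hstar e0 (act x w) b = eich hstar e0 w b := by
    intro w _ b hb
    have h1 := eich_conj hstar x hb
    rw [hxe, hx _ ⟨w, b, hb, rfl⟩, mul_inv_cancel_right] at h1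
    exact h1.symm
  have htriv : ∀ w ∈ Wsub i j, ∃ c : F, act x w = w + c • e0 := by
    intro w hw
    obtain ⟨b, hb⟩ := exists_param hstar hF P.ee (P.herm_W hw).1
    have hb' : EOk e0 (act x w) b := by
      have := hb.act hstar x
      rwa [hxe] at this
    have h1 := congrArg (fun y => act y f) (hQ w hw b hb)
    simp only [act_eich hstar hb, act_eich hstar hb', P.ef, one_smul, (P.W_herm hw).2, sub_zero,
      mul_one] at h1
    refine ⟨herm (act x w) f, ?_⟩
    rw [add_assoc, add_assoc, add_right_inj, sub_smul] at h1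
    rw [← sub_eq_zero]
    linear_combination (norm := module) h1
  obtain ⟨z, a, hzW, hok, rfl⟩ := P.eich_of_trivial hstar hxe htriv
  have hreal : ∀ w ∈ Wsub i j, star (herm z w) = herm z w := by
    intro w hw
    obtain ⟨b, hb⟩ := exists_param hstar hF P.ee (P.herm_W hw).1
    have h1 := hQ w hw b hb
    rw [act_eich hstar hok, (P.herm_W hw).1, zero_smul, add_zero, mul_zero, zero_sub,
      eich_shift hstar _ hb] at h1
    have hb' : EOk e0 w (b + -herm z w - star (-herm z w)) := ⟨hb.1, hb.2.1, by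
      rw [star_sub, star_add, star_star]; linear_combination hb.2.2⟩
    have h2 := (eich_inj hstar P.ef (P.herm_W hw).2 (P.herm_W hw).2 hb' hb h1).2
    rw [star_neg] at h2
    linear_combination h2
  have hz0 : z = 0 := by
    funext m
    by_contra hm
    have hmW : (Pi.single m 1 : Vn) ∈ Wsub i j := by
      refine ⟨Pi.single_eq_of_ne (fun h => hm ?_) _, Pi.single_eq_of_ne (fun h => hm ?_) _⟩ <;>
        rw [← h]
      exacts [hzW.1, hzW.2]
    obtain ⟨c, hc⟩ := exists_skew_scale hstar hF (x := star (z m)) (star_ne_zero.mpr hm)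
    apply hc
    have h1 := hreal _ ((Wsub i j).smul_mem c hmW)
    rwa [herm_smul_right, herm_single_right, mul_one] at h1
  subst hz0
  exact ⟨a, (EOk_zero_iff P.ee).mp hok, rfl⟩

include hF hn in
theorem sylow_center_elem (S : Sylow p Gn) {e : Vn} (he : IsPt e)
    (hS : ∀ s ∈ S, act s e = e) (x : Gn) :
    (x ∈ S ∧ ∀ y ∈ S, x * y = y * x) ↔ ∃ t : F, star t = -t ∧ x = eich hstar e 0 t := by
  constructor
  · rintro ⟨hxS, hx⟩
    exact eq_trans_of_commute hstar hF hn he (hS x hxS)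
      fun y hy => hx y (Qg_le_sylow hstar S he.2 hS hy)
  · rintro ⟨t, ht, rfl⟩
    have h := (EOk_zero_iff he.2).mpr ht
    refine ⟨Qg_le_sylow hstar S he.2 hS ⟨0, t, h, rfl⟩, fun y hy => ?_⟩
    have h1 := eich_conj hstar y h
    rw [hS y hy, show act y (0 : Vn) = 0 from Matrix.mulVec_zero _, mul_inv_eq_iff_eq_mul] at h1
    exact h1.symm

include hF hn in
theorem eich_zero_eq_one {e : Vn} (he : IsPt e) {t : F} (ht : star t = -t)
    (h : eich hstar e 0 t = 1) : t = 0 := by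
  obtain ⟨w, -, hew⟩ := exists_partner hstar hF hn he
  have h1 := congrArg (fun g => act g w) h
  simp only [act_eich_zero hstar he.2 ht, act_one, hew, mul_one] at h1
  exact (smul_eq_zero.mp (add_eq_left.mp h1)).resolve_right he.1

include hstar hF hn in
theorem center_pfree {x : Gn} (hx : x ∈ Subgroup.center Gn) {k : ℕ} (hk : x ^ (p ^ k) = 1) :
    x = 1 := by
  have hp : IsPGroup p (Subgroup.zpowers x) := by
    rintro ⟨y, hy⟩
    obtain ⟨m, rfl⟩ := Subgroup.mem_zpowers_iff.mp hy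
    exact ⟨k, Subtype.ext (by
      change (x ^ m) ^ (p ^ k) = 1
      rw [← zpow_natCast, ← _root_.zpow_mul, mul_comm, _root_.zpow_mul, zpow_natCast, hk, _root_.one_zpow])⟩
  obtain ⟨S, hS⟩ := hp.exists_le_sylow
  obtain ⟨e, he, hfix⟩ := exists_fixed_point hstar hF hn (S : Subgroup Gn) S.2
  obtain ⟨t, ht, hxt⟩ := (sylow_center_elem hstar hF hn S he hfix x).mp
    ⟨hS (Subgroup.mem_zpowers x), fun y _ => (Subgroup.mem_center_iff.mp hx y).symm⟩
  obtain ⟨w, hw, hew⟩ := exists_partner hstar hF hn he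
  obtain ⟨g, hg⟩ := exists_act_eq hstar hF hn he hw
  have h1 : g * x * g⁻¹ = x := by
    rw [Subgroup.mem_center_iff.mp hx g, mul_inv_cancel_right]
  rw [hxt, eich_conj hstar g ((EOk_zero_iff he.2).mpr ht), hg,
    show act g (0 : Vn) = 0 from Matrix.mulVec_zero _] at h1
  have h2 := congrArg (fun y => act y w) h1
  simp only [act_eich_zero hstar he.2 ht, act_eich_zero hstar hw.2 ht, hw.2, hew, mul_zero,
    zero_smul, mul_one, add_zero] at h2
  have ht0 : t = 0 := (smul_eq_zero.mp (add_eq_left.mp h2.symm)).resolve_right he.1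
  rw [hxt, ht0, eich_zero_zero hstar he.2]

/-- `p`-elements. -/
def PEl (p : ℕ) {G : Type*} [Group G] (x : G) : Prop := ∃ k : ℕ, x ^ (p ^ k) = 1

theorem PEl_eich {e z : Vn} {a : F} (h : EOk e z a) : PEl p (eich hstar e z a) :=
  ⟨2, eich_pow_p2 hstar h⟩

include hstar hF hn in
theorem pElem_inj {x y : Gn} (hx : PEl p x) (hy : PEl p y) (h : (pu x : Pn) = pu y) : x = y := by
  set c := x⁻¹ * y with hc
  have hcZ : c ∈ Subgroup.center Gn := pu_eq_one.mp (by rw [hc, map_mul, map_inv, h, inv_mul_cancel])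
  obtain ⟨k, hk⟩ := hx
  obtain ⟨l, hl⟩ := hy
  have hxc : Commute x c := Subgroup.mem_center_iff.mp hcZ x
  have h1 : c = 1 := by
    refine center_pfree hstar hF hn hcZ (k := k + l) ?_
    have hy' : y = x * c := by rw [hc, mul_inv_cancel_left]
    have h2 : y ^ (p ^ (k + l)) = 1 := by rw [pow_add, mul_comm, pow_mul, hl, one_pow]
    have h3 : x ^ (p ^ (k + l)) = 1 := by rw [pow_add, pow_mul, hk, one_pow]
    rwa [hy', hxc.mul_pow, h3, one_mul] at h2
  exact inv_mul_eq_one.mp h1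

include hstar hF hn in
theorem pElem_comm {x y : Gn} (hy : PEl p y)
    (h : (pu x : Pn) * pu y = pu y * pu x) : x * y = y * x := by
  obtain ⟨k, hk⟩ := hy
  have h1 : x * y * x⁻¹ = y := by
    refine pElem_inj hstar hF hn ⟨k, ?_⟩ ⟨k, hk⟩ ?_
    · rw [← MulAut.conj_apply, ← map_pow, hk, map_one]
    · rw [map_mul, map_mul, map_inv, h, mul_inv_cancel_right]
  exact mul_inv_eq_iff_eq_mul.mp h1

/-! ### The images in `PSU_n` -/

/-- The transvection group of a point, in `PSU_n`. -/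
def Tb (e : Vn) : Set Pn := {x | ∃ t : F, star t = -t ∧ x = pu (eich hstar e 0 t)}

/-- The centre of a subgroup, as a set. -/
def cset {G : Type*} [Group G] (R : Subgroup G) : Set G :=
  {x | x ∈ R ∧ ∀ y ∈ R, x * y = y * x}

theorem mem_Tb {e : Vn} {t : F} (ht : star t = -t) :
    (pu (eich hstar e 0 t) : Pn) ∈ Tb hstar e := ⟨t, ht, rfl⟩

include hF hn in
theorem cset_sylow_map (S : Sylow p Gn) {e : Vn} (he : IsPt e) (hS : ∀ s ∈ S, act s e = e) :
    cset ((S : Subgroup Gn).map (pu : Gn →* Pn)) = Tb hstar e := by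
  ext x
  constructor
  · rintro ⟨⟨s, hs, rfl⟩, hx⟩
    obtain ⟨t, ht, rfl⟩ := (sylow_center_elem hstar hF hn S he hS s).mp ⟨hs, fun y hy => by
      obtain ⟨m, hm⟩ := S.2 ⟨y, hy⟩
      exact pElem_comm hstar hF hn ⟨m, congrArg Subtype.val hm⟩ (hx _ ⟨y, hy, rfl⟩)⟩
    exact mem_Tb hstar ht
  · rintro ⟨t, ht, rfl⟩
    obtain ⟨h1, h2⟩ := (sylow_center_elem hstar hF hn S he hS _).mpr ⟨t, ht, rfl⟩
    refine ⟨⟨_, h1, rfl⟩, ?_⟩
    rintro _ ⟨y, hy, rfl⟩
    rw [← map_mul, ← map_mul, h2 y hy]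

include hF hn in
theorem cset_sylow (R : Sylow p Pn) : ∃ e, IsPt e ∧ cset (R : Subgroup Pn) = Tb hstar e := by
  obtain ⟨S, rfl⟩ := Sylow.mapSurjective_surjective pu_surjective p R
  obtain ⟨e, he, hfix⟩ := exists_fixed_point hstar hF hn (S : Subgroup Gn) S.2
  exact ⟨e, he, by rw [Sylow.coe_mapSurjective]; exact cset_sylow_map hstar hF hn S he hfix⟩

include hF hn in
theorem exists_sylow {e : Vn} (he : IsPt e) :
    ∃ R : Sylow p Pn, cset (R : Subgroup Pn) = Tb hstar e := by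
  obtain ⟨S, hS⟩ := (isPGroup_Qg hstar he.2 (p := p)).exists_le_sylow
  obtain ⟨e₁, he₁, hfix⟩ := exists_fixed_point hstar hF hn (S : Subgroup Gn) S.2
  obtain ⟨g, hg⟩ := exists_act_eq hstar hF hn he₁ he
  refine ⟨(g • S).mapSurjective pu_surjective, ?_⟩
  rw [Sylow.coe_mapSurjective]
  refine cset_sylow_map hstar hF hn (g • S) he ?_
  intro s hs
  rw [Sylow.smul_def] at hs
  replace hs : s ∈ MulAut.conj g • (S : Subgroup Gn) := hs
  rw [Subgroup.mem_pointwise_smul_iff_inv_smul_mem] at hs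
  have h1 := hfix _ hs
  simp only [MulAut.smul_def, MulAut.inv_apply, MulAut.conj_symm_apply] at h1
  rw [act_mul, act_mul, hg] at h1
  conv_rhs => rw [← hg, ← h1, act_act_inv]

include hF hn in
/-- Automorphisms permute the transvection groups. -/
theorem exists_image (p : ℕ) [Fact p.Prime] [CharP F p] (α : MulAut Pn) {v : Vn} (hv : IsPt v) :
    ∃ w, IsPt w ∧ α '' Tb hstar v = Tb hstar w := by
  obtain ⟨R, hR⟩ := exists_sylow hstar hF hn hv (p := p)
  have hα : Function.Surjective α.toMonoidHom := fun x => α.surjective x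
  obtain ⟨w, hw, hw'⟩ := cset_sylow hstar hF hn (R.mapSurjective hα)
  refine ⟨w, hw, ?_⟩
  rw [← hR, ← hw', Sylow.coe_mapSurjective]
  ext x
  constructor
  · rintro ⟨y, ⟨hy, hy'⟩, rfl⟩
    refine ⟨⟨y, hy, rfl⟩, ?_⟩
    rintro _ ⟨z, hz, rfl⟩
    change α y * α z = α z * α y
    rw [← map_mul, ← map_mul, hy' z hz]
  · rintro ⟨⟨y, hy, rfl⟩, hy'⟩
    refine ⟨y, ⟨hy, fun z hz => α.injective ?_⟩, rfl⟩
    rw [map_mul, map_mul]
    exact hy' _ ⟨z, hz, rfl⟩

theorem Tb_smul {e : Vn} (hee : herm e e = 0) {c : F} (hc : c ≠ 0) :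
    Tb hstar (c • e) = (Tb hstar e : Set Pn) := by
  have hcc : herm (c • e) (c • e) = 0 := by
    rw [herm_smul_left, herm_smul_right, hee, mul_zero, mul_zero]
  have hN : star c * c ≠ 0 := mul_ne_zero (star_ne_zero.mpr hc) hc
  have hNs : star (star c * c) = star c * c := by rw [star_mul', star_star, mul_comm]
  ext x
  constructor
  · rintro ⟨t, ht, rfl⟩
    refine ⟨star c * c * t, by rw [star_mul', hNs, ht, mul_neg], ?_⟩
    rw [eich_smul hstar ((EOk_zero_iff hcc).mpr ht) hc, smul_zero]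
  · rintro ⟨t, ht, rfl⟩
    have ht' : star (t / (star c * c)) = -(t / (star c * c)) := by
      rw [star_div₀, hNs, ht, neg_div]
    refine ⟨_, ht', ?_⟩
    rw [eich_smul hstar ((EOk_zero_iff hcc).mpr ht') hc, smul_zero, mul_div_cancel₀ _ hN]

theorem Tb_conj {e : Vn} (hee : herm e e = 0) (g : Gn) :
    MulAut.conj (pu g : Pn) '' Tb hstar e = Tb hstar (act g e) := by
  have key : ∀ t : F, star t = -t → MulAut.conj (pu g : Pn) (pu (eich hstar e 0 t)) =
      pu (eich hstar (act g e) 0 t) := fun t ht => by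
    rw [MulAut.conj_apply, ← map_inv, ← map_mul, ← map_mul,
      eich_conj hstar g ((EOk_zero_iff hee).mpr ht),
      show act g (0 : Vn) = 0 from Matrix.mulVec_zero _]
  ext x
  constructor
  · rintro ⟨_, ⟨t, ht, rfl⟩, rfl⟩
    exact ⟨t, ht, key t ht⟩
  · rintro ⟨t, ht, rfl⟩
    exact ⟨_, mem_Tb hstar ht, key t ht⟩

include hF hn in
theorem Tb_inj (p : ℕ) [Fact p.Prime] [CharP F p] {v w : Vn} (hv : IsPt v) (hw : IsPt w)
    (h : (Tb hstar v : Set Pn) = Tb hstar w) : ∃ c : F, c ≠ 0 ∧ w = c • v := by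
  obtain ⟨θ, hθ0, hθ⟩ := exists_skew hstar hF
  obtain ⟨t, ht, heq⟩ : (pu (eich hstar w 0 θ) : Pn) ∈ Tb hstar v := h ▸ mem_Tb hstar hθ
  have h1 := pElem_inj hstar hF hn (PEl_eich (p := p) hstar ((EOk_zero_iff hw.2).mpr hθ))
    (PEl_eich (p := p) hstar ((EOk_zero_iff hv.2).mpr ht)) heq
  obtain ⟨u, -, hwu⟩ := exists_partner hstar hF hn hw
  have h2 := congrArg (fun g => act g u) h1
  simp only [act_eich_zero hstar hw.2 hθ, act_eich_zero hstar hv.2 ht, hwu, mul_one,
    add_right_inj] at h2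
  refine ⟨θ⁻¹ * (t * herm v u), fun h0 => ?_, ?_⟩
  · rw [(mul_eq_zero.mp h0).resolve_left (inv_ne_zero hθ0), zero_smul] at h2
    exact smul_ne_zero hθ0 hw.1 h2
  · rw [mul_smul, ← h2, smul_smul, inv_mul_cancel₀ hθ0, one_smul]

include hF hn in
theorem Tb_commute_iff (p : ℕ) [Fact p.Prime] [CharP F p] {v w : Vn} (hv : IsPt v) (hw : IsPt w) :
    (∀ x ∈ (Tb hstar v : Set Pn), ∀ y ∈ (Tb hstar w : Set Pn), x * y = y * x) ↔ herm v w = 0 := by
  constructor
  · intro h
    by_contra hvw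
    obtain ⟨θ, hθ0, hθ⟩ := exists_skew hstar hF
    have hokv := (EOk_zero_iff hv.2).mpr hθ
    have hokw := (EOk_zero_iff hw.2).mpr hθ
    have h1 := pElem_comm hstar hF hn (PEl_eich (p := p) hstar hokw)
      (h _ (mem_Tb hstar hθ) _ (mem_Tb hstar hθ))
    have h2 := congrArg (fun g => act g v) h1
    simp only [act_mul, act_eich_zero hstar hv.2 hθ, act_eich_zero hstar hw.2 hθ, hv.2, mul_zero,
      zero_smul, add_zero, herm_add_right, herm_smul_right, zero_add] at h2
    have hwv : herm w v ≠ 0 := by rw [← star_herm]; exact star_ne_zero.mpr hvw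
    refine smul_ne_zero ?_ hv.1 (add_eq_left.mp h2)
    exact mul_ne_zero hθ0 (mul_ne_zero (mul_ne_zero hθ0 hwv) hvw)
  · rintro hvw _ ⟨t, ht, rfl⟩ _ ⟨s, hs, rfl⟩
    have hwv : herm w v = 0 := by rw [← star_herm, hvw, star_zero]
    rw [← map_mul, ← map_mul]
    congr 1
    apply eq_of_act
    intro x
    simp only [act_mul, act_eich_zero hstar hv.2 ht, act_eich_zero hstar hw.2 hs, herm_add_right,
      herm_smul_right, hvw, hwv, mul_zero, add_zero]
    module

include hF hn in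
theorem mem_normalizer_Tb (p : ℕ) [Fact p.Prime] [CharP F p] {e : Vn} (he : IsPt e) (g : Gn) :
    (pu g : Pn) ∈ Subgroup.normalizer (Tb hstar e) ↔ ∃ c : F, act g e = c • e := by
  have hiff : (pu g : Pn) ∈ Subgroup.normalizer (Tb hstar e) ↔
      MulAut.conj (pu g : Pn) '' Tb hstar e = Tb hstar e := by
    rw [Subgroup.mem_set_normalizer_iff]
    constructor
    · intro h
      ext x
      constructor
      · rintro ⟨y, hy, rfl⟩
        exact (h y).mp hy
      · intro hx
        refine ⟨(MulAut.conj (pu g : Pn))⁻¹ x, (h _).mpr ?_, MulAut.apply_inv_self _ _ _⟩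
        rw [← MulAut.conj_apply, MulAut.apply_inv_self]
        exact hx
    · intro h x
      refine ⟨fun hx => h ▸ ⟨x, hx, rfl⟩, fun hx => ?_⟩
      obtain ⟨y, hy, hyx⟩ := h.symm ▸ hx
      rwa [← (MulAut.conj (pu g : Pn)).injective hyx]
  rw [hiff, Tb_conj hstar he.2]
  constructor
  · intro h
    obtain ⟨c, -, hc⟩ := Tb_inj hstar hF hn p he (he.act hstar g) h.symm
    exact ⟨c, hc⟩
  · rintro ⟨c, hc⟩
    have hc0 : c ≠ 0 := fun h0 => (he.act hstar g).1 (by rw [hc, h0, zero_smul])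
    rw [hc, Tb_smul hstar he.2 hc0]

/-- The Eichler group in `PSU_n`. -/
noncomputable def Qp {e : Vn} (hee : herm e e = 0) : Subgroup Pn := (Qg hstar hee).map pu

include hF hn in
/-- A `p`-group in, and normalised by, the normaliser of `T_e` lies in the Eichler group. -/
theorem le_Qp {i j : Fin n} {e f : Vn} (P : Pair i j e f) (R : Subgroup Pn) (hR : IsPGroup p R)
    (hle : R ≤ Subgroup.normalizer (Tb hstar e))
    (hnorm : ∀ y ∈ Subgroup.normalizer (Tb hstar e), ∀ r ∈ R, y * r * y⁻¹ ∈ R) :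
    R ≤ Qp hstar P.ee := by
  classical
  have he := (pair_isPt P).1
  let C : Subgroup Gn := R.comap pu
  let π : C →* R := (pu.comp C.subtype).codRestrict R fun x => x.2
  have hπ : Function.Surjective π := fun r => by
    obtain ⟨g, hg⟩ := pu_surjective r.1
    exact ⟨⟨g, show pu g ∈ R from hg ▸ r.2⟩, Subtype.ext hg⟩
  obtain ⟨S₁⟩ : Nonempty (Sylow p C) := inferInstance
  have htop : ((S₁.mapSurjective hπ : Sylow p R) : Subgroup R) = ⊤ :=
    ((S₁.mapSurjective hπ).3 (hR.to_subgroup ⊤) le_top).symm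
  let S₀ : Subgroup Gn := (S₁ : Subgroup C).map C.subtype
  have hS₀ : IsPGroup p S₀ := S₁.2.map _
  have hS₀pel : ∀ s ∈ S₀, PEl p s := fun s hs => by
    obtain ⟨k, hk⟩ := hS₀ ⟨s, hs⟩
    exact ⟨k, congrArg Subtype.val hk⟩
  have hS₀R : ∀ s ∈ S₀, (pu s : Pn) ∈ R := by
    rintro _ ⟨s, -, rfl⟩
    exact s.2
  have hlift : ∀ r ∈ R, ∃ s ∈ S₀, (pu s : Pn) = r := by
    intro r hr
    have : (⟨r, hr⟩ : R) ∈ ((S₁.mapSurjective hπ : Sylow p R) : Subgroup R) := htop ▸ trivial
    rw [Sylow.coe_mapSurjective] at this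
    obtain ⟨s, hs, hsr⟩ := this
    exact ⟨s.1, ⟨s, hs, rfl⟩, congrArg Subtype.val hsr⟩
  have hconj : ∀ g : Gn, act g e = e → ∀ s ∈ S₀, g * s * g⁻¹ ∈ S₀ := by
    intro g hg s hs
    have hgN : (pu g : Pn) ∈ Subgroup.normalizer (Tb hstar e) :=
      (mem_normalizer_Tb hstar hF hn p he g).mpr ⟨1, by rw [hg, one_smul]⟩
    obtain ⟨s', hs', hss'⟩ := hlift _ (hnorm _ hgN _ (hS₀R s hs))
    have hp : PEl p (g * s * g⁻¹) := by
      obtain ⟨k, hk⟩ := hS₀pel s hs
      exact ⟨k, by rw [← MulAut.conj_apply, ← map_pow, hk, map_one]⟩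
    rw [pElem_inj hstar hF hn hp (hS₀pel s' hs') (by rw [hss', map_mul, map_mul, map_inv])]
    exact hs'
  have hfix : ∀ s ∈ S₀, act s e = e := by
    intro s hs
    obtain ⟨c, hc⟩ := (mem_normalizer_Tb hstar hF hn p he s).mp (hle (hS₀R s hs))
    obtain ⟨k, hk⟩ := hS₀pel s hs
    have hpow : ∀ m : ℕ, act (s ^ m) e = c ^ m • e := fun m => by
      induction m with
      | zero => rw [pow_zero, pow_zero, act_one, one_smul]
      | succ m ih => rw [pow_succ', act_mul, ih, act_smul, hc, smul_smul, pow_succ]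
    have h1 := hpow (p ^ k)
    rw [hk, act_one] at h1
    have h3 : c ^ p ^ k = 1 :=
      (smul_left_injective F he.1) (h1.symm.trans (one_smul F e).symm)
    have h4 : (c - 1) ^ p ^ k = 0 := by rw [sub_pow_char_pow, one_pow, h3, sub_self]
    rw [hc, sub_eq_zero.mp (eq_zero_of_pow_eq_zero h4), one_smul]
  let U : Submodule F Vn :=
    { carrier := {w | w ∈ Wsub i j ∧ ∀ s ∈ S₀, ∃ c : F, act s w = w + c • e}
      zero_mem' := ⟨(Wsub i j).zero_mem, fun s _ => ⟨0, by
        rw [zero_smul, add_zero]; exact Matrix.mulVec_zero _⟩⟩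
      add_mem' := fun {a b} ha hb => ⟨(Wsub i j).add_mem ha.1 hb.1, fun s hs => by
        obtain ⟨c, hc⟩ := ha.2 s hs
        obtain ⟨d, hd⟩ := hb.2 s hs
        exact ⟨c + d, by rw [act_add, hc, hd, add_smul]; abel⟩⟩
      smul_mem' := fun r w hw => ⟨(Wsub i j).smul_mem r hw.1, fun s hs => by
        obtain ⟨c, hc⟩ := hw.2 s hs
        exact ⟨r * c, by rw [act_smul, hc, smul_add, smul_smul]⟩⟩ }
  suffices hU : ∀ m : Fin n, m ≠ i → m ≠ j → (Pi.single m 1 : Vn) ∈ U by
    intro r hr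
    obtain ⟨s, hs, rfl⟩ := hlift r hr
    have hW : ∀ w ∈ Wsub i j, w ∈ U := by
      intro w hw
      rw [← Finset.univ_sum_single w]
      refine Submodule.sum_mem _ fun m _ => ?_
      by_cases hm : m = i ∨ m = j
      · rcases hm with rfl | rfl
        · rw [hw.1, Pi.single_zero]; exact U.zero_mem
        · rw [hw.2, Pi.single_zero]; exact U.zero_mem
      · push Not at hm
        have := U.smul_mem (w m) (hU m hm.1 hm.2)
        rwa [← Pi.single_smul, smul_eq_mul, mul_one] at this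
    obtain ⟨z, a, -, hok, rfl⟩ := P.eich_of_trivial hstar (hfix s hs)
      (fun w hw => (hW w hw).2 s hs)
    exact ⟨_, ⟨z, a, hok, rfl⟩, rfl⟩
  -- a nonzero vector of `U`
  obtain ⟨k₀, hk₀i, hk₀j⟩ : ∃ k : Fin n, k ≠ i ∧ k ≠ j := by
    by_contra! h
    have hsub : (Finset.univ : Finset (Fin n)) ⊆ {i, j} := fun c _ => by
      by_cases hc : c = i
      · simp [hc]
      · simp [h c hc]
    have := (Finset.card_le_card hsub).trans Finset.card_le_two
    rw [Finset.card_univ, Fintype.card_fin] at this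
    omega
  have hρ : ∀ s ∈ S₀, ∀ w ∈ Wsub i j, ∃ c : F, act s w = projW e f (act s w) + c • e := by
    intro s hs w hw
    refine ⟨herm f (act s w), ?_⟩
    have h1 : herm e (act s w) = 0 := by
      rw [← hfix s hs, herm_act hstar]; exact (P.herm_W hw).1
    rw [projW, h1, zero_smul]
    abel
  obtain ⟨u, ⟨huU, hu0⟩⟩ : ∃ u, u ∈ U ∧ u ≠ 0 := by
    obtain ⟨u, hu, hu0, hfixu⟩ := exists_fixed hS₀ (Wsub i j).toAddSubgroup
      (fun s v => projW e f (act s.1 v)) (fun s v _ => P.projW_mem _)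
      (fun v hv => by
        change projW e f (act 1 v) = v
        rw [act_one, projW, (P.herm_W hv).1, (P.herm_W hv).2, zero_smul, zero_smul, sub_zero,
          sub_zero])
      (fun r s v hv => by
        obtain ⟨c, hc⟩ := hρ s.1 s.2 v hv
        change projW e f (act (r.1 * s.1) v) = projW e f (act r.1 (projW e f (act s.1 v)))
        conv_lhs => rw [act_mul, hc, act_add, act_smul, hfix r.1 r.2]
        simp only [projW, herm_add_right, herm_smul_right, P.ee, P.fe]
        module)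
      (fun r => by
        rw [show act r.1 (0 : Vn) = 0 from Matrix.mulVec_zero _, projW, herm_zero_right,
          herm_zero_right, zero_smul, zero_smul, sub_zero, sub_zero])
      ⟨Pi.single k₀ 1, show _ ∈ Wsub i j from mem_Wsub.mpr ⟨Pi.single_eq_of_ne (Ne.symm hk₀i) _, Pi.single_eq_of_ne (Ne.symm hk₀j) _⟩,
        fun h => (one_ne_zero : (1 : F) ≠ 0) (by simpa using congrFun h k₀)⟩
    refine ⟨u, ⟨hu, fun s hs => ?_⟩, hu0⟩
    obtain ⟨c, hc⟩ := hρ s hs u hu
    exact ⟨c, by rwa [show projW e f (act s u) = u from hfixu ⟨s, hs⟩] at hc⟩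
  obtain ⟨θ, hθ0, hθ⟩ := exists_skew hstar hF
  have hcontain : ∀ v ∈ Wsub i j, herm v v = 0 → ∀ w ∈ U, herm v w ≠ 0 → v ∈ U := by
    intro v hvW hv w hw hvw
    set τ := eich hstar v 0 θ with hτdef
    have hτ : ∀ x, act τ x = x + (θ * herm v x) • v := fun x => act_eich_zero hstar hv hθ x
    have hτe : act τ e = e := by rw [hτ, (P.W_herm hvW).1, mul_zero, zero_smul, add_zero]
    have hτinv : act τ⁻¹ e = e := by
      conv_lhs => rw [← hτe]
      rw [act_inv_act]
    have h1 : act τ w ∈ U := by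
      refine ⟨by rw [hτ]; exact (Wsub i j).add_mem hw.1 ((Wsub i j).smul_mem _ hvW),
        fun s hs => ?_⟩
      obtain ⟨c, hc⟩ := hw.2 _ (hconj τ⁻¹ hτinv s hs)
      refine ⟨c, ?_⟩
      have h2 := congrArg (act τ) hc
      rw [inv_inv, act_mul, act_mul, act_act_inv, act_add, act_smul, hτe] at h2
      exact h2
    have h2 := U.sub_mem h1 hw
    rw [hτ, add_sub_cancel_left] at h2
    have h3 := U.smul_mem (θ * herm v w)⁻¹ h2
    rwa [smul_smul, inv_mul_cancel₀ (mul_ne_zero hθ0 hvw), one_smul] at h3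
  obtain ⟨k, hk⟩ : ∃ k, u k ≠ 0 := Function.ne_iff.mp hu0
  have hki : k ≠ i := fun h => hk (h ▸ huU.1.1)
  have hkj : k ≠ j := fun h => hk (h ▸ huU.1.2)
  have hpairU : ∀ m : Fin n, m ≠ i → m ≠ j → m ≠ k →
      (Pi.single k 1 : Vn) ∈ U ∧ (Pi.single m 1 : Vn) ∈ U := by
    intro m hmi hmj hmk
    obtain ⟨v, v', P'⟩ := exists_pair hstar hF (Ne.symm hmk)
    have hsW : ∀ x : Vn, Supp {k, m} x → x ∈ Wsub i j := fun x hx =>
      ⟨hx i (by simp [Ne.symm hki, Ne.symm hmi]), hx j (by simp [Ne.symm hkj, Ne.symm hmj])⟩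
    have hne : herm v u ≠ 0 ∨ herm v' u ≠ 0 := by
      by_contra! h
      exact hk (P'.zero u h.1 h.2).1
    have hboth : v ∈ U ∧ v' ∈ U := by
      rcases hne with h | h
      · have hv := hcontain v (hsW v P'.supp_e) P'.ee u huU h
        exact ⟨hv, hcontain v' (hsW v' P'.supp_f) P'.ff v hv (by rw [P'.fe]; exact one_ne_zero)⟩
      · have hv := hcontain v' (hsW v' P'.supp_f) P'.ff u huU h
        exact ⟨hcontain v (hsW v P'.supp_e) P'.ee v' hv (by rw [P'.ef]; exact one_ne_zero), hv⟩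
    constructor <;> rw [pair_span P' (Supp.single (by simp) (1 : F))] <;>
      exact U.add_mem (U.smul_mem _ hboth.1) (U.smul_mem _ hboth.2)
  intro m hmi hmj
  by_cases hmk : m = k
  · by_cases hex : ∃ m' : Fin n, m' ≠ i ∧ m' ≠ j ∧ m' ≠ k
    · obtain ⟨m', h1, h2, h3⟩ := hex
      exact hmk ▸ (hpairU m' h1 h2 h3).1
    · push Not at hex
      have huk : u = Pi.single k (u k) := by
        funext x
        by_cases hx : x = k
        · rw [hx, Pi.single_eq_same]
        · rw [Pi.single_eq_of_ne hx]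
          by_cases hxi : x = i
          · exact hxi ▸ huU.1.1
          by_cases hxj : x = j
          · exact hxj ▸ huU.1.2
          exact absurd (hex x hxi hxj) hx
      have := U.smul_mem (u k)⁻¹ huU
      rw [huk, ← Pi.single_smul, smul_eq_mul, Pi.single_eq_same, inv_mul_cancel₀ hk] at this
      exact hmk ▸ this
  · exact (hpairU m hmi hmj hmk).2

end PGroup

end Cfsg.Agent.Small.PSUn
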