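import Mathlib
import Cfsg.Agent.Lib.Small.PSUn.Points

/-!
The stabiliser of a hyperbolic pair acting on the complement: its additive commutant consists of
scalars, and it admits no equivariant additive map to the skew scalars.
-/

set_option autoImplicit false
set_option linter.unusedSectionVars false

namespace Cfsg.Agent.Small.PSUn

open Matrix Cfsg.Agent.Small.Unitary

variable {F : Type*} [Field F] [Fintype F] [StarRing F] {n q : ℕ}

local notation "Gn" => Cfsg.SU n F q
local notation "Vn" => Fin n → F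

/-- `e ↦ λ e`, `f ↦ (star λ)⁻¹ f`, identity on the complement. -/
def dMat (e f : Vn) (l : F) : Matrix (Fin n) (Fin n) F :=
  1 + (l - 1) • Matrix.vecMulVec e (star f) + ((star l)⁻¹ - 1) • Matrix.vecMulVec f (star e)

theorem dMat_mulVec (e f : Vn) (l : F) (x : Vn) :
    dMat e f l *ᵥ x = x + ((l - 1) * herm f x) • e + (((star l)⁻¹ - 1) * herm e x) • f := by
  rw [dMat, Matrix.add_mulVec, Matrix.add_mulVec, Matrix.one_mulVec, Matrix.smul_mulVec,
    Matrix.smul_mulVec, Matrix.vecMulVec_mulVec, Matrix.vecMulVec_mulVec]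
  funext m
  simp [herm]
  ring

theorem dMat_one (e f : Vn) : dMat e f 1 = 1 := by simp [dMat]

theorem dMat_mul {i j : Fin n} {e f : Vn} (P : Pair i j e f) (l m : F) :
    dMat e f l * dMat e f m = dMat e f (l * m) := by
  apply ext_mulVec
  intro x
  rw [← Matrix.mulVec_mulVec, dMat_mulVec, dMat_mulVec, dMat_mulVec]
  simp only [herm_add_right, herm_smul_right, P.ee, P.ff, P.ef, P.fe, star_mul', mul_inv]
  module

theorem dMat_conjTranspose (e f : Vn) (l : F) : (dMat e f l)ᴴ = dMat e f l⁻¹ := by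
  ext a b
  simp [dMat, Matrix.vecMulVec_apply, Matrix.one_apply, eq_comm, apply_ite star, star_inv₀]
  ring

theorem dMat_unitary {i j : Fin n} {e f : Vn} (P : Pair i j e f) {l : F} (hl : l ≠ 0) :
    (dMat e f l)ᴴ * dMat e f l = 1 := by
  rw [dMat_conjTranspose, dMat_mul P, inv_mul_cancel₀ hl, dMat_one]

theorem dMat_det {i j : Fin n} {e f : Vn} (P : Pair i j e f) (l : F) :
    (dMat e f l).det = l * (star l)⁻¹ := by
  let A : Matrix (Fin n) (Fin 2) F :=
    Matrix.of fun m r => (![(l - 1) • e, ((star l)⁻¹ - 1) • f] r : Vn) m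
  let B : Matrix (Fin 2) (Fin n) F := Matrix.of fun r m => (![star f, star e] r : Vn) m
  have hAB : dMat e f l = 1 + A * B := by
    ext a b
    simp [dMat, A, B, Matrix.mul_apply, Fin.sum_univ_two, Matrix.vecMulVec_apply]
    ring
  have hBA : B * A = !![l - 1, 0; 0, (star l)⁻¹ - 1] := by
    ext r s
    have h0 : (B * A) r s =
        (![star f, star e] r : Vn) ⬝ᵥ (![(l - 1) • e, ((star l)⁻¹ - 1) • f] s : Vn) := rfl
    rw [h0]
    fin_cases r <;> fin_cases s <;> simp [dotProduct_smul] <;>
      simp only [← herm.eq_def, P.ee, P.ff, P.ef, P.fe] <;> simp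
  rw [hAB, Matrix.det_one_add_mul_comm, hBA]
  simp [Matrix.det_fin_two]

/-- `w ↦ η w` on a unit vector, identity on its orthogonal. -/
def oMat (w : Vn) (η : F) : Matrix (Fin n) (Fin n) F :=
  1 + (η - 1) • Matrix.vecMulVec w (star w)

theorem oMat_mulVec (w : Vn) (η : F) (x : Vn) :
    oMat w η *ᵥ x = x + ((η - 1) * herm w x) • w := by
  rw [oMat, Matrix.add_mulVec, Matrix.one_mulVec, Matrix.smul_mulVec, Matrix.vecMulVec_mulVec]
  funext m
  simp [herm]
  ring

theorem oMat_unitary {w : Vn} (hw : herm w w = 1) {η : F} (hη : star η * η = 1) :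
    (oMat w η)ᴴ * oMat w η = 1 := by
  have h1 : (oMat w η)ᴴ = oMat w (star η) := by
    rw [oMat, oMat, Matrix.conjTranspose_add, Matrix.conjTranspose_one, Matrix.conjTranspose_smul,
      Matrix.conjTranspose_vecMulVec, star_star, star_sub, star_one]
  rw [h1]
  apply ext_mulVec
  intro x
  rw [← Matrix.mulVec_mulVec, oMat_mulVec, oMat_mulVec, Matrix.one_mulVec, herm_add_right,
    herm_smul_right, hw, add_assoc, ← add_smul]
  have h2 : (η - 1) * herm w x + (star η - 1) * (herm w x + (η - 1) * herm w x * 1) = 0 := by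
    linear_combination (herm w x) * hη
  rw [h2, zero_smul, add_zero]

theorem oMat_det {w : Vn} (hw : herm w w = 1) (η : F) : (oMat w η).det = η := by
  rw [oMat, ← Matrix.smul_vecMulVec, Matrix.vecMulVec_eq Unit,
    Matrix.det_one_add_replicateCol_mul_replicateRow, dotProduct_smul]
  change 1 + (η - 1) • herm w w = η
  rw [hw, smul_eq_mul, mul_one, add_sub_cancel]

theorem herm_single_one (k : Fin n) : herm (Pi.single k 1 : Vn) (Pi.single k 1) = 1 := by
  rw [herm_single_left, Pi.single_eq_same, star_one, one_mul]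

variable (hstar : ∀ x : F, star x = x ^ q)

/-- `L` is the action of an element of the pair stabiliser on the complement. -/
def InL (q : ℕ) (i j : Fin n) (e f : Vn) (L : Vn → Vn) (lam : F) : Prop :=
  ∃ (h : Cfsg.SU n F q) (ν : F), act h e = lam • e ∧ act h f = ν • f ∧
    ∀ z ∈ Wsub i j, L z = star lam • act h z

theorem act_mem_W {i j : Fin n} {e f : Vn} (P : Pair i j e f) {h : Gn} {lam ν : F}
    (he : act h e = lam • e) (hf : act h f = ν • f) (hstar : ∀ x : F, star x = x ^ q) {z : Vn}
    (hz : z ∈ Wsub i j) : act h z ∈ Wsub i j := by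
  have h1 := herm_act hstar h e f
  rw [he, hf, herm_smul_left, herm_smul_right, P.ef, mul_one] at h1
  have hl : star lam ≠ 0 := fun h0 => by rw [h0, zero_mul] at h1; exact zero_ne_one h1
  have hν : star ν ≠ 0 := star_ne_zero.mpr fun h0 => by rw [h0, mul_zero] at h1; exact zero_ne_one h1
  refine P.zero _ ?_ ?_
  · have h2 := herm_act hstar h e z
    rw [he, herm_smul_left, (P.herm_W hz).1] at h2
    exact (mul_eq_zero.mp h2).resolve_left hl
  · have h2 := herm_act hstar h f z
    rw [hf, herm_smul_left, (P.herm_W hz).2] at h2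
    exact (mul_eq_zero.mp h2).resolve_left hν

include hstar in
theorem inL_trans {i j : Fin n} {e f : Vn} (P : Pair i j e f) {v : Vn} (hv : v ∈ Wsub i j)
    (hvv : herm v v = 0) {t : F} (ht : star t = -t) :
    InL q i j e f (fun z => z + (t * herm v z) • v) 1 := by
  refine ⟨eich hstar v 0 t, 1, ?_, ?_, fun z _ => ?_⟩
  · rw [act_eich_zero hstar hvv ht, (P.W_herm hv).1, mul_zero, zero_smul, add_zero, one_smul]
  · rw [act_eich_zero hstar hvv ht, (P.W_herm hv).2, mul_zero, zero_smul, add_zero, one_smul]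
  · rw [act_eich_zero hstar hvv ht, star_one, one_smul]

include hstar in
theorem inL_one {i j : Fin n} {e f : Vn} (P : Pair i j e f) {k : Fin n} (hki : k ≠ i)
    (hkj : k ≠ j) {l : F} (hl : l ≠ 0) :
    InL q i j e f
      (fun z => star l • (z + ((star l / l - 1) * z k) • (Pi.single k 1 : Vn))) l := by
  have hkW : (Pi.single k 1 : Vn) ∈ Wsub i j :=
    ⟨Pi.single_eq_of_ne (Ne.symm hki) _, Pi.single_eq_of_ne (Ne.symm hkj) _⟩
  have hls : star l ≠ 0 := star_ne_zero.mpr hl
  have hw : herm (Pi.single k 1 : Vn) (Pi.single k 1) = 1 := herm_single_one k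
  have hη : star (star l / l) * (star l / l) = 1 := by
    rw [star_div₀, star_star]; field_simp
  let h : Gn := mkSU hstar (dMat e f l * oMat (Pi.single k 1) (star l / l))
    (by
      rw [Matrix.conjTranspose_mul, Matrix.mul_assoc, ← Matrix.mul_assoc (dMat e f l)ᴴ,
        dMat_unitary P hl, Matrix.one_mul, oMat_unitary hw hη])
    (by rw [Matrix.det_mul, dMat_det P, oMat_det hw]; field_simp)
  have hact : ∀ x, act h x = dMat e f l *ᵥ (oMat (Pi.single k 1) (star l / l) *ᵥ x) := fun x =>
    (Matrix.mulVec_mulVec x _ _).symm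
  refine ⟨h, (star l)⁻¹, ?_, ?_, fun z hz => ?_⟩
  · rw [hact, oMat_mulVec, (P.W_herm hkW).1, mul_zero, zero_smul, add_zero, dMat_mulVec, P.fe,
      P.ee]
    module
  · rw [hact, oMat_mulVec, (P.W_herm hkW).2, mul_zero, zero_smul, add_zero, dMat_mulVec, P.ff,
      P.ef]
    module
  · rw [hact, oMat_mulVec, dMat_mulVec, herm_single_left, star_one, one_mul]
    have hz' := (Wsub i j).add_mem hz ((Wsub i j).smul_mem ((star l / l - 1) * z k) hkW)
    rw [(P.herm_W hz').1, (P.herm_W hz').2, mul_zero, mul_zero, zero_smul, zero_smul, add_zero,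
      add_zero]

include hstar in
theorem inL_two {i j k m : Fin n} {e f v v' : Vn} (P : Pair i j e f) (P' : Pair k m v v')
    (hv : v ∈ Wsub i j) (hv' : v' ∈ Wsub i j) {μ : F} (hμ : μ ≠ 0) :
    InL q i j e f (fun z => μ • (dMat v v' μ *ᵥ z)) (star μ) := by
  have hμs : star μ ≠ 0 := star_ne_zero.mpr hμ
  let h : Gn := mkSU hstar (dMat e f (star μ) * dMat v v' μ)
    (by
      rw [Matrix.conjTranspose_mul, Matrix.mul_assoc, ← Matrix.mul_assoc (dMat e f (star μ))ᴴ,
        dMat_unitary P hμs, Matrix.one_mul, dMat_unitary P' hμ])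
    (by rw [Matrix.det_mul, dMat_det P, dMat_det P', star_star]; field_simp)
  have hact : ∀ x, act h x = dMat e f (star μ) *ᵥ (dMat v v' μ *ᵥ x) := fun x =>
    (Matrix.mulVec_mulVec x _ _).symm
  refine ⟨h, μ⁻¹, ?_, ?_, fun z hz => ?_⟩
  · rw [hact, dMat_mulVec v v', (P.W_herm hv).1, (P.W_herm hv').1, mul_zero, mul_zero, zero_smul,
      zero_smul, add_zero, add_zero, dMat_mulVec, P.fe, P.ee]
    module
  · rw [hact, dMat_mulVec v v', (P.W_herm hv).2, (P.W_herm hv').2, mul_zero, mul_zero, zero_smul,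
      zero_smul, add_zero, add_zero, dMat_mulVec, P.ff, P.ef, star_star]
    module
  · have hz' : dMat v v' μ *ᵥ z ∈ Wsub i j := by
      rw [dMat_mulVec]
      exact (Wsub i j).add_mem ((Wsub i j).add_mem hz ((Wsub i j).smul_mem _ hv))
        ((Wsub i j).smul_mem _ hv')
    rw [hact, star_star, dMat_mulVec e f, (P.herm_W hz').1, (P.herm_W hz').2, mul_zero, mul_zero,
      zero_smul, zero_smul, add_zero, add_zero]

variable (hF : Fintype.card F = q ^ 2) (hn : 3 ≤ n)

include hstar hF in
theorem exists_ratio {m : ℕ} (hm0 : 0 < m) (hmq : m ≤ q) :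
    ∃ μ : F, μ ≠ 0 ∧ (star μ / μ) ^ m ≠ 1 := by
  obtain ⟨g, hg⟩ := IsCyclic.exists_ofOrder_eq_natCard (α := Fˣ)
  rw [Nat.card_units, Nat.card_eq_fintype_card, hF] at hg
  have hq := Hermitian.q_two_le hF
  refine ⟨(g : F), g.ne_zero, fun h => ?_⟩
  have h1 : g ^ ((q - 1) * m) = 1 := by
    apply Units.ext
    rw [Units.val_pow_eq_pow_val, Units.val_one, ← h, pow_mul, hstar]
    congr 1
    rw [eq_div_iff g.ne_zero, ← pow_succ, Nat.sub_add_cancel (by omega)]
  rw [← orderOf_dvd_iff_pow_eq_one, hg] at h1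
  have h2 := Nat.le_of_dvd (Nat.mul_pos (by omega) hm0) h1
  have h3 : (q - 1) * m ≤ (q - 1) * q := Nat.mul_le_mul_left _ hmq
  have h4 : (q - 1) * q < q ^ 2 - 1 := by
    rw [Hermitian.sq_sub_one, mul_comm (q + 1)]
    exact Nat.mul_lt_mul_of_pos_left (by omega) (by omega)
  omega

theorem exists_real_decomp {ν : F} (hν : star ν ≠ ν) (x : F) :
    ∃ a b : F, star a = a ∧ star b = b ∧ x = a + b * ν := by
  have hd : ν - star ν ≠ 0 := sub_ne_zero.mpr (Ne.symm hν)
  set b := (x - star x) / (ν - star ν) with hb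
  have hbs : star b = b := by
    rw [hb, star_div₀, star_sub, star_sub, star_star, star_star, ← neg_sub x, ← neg_sub ν,
      neg_div_neg_eq]
  refine ⟨x - b * ν, b, ?_, hbs, by ring⟩
  have h1 : b * (ν - star ν) = x - star x := div_mul_cancel₀ _ hd
  rw [star_sub, star_mul', hbs]
  linear_combination h1

theorem W_cases (i j : Fin n) (hn : 3 ≤ n) :
    (∃ k m : Fin n, k ≠ i ∧ k ≠ j ∧ m ≠ i ∧ m ≠ j ∧ k ≠ m) ∨
      (∃ k : Fin n, k ≠ i ∧ k ≠ j ∧ ∀ m : Fin n, m = i ∨ m = j ∨ m = k) := by
  obtain ⟨k, hki, hkj⟩ : ∃ k : Fin n, k ≠ i ∧ k ≠ j := by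
    by_contra! h
    have hsub : (Finset.univ : Finset (Fin n)) ⊆ {i, j} := fun c _ => by
      by_cases hc : c = i
      · simp [hc]
      · simp [h c hc]
    have := (Finset.card_le_card hsub).trans Finset.card_le_two
    rw [Finset.card_univ, Fintype.card_fin] at this
    omega
  by_cases hex : ∃ m : Fin n, m ≠ i ∧ m ≠ j ∧ m ≠ k
  · obtain ⟨m, h1, h2, h3⟩ := hex
    exact Or.inl ⟨k, m, hki, hkj, h1, h2, Ne.symm h3⟩
  · push Not at hex
    refine Or.inr ⟨k, hki, hkj, fun m => ?_⟩
    by_cases h1 : m = i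
    · exact Or.inl h1
    by_cases h2 : m = j
    · exact Or.inr (Or.inl h2)
    exact Or.inr (Or.inr (hex m h1 h2))

theorem n_eq_three {i j k : Fin n} (hall : ∀ m : Fin n, m = i ∨ m = j ∨ m = k) (hn : 3 ≤ n) :
    n = 3 := by
  have hsub : (Finset.univ : Finset (Fin n)) ⊆ {i, j, k} := fun m _ => by simpa using hall m
  have := (Finset.card_le_card hsub).trans Finset.card_le_three
  rw [Finset.card_univ, Fintype.card_fin] at this
  omega

theorem single_of_one {i j k : Fin n} (hall : ∀ m : Fin n, m = i ∨ m = j ∨ m = k) {z : Vn}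
    (hz : z ∈ Wsub i j) : z = z k • (Pi.single k 1 : Vn) := by
  funext m
  rcases hall m with rfl | rfl | rfl
  · rcases eq_or_ne m k with rfl | h
    · simp
    · simp [h, hz.1]
  · rcases eq_or_ne m k with rfl | h
    · simp
    · simp [h, hz.2]
  · simp

theorem W_eq_sum {i j : Fin n} {z : Vn} (hz : z ∈ Wsub i j) {p : Vn → Prop} (h0 : p 0)
    (hadd : ∀ x y, x ∈ Wsub i j → y ∈ Wsub i j → p x → p y → p (x + y))
    (hsingle : ∀ (k : Fin n) (c : F), k ≠ i → k ≠ j → p (Pi.single k c)) : p z := by
  classical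
  have key : ∀ s : Finset (Fin n), (∑ k ∈ s, (Pi.single k (z k) : Vn)) ∈ Wsub i j ∧
      p (∑ k ∈ s, Pi.single k (z k)) := by
    intro s
    induction s using Finset.induction with
    | empty =>
      rw [Finset.sum_empty]
      exact ⟨(Wsub i j).zero_mem, h0⟩
    | @insert a s ha ih =>
      have h1 : (Pi.single a (z a) : Vn) ∈ Wsub i j ∧ p (Pi.single a (z a)) := by
        by_cases hai : a = i
        · subst hai; rw [hz.1, Pi.single_zero]; exact ⟨(Wsub a j).zero_mem, h0⟩
        by_cases haj : a = j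
        · subst haj; rw [hz.2, Pi.single_zero]; exact ⟨(Wsub i a).zero_mem, h0⟩
        exact ⟨⟨Pi.single_eq_of_ne (Ne.symm hai) _, Pi.single_eq_of_ne (Ne.symm haj) _⟩,
          hsingle a _ hai haj⟩
      rw [Finset.sum_insert ha]
      exact ⟨(Wsub i j).add_mem h1.1 ih.1, hadd _ _ h1.1 ih.1 h1.2 ih.2⟩
  have := (key Finset.univ).2
  rwa [Finset.univ_sum_single] at this

include hstar hF hn in
theorem commutant_scalar (hs : ¬(n = 3 ∧ q = 2)) {i j : Fin n} {e f : Vn} (P : Pair i j e f)
    (B : Vn → Vn) (hBW : ∀ z ∈ Wsub i j, B z ∈ Wsub i j)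
    (hBadd : ∀ x ∈ Wsub i j, ∀ y ∈ Wsub i j, B (x + y) = B x + B y)
    (hcomm : ∀ L lam, InL q i j e f L lam → ∀ z ∈ Wsub i j, B (L z) = L (B z)) :
    ∃ b : F, ∀ z ∈ Wsub i j, B z = b • z := by
  classical
  have hB0 : B 0 = 0 := by
    have := hBadd 0 (Wsub i j).zero_mem 0 (Wsub i j).zero_mem
    rw [add_zero] at this
    exact left_eq_add.mp this
  suffices h : ∃ b : F, ∀ (k : Fin n) (c : F), k ≠ i → k ≠ j →
      B (Pi.single k c) = b • (Pi.single k c : Vn) by
    obtain ⟨b, hb⟩ := h
    exact ⟨b, fun z hz => W_eq_sum (p := fun x => B x = b • x) hz (by simp [hB0])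
      (fun x y hxW hyW hx hy => by
        change B x = b • x at hx
        change B y = b • y at hy
        change B (x + y) = b • (x + y)
        rw [hBadd x hxW y hyW, hx, hy, smul_add]) hb⟩
  rcases W_cases i j hn with ⟨k₀, m₀, hk₀i, hk₀j, hm₀i, hm₀j, hkm₀⟩ | ⟨k, hki, hkj, hall⟩
  · have key : ∀ k m : Fin n, k ≠ i → k ≠ j → m ≠ i → m ≠ j → k ≠ m → ∃ b : F, ∀ c : F,
        B (Pi.single k c) = b • (Pi.single k c : Vn) ∧
        B (Pi.single m c) = b • (Pi.single m c : Vn) := by
      intro k m hki hkj hmi hmj hkm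
      obtain ⟨v, v', P'⟩ := exists_pair hstar hF hkm
      have hsW : ∀ x : Vn, Supp {k, m} x → x ∈ Wsub i j := fun x hx =>
        ⟨hx i (by simp [Ne.symm hki, Ne.symm hmi]), hx j (by simp [Ne.symm hkj, Ne.symm hmj])⟩
      have hvW := hsW v P'.supp_e
      have hv'W := hsW v' P'.supp_f
      obtain ⟨θ, hθ0, hθ⟩ := exists_skew hstar hF
      have htv : ∀ u ∈ Wsub i j, herm u u = 0 → ∀ t : F, star t = -t → ∀ z ∈ Wsub i j,
          B ((t * herm u z) • u) = (t * herm u (B z)) • u := by
        intro u hu huu t ht z hz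
        have h1 := hcomm _ _ (inL_trans hstar P hu huu ht) z hz
        simp only [hBadd z hz _ ((Wsub i j).smul_mem _ hu)] at h1
        exact add_left_cancel h1
      -- coordinates of `B` on the two lines
      have hline : ∀ u u' : Vn, u ∈ Wsub i j → u' ∈ Wsub i j → herm u u = 0 → herm u u' = 1 →
          ∀ c : F, ∃ d : F, B (c • u) = d • u := by
        intro u u' hu hu' huu huu' c
        have h1 := htv u hu huu θ hθ ((c / θ) • u') ((Wsub i j).smul_mem _ hu')
        rw [herm_smul_right, huu', mul_one, mul_div_cancel₀ _ hθ0] at h1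
        exact ⟨_, h1⟩
      choose β hβ using hline v v' hvW hv'W P'.ee P'.ef
      choose β' hβ' using hline v' v hv'W hvW P'.ff P'.fe
      have hv0 := pair_ne_zero P'
      have hrel : ∀ t c : F, star t = -t → β (t * c) = t * β' c := by
        intro t c ht
        have h1 := htv v hvW P'.ee t ht (c • v') ((Wsub i j).smul_mem _ hv'W)
        rw [herm_smul_right, P'.ef, mul_one, hβ', herm_smul_right, P'.ef, mul_one, hβ] at h1
        exact smul_left_injective F hv0.1 h1
      have hrel' : ∀ t c : F, star t = -t → β' (t * c) = t * β c := by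
        intro t c ht
        have h1 := htv v' hv'W P'.ff t ht (c • v) ((Wsub i j).smul_mem _ hvW)
        rw [herm_smul_right, P'.fe, mul_one, hβ, herm_smul_right, P'.fe, mul_one, hβ'] at h1
        exact smul_left_injective F hv0.2 h1
      have hreal : ∀ r c : F, star r = r → β' (r * c) = r * β' c := by
        intro r c hr
        have hrs : star (r / θ) = -(r / θ) := by rw [star_div₀, hr, hθ, div_neg]
        rw [show r * c = r / θ * (θ * c) by field_simp, hrel' _ _ hrs, hrel _ _ hθ,
          ← mul_assoc, div_mul_cancel₀ _ hθ0]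
      have hβ'add : ∀ c d : F, β' (c + d) = β' c + β' d := by
        intro c d
        apply smul_left_injective F hv0.2
        change β' (c + d) • v' = (β' c + β' d) • v'
        rw [add_smul, ← hβ', ← hβ', ← hβ', add_smul,
          hBadd _ ((Wsub i j).smul_mem _ hv'W) _ ((Wsub i j).smul_mem _ hv'W)]
      obtain ⟨μ, hμ0, hμ⟩ := exists_ratio hstar hF (m := 2) (by omega) (Hermitian.q_two_le hF)
      have hμs : star μ ≠ 0 := star_ne_zero.mpr hμ0
      set ν := μ / star μ with hν
      have hνne : star ν ≠ ν := by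
        intro h
        apply hμ
        rw [hν, star_div₀, star_star] at h
        rw [pow_two]
        conv_lhs => arg 1; rw [h]
        field_simp
      have hνlin : ∀ c : F, β' (ν * c) = ν * β' c := by
        intro c
        have hd : ∀ d : F, μ • (dMat v v' μ *ᵥ (d • v')) = (ν * d) • v' := by
          intro d
          rw [dMat_mulVec, herm_smul_right, herm_smul_right, P'.ff, P'.ef, hν,
            div_eq_mul_inv]
          module
        have h1 := hcomm _ _ (inL_two hstar P P' hvW hv'W hμ0) (c • v')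
          ((Wsub i j).smul_mem _ hv'W)
        simp only [hd, hβ'] at h1
        exact smul_left_injective F hv0.2 h1
      have hlin : ∀ c : F, β' c = β' 1 * c := by
        intro c
        obtain ⟨a, b, ha, hb, hc⟩ := exists_real_decomp hνne c
        have h1 : β' a = β' 1 * a := by
          conv_lhs => rw [← mul_one a]
          rw [hreal a 1 ha, mul_comm]
        have h2 : β' (b * ν) = β' 1 * (b * ν) := by
          rw [hreal b ν hb]
          conv_lhs => rw [← mul_one ν, hνlin 1]
          ring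
        rw [hc, hβ'add, h1, h2]
        ring
      have hlinv : ∀ c : F, β c = β' 1 * c := by
        intro c
        rw [show c = θ * (c / θ) by field_simp, hrel _ _ hθ, hlin]
        ring
      refine ⟨β' 1, fun c => ⟨?_, ?_⟩⟩ <;>
      · rw [pair_span P' (Supp.single (by simp) c),
          hBadd _ ((Wsub i j).smul_mem _ hvW) _ ((Wsub i j).smul_mem _ hv'W), hβ, hβ', hlinv (herm _ _),
          hlin (herm _ _), smul_add, smul_smul, smul_smul]
    obtain ⟨b, hb⟩ := key k₀ m₀ hk₀i hk₀j hm₀i hm₀j hkm₀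
    refine ⟨b, fun k c hki hkj => ?_⟩
    by_cases hk : k = k₀
    · exact hk ▸ (hb c).1
    obtain ⟨b', hb'⟩ := key k₀ k hk₀i hk₀j hki hkj (Ne.symm hk)
    have h1 := (hb' 1).1
    rw [(hb 1).1] at h1
    have h2 := congrFun h1 k₀
    simp only [Pi.smul_apply, Pi.single_eq_same, smul_eq_mul, mul_one] at h2
    rw [h2]
    exact (hb' c).2
  · have hn3 := n_eq_three hall hn
    have hq3 : 3 ≤ q := by
      have := Hermitian.q_two_le hF
      have : q ≠ 2 := fun h => hs ⟨hn3, h⟩
      omega
    set w : Vn := Pi.single k 1 with hwdef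
    have hwW : w ∈ Wsub i j :=
      ⟨Pi.single_eq_of_ne (Ne.symm hki) _, Pi.single_eq_of_ne (Ne.symm hkj) _⟩
    let β : F → F := fun c => B (c • w) k
    have hβ : ∀ c, B (c • w) = β c • w := fun c =>
      single_of_one hall (hBW _ ((Wsub i j).smul_mem c hwW))
    have hw0 : w ≠ 0 := fun h => (one_ne_zero : (1 : F) ≠ 0) (by simpa [hwdef] using congrFun h k)
    have hβadd : ∀ c d, β (c + d) = β c + β d := by
      intro c d
      apply smul_left_injective F hw0
      change β (c + d) • w = (β c + β d) • w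
      rw [add_smul, ← hβ, ← hβ, ← hβ, add_smul,
        hBadd _ ((Wsub i j).smul_mem _ hwW) _ ((Wsub i j).smul_mem _ hwW)]
    have hμlin : ∀ l : F, l ≠ 0 → ∀ c, β (star l * (star l / l) * c) =
        star l * (star l / l) * β c := by
      intro l hl c
      have hd : ∀ d : F, star l • (d • w + ((star l / l - 1) * (d • w) k) •
          (Pi.single k 1 : Vn)) = (star l * (star l / l) * d) • w := by
        intro d
        rw [← hwdef, show (d • w) k = d by simp [hwdef]]
        module
      have h1 := hcomm _ _ (inL_one hstar P hki hkj hl) (c • w) ((Wsub i j).smul_mem _ hwW)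
      simp only [hd, hβ] at h1
      exact smul_left_injective F hw0 h1
    obtain ⟨l, hl0, hl⟩ := exists_ratio hstar hF (m := 3) (by omega) hq3
    set μ := star l * (star l / l) with hμ
    have hls : star l ≠ 0 := star_ne_zero.mpr hl0
    have hμne : star μ ≠ μ := by
      intro h
      apply hl
      rw [hμ, star_mul', star_div₀, star_star] at h
      field_simp at h ⊢
      linear_combination -h
    have hreal : ∀ r : F, star r = r → ∀ c, β (r * c) = r * β c := by
      intro r hr c
      by_cases hr0 : r = 0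
      · have hz := hβadd 0 0
        rw [add_zero] at hz
        rw [hr0, zero_mul, zero_mul, left_eq_add.mp hz]
      · have := hμlin r hr0 c
        rwa [hr, div_self hr0, mul_one] at this
    refine ⟨β 1, fun k' c hk'i hk'j => ?_⟩
    obtain rfl : k' = k := ((hall k').resolve_left hk'i).resolve_left hk'j
    have hsc : (Pi.single k' c : Vn) = c • w := by
      rw [hwdef, ← Pi.single_smul, smul_eq_mul, mul_one]
    rw [hsc, hβ, smul_smul]
    congr 1
    obtain ⟨a, b, ha, hb, hc⟩ := exists_real_decomp hμne c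
    have h1 : β a = β 1 * a := by
      conv_lhs => rw [← mul_one a]
      rw [hreal a ha 1, mul_comm]
    have h2 : β (b * μ) = β 1 * (b * μ) := by
      rw [hreal b hb μ]
      conv_lhs => rw [← mul_one μ, hμlin l hl0 1]
      ring
    rw [hc, hβadd, h1, h2]
    ring

include hstar hF hn in
theorem twist_eq_zero (hs : ¬(n = 3 ∧ q = 2)) {i j : Fin n} {e f : Vn} (P : Pair i j e f)
    (δ : Vn → F) (hskew : ∀ z ∈ Wsub i j, star (δ z) = -δ z)
    (hadd : ∀ x ∈ Wsub i j, ∀ y ∈ Wsub i j, δ (x + y) = δ x + δ y)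
    (heq : ∀ L lam, InL q i j e f L lam → ∀ z ∈ Wsub i j, δ (L z) = star lam * lam * δ z) :
    ∀ z ∈ Wsub i j, δ z = 0 := by
  classical
  have hδ0 : δ 0 = 0 := by
    have := hadd 0 (Wsub i j).zero_mem 0 (Wsub i j).zero_mem
    rw [add_zero] at this
    exact left_eq_add.mp this
  intro z hz
  refine W_eq_sum (p := fun x => δ x = 0) hz hδ0
    (fun x y hxW hyW hx hy => by
      change δ x = 0 at hx
      change δ y = 0 at hy
      rw [hadd x hxW y hyW, hx, hy, add_zero]) ?_
  intro k c hki hkj
  rcases W_cases i j hn with ⟨k₀, m₀, hk₀i, hk₀j, hm₀i, hm₀j, hkm₀⟩ | ⟨k₁, hk₁i, hk₁j, hall⟩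
  · obtain ⟨m, hmi, hmj, hmk⟩ : ∃ m : Fin n, m ≠ i ∧ m ≠ j ∧ k ≠ m := by
      by_cases h : k = k₀
      · exact ⟨m₀, hm₀i, hm₀j, h ▸ hkm₀⟩
      · exact ⟨k₀, hk₀i, hk₀j, h⟩
    obtain ⟨v, v', P'⟩ := exists_pair hstar hF hmk
    have hsW : ∀ x : Vn, Supp {k, m} x → x ∈ Wsub i j := fun x hx =>
      ⟨hx i (by simp [Ne.symm hki, Ne.symm hmi]), hx j (by simp [Ne.symm hkj, Ne.symm hmj])⟩
    obtain ⟨θ, hθ0, hθ⟩ := exists_skew hstar hF
    have hline : ∀ u u' : Vn, u ∈ Wsub i j → u' ∈ Wsub i j → herm u u = 0 → herm u u' = 1 →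
        ∀ d : F, δ (d • u) = 0 := by
      intro u u' hu hu' huu huu' d
      have h1 := heq _ _ (inL_trans hstar P hu huu hθ) ((d / θ) • u') ((Wsub i j).smul_mem _ hu')
      simp only [herm_smul_right, huu', mul_one, mul_div_cancel₀ _ hθ0, star_one, one_mul] at h1
      rw [hadd _ ((Wsub i j).smul_mem _ hu') _ ((Wsub i j).smul_mem _ hu)] at h1
      exact add_eq_left.mp h1
    have hv := hsW v P'.supp_e
    have hv' := hsW v' P'.supp_f
    rw [pair_span P' (Supp.single (by simp) c), hadd _ ((Wsub i j).smul_mem _ hv) _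
      ((Wsub i j).smul_mem _ hv'), hline v v' hv hv' P'.ee P'.ef,
      hline v' v hv' hv P'.ff P'.fe, add_zero]
  · have hn3 := n_eq_three hall hn
    have hq3 : 3 ≤ q := by
      have := Hermitian.q_two_le hF
      have : q ≠ 2 := fun h => hs ⟨hn3, h⟩
      omega
    obtain rfl : k = k₁ := ((hall k).resolve_left hki).resolve_left hkj
    set w : Vn := Pi.single k 1 with hwdef
    have hwW : w ∈ Wsub i j :=
      ⟨Pi.single_eq_of_ne (Ne.symm hki) _, Pi.single_eq_of_ne (Ne.symm hkj) _⟩
    have hsc : ∀ d : F, (Pi.single k d : Vn) = d • w := fun d => by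
      rw [hwdef, ← Pi.single_smul, smul_eq_mul, mul_one]
    rw [hsc]
    by_contra hne
    -- the multipliers form a field homomorphism into the fixed field
    let g : F → F := fun x => δ (x • w)
    have hgadd : ∀ x y, g (x + y) = g x + g y := fun x y => by
      simp only [g, add_smul]
      exact hadd _ ((Wsub i j).smul_mem _ hwW) _ ((Wsub i j).smul_mem _ hwW)
    let K : F → Prop := fun x => ∃ r : F, ∀ d, g (x * d) = r * g d
    have hKl : ∀ l : F, l ≠ 0 → K (star l * (star l / l)) := by
      intro l hl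
      refine ⟨star l * l, fun d => ?_⟩
      have h1 := heq _ _ (inL_one hstar P hki hkj hl) (d • w) ((Wsub i j).smul_mem _ hwW)
      simp only [show (d • w) k = d by simp [hwdef]] at h1
      have hd : star l • (d • w + ((star l / l - 1) * d) • (Pi.single k 1 : Vn)) =
          (star l * (star l / l) * d) • w := by
        rw [← hwdef]
        module
      rw [hd] at h1
      exact h1
    have hKreal : ∀ r : F, star r = r → K r := by
      intro r hr
      by_cases hr0 : r = 0
      · refine ⟨0, fun d => ?_⟩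
        rw [hr0, zero_mul, zero_mul]
        simp only [g, zero_smul]
        exact hδ0
      · have h1 := hKl r hr0
        rwa [hr, div_self hr0, mul_one] at h1
    have hKadd : ∀ x y, K x → K y → K (x + y) := by
      rintro x y ⟨a, ha⟩ ⟨b, hb⟩
      exact ⟨a + b, fun d => by rw [add_mul, hgadd, ha, hb, add_mul]⟩
    have hKmul : ∀ x y, K x → K y → K (x * y) := by
      rintro x y ⟨a, ha⟩ ⟨b, hb⟩
      exact ⟨a * b, fun d => by rw [mul_assoc, ha, hb, mul_assoc]⟩
    obtain ⟨l, hl0, hl⟩ := exists_ratio hstar hF (m := 3) (by omega) hq3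
    have hls : star l ≠ 0 := star_ne_zero.mpr hl0
    have hμne : star (star l * (star l / l)) ≠ star l * (star l / l) := by
      intro h
      apply hl
      rw [star_mul', star_div₀, star_star] at h
      field_simp at h ⊢
      linear_combination -h
    have hKall : ∀ x, K x := by
      intro x
      obtain ⟨a, b, ha, hb, rfl⟩ := exists_real_decomp hμne x
      exact hKadd _ _ (hKreal a ha) (hKmul _ _ (hKreal b hb) (hKl l hl0))
    have hg1 : g c ≠ 0 := hne
    choose r hr using hKall
    have hruniq : ∀ x a, (∀ d, g (x * d) = a * g d) → r x = a := fun x a ha =>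
      mul_right_cancel₀ hg1 ((hr x c).symm.trans (ha c))
    have hrreal : ∀ x, star (r x) = r x := by
      intro x
      have h1 := congrArg star (hr x c)
      rw [star_mul', show star (g (x * c)) = -g (x * c) from hskew _ ((Wsub i j).smul_mem _ hwW),
        show star (g c) = -g c from hskew _ ((Wsub i j).smul_mem _ hwW), mul_neg, neg_inj, hr] at h1
      exact (mul_right_cancel₀ hg1 h1).symm
    let φ : F →+* F :=
      { toFun := r
        map_one' := hruniq 1 1 fun d => by rw [one_mul, one_mul]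
        map_mul' := fun x y => hruniq _ _ fun d => by rw [mul_assoc, hr, hr, mul_assoc]
        map_zero' := hruniq 0 0 fun d => by
          rw [zero_mul, zero_mul]
          simp only [g, zero_smul]
          exact hδ0
        map_add' := fun x y => hruniq _ _ fun d => by rw [add_mul, hgadd, hr, hr, add_mul] }
    obtain ⟨b, hb⟩ := Hermitian.exists_star_ne hstar hF
    apply hb
    apply φ.injective
    rw [hstar, map_pow, ← hstar]
    exact hrreal b

end Cfsg.Agent.Small.PSUn
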