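import Mathlib
import Cfsg.Agent.Lib.Small.Unitary.Simple
import Cfsg.Agent.Lib.Small.PSUn.Torus

/-!
Every automorphism of `PSU_n(q)`, `n ≥ 3`, `(n, q) ≠ (3, 2)`, is induced by a semilinear map.
-/

set_option autoImplicit false
set_option linter.unusedSectionVars false

namespace Cfsg.Agent.Small.PSUn

open Matrix Cfsg.Agent.Small.Unitary

variable {F : Type*} [Field F] [Fintype F] [StarRing F] {n q : ℕ}

local notation "Gn" => Cfsg.SU n F q
local notation "Pn" => Cfsg.PSU n F q
local notation "Vn" => Fin n → F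

theorem act_zero (g : Gn) : act g (0 : Vn) = 0 := Matrix.mulVec_zero _

theorem projW_add (e f u v : Vn) : projW e f (u + v) = projW e f u + projW e f v := by
  simp only [projW, herm_add_right]
  module

theorem projW_smul (e f : Vn) (c : F) (v : Vn) : projW e f (c • v) = c • projW e f v := by
  simp only [projW, herm_smul_right]
  module

theorem pair_field (hstar : ∀ x : F, star x = x ^ q) (σ : F ≃+* F) {i j : Fin n} {e f : Vn}
    (P : Pair i j e f) : Pair i j (σ ∘ e) (σ ∘ f) where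
  ne := P.ne
  supp_e m hm := by simp [P.supp_e m hm]
  supp_f m hm := by simp [P.supp_f m hm]
  ee := by rw [herm_comp hstar, P.ee, map_zero]
  ff := by rw [herm_comp hstar, P.ff, map_zero]
  ef := by rw [herm_comp hstar, P.ef, map_one]
  zero z h1 h2 := by
    have hz : z = σ ∘ (σ.symm ∘ z) := by funext m; simp
    rw [hz, herm_comp hstar, map_eq_zero_iff _ σ.injective] at h1 h2
    obtain ⟨h3, h4⟩ := P.zero _ h1 h2
    simp only [Function.comp_apply, map_eq_zero_iff _ σ.symm.injective] at h3 h4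
    exact ⟨h3, h4⟩

theorem comp_mem_W (σ : F ≃+* F) {i j : Fin n} {z : Vn} (hz : z ∈ Wsub i j) :
    σ ∘ z ∈ Wsub i j := ⟨by simp [hz.1], by simp [hz.2]⟩

variable (hstar : ∀ x : F, star x = x ^ q)

theorem conj_eich_line {h : Gn} {e z : Vn} {a lam : F} (hok : EOk e z a) (hlam : lam ≠ 0)
    (he : act h e = lam • e) :
    EOk e (star lam • act h z) (star lam * lam * a) ∧
      h * eich hstar e z a * h⁻¹ = eich hstar e (star lam • act h z) (star lam * lam * a) := by
  have h1 := hok.act hstar h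
  rw [he] at h1
  exact ⟨h1.smul lam hlam, by rw [eich_conj hstar h hok, he, eich_smul hstar h1 hlam]⟩

theorem lam_ne_zero {h : Gn} {e : Vn} {lam : F} (he : e ≠ 0) (heq : act h e = lam • e) :
    lam ≠ 0 := fun h0 => he (act_injective h (by rw [heq, h0, zero_smul, act_zero]))

theorem Tb_sact (g : Cfsg.GU n F q) (σ : F ≃+* F) {e : Vn} (hee : herm e e = 0) :
    (cU g * fU σ : MulAut Pn) '' Tb hstar e = Tb hstar (sact g.1 σ e) := by
  have key : ∀ t : F, star t = -t → (cU g * fU σ : MulAut Pn) (pu (eich hstar e 0 t)) =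
      pu (eich hstar (sact g.1 σ e) 0 (σ t)) := fun t ht => by
    rw [aut_eich hstar g σ ((EOk_zero_iff hee).mpr ht)]
    congr 2
    rw [sact, show σ ∘ (0 : Vn) = 0 from funext fun m => map_zero σ, Matrix.mulVec_zero]
  ext x
  constructor
  · rintro ⟨_, ⟨t, ht, rfl⟩, rfl⟩
    exact ⟨σ t, by rw [← map_star_comm hstar, ht, map_neg], key t ht⟩
  · rintro ⟨t, ht, rfl⟩
    have ht' : star (σ.symm t) = -σ.symm t := by
      apply σ.injective
      rw [map_star_comm hstar, map_neg, RingEquiv.apply_symm_apply, ht]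
    exact ⟨_, mem_Tb hstar ht', by rw [key _ ht', RingEquiv.apply_symm_apply]⟩

/-- The automorphism fixes both transvection groups of the pair. -/
def Fix (β : MulAut Pn) (e f : Vn) : Prop :=
  β '' Tb hstar e = Tb hstar e ∧ β '' Tb hstar f = Tb hstar f

theorem mem_normalizer_image (β : MulAut Pn) {S : Set Pn} (hS : β '' S = S) (y : Pn) :
    β y ∈ Subgroup.normalizer S ↔ y ∈ Subgroup.normalizer S := by
  have h1 : ∀ x, β x ∈ S ↔ x ∈ S := fun x => by
    conv_lhs => rw [← hS, β.injective.mem_set_image]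
  simp only [Subgroup.mem_set_normalizer_iff]
  constructor
  · intro h x
    rw [← h1 x, h (β x), ← map_inv, ← map_mul, ← map_mul, h1]
  · intro h x
    obtain ⟨x, rfl⟩ := β.surjective x
    rw [← map_inv, ← map_mul, ← map_mul, h1, h1]
    exact h x

section Main

variable {p : ℕ} [Fact p.Prime] [CharP F p]
variable (hF : Fintype.card F = q ^ 2) (hn : 3 ≤ n)
variable {i j : Fin n} {e f : Fin n → F} (P : Pair i j e f)

include hF hn P in
theorem fix_stab {β : MulAut Pn} (hβ : Fix hstar β e f) {h h' : Gn} {lam ν : F}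
    (hhe : act h e = lam • e) (hhf : act h f = ν • f) (hh' : β (pu h) = pu h')
    (hp : Fact p.Prime) :
    ∃ lam' ν' : F, act h' e = lam' • e ∧ act h' f = ν' • f := by
  obtain ⟨he, hf⟩ := pair_isPt P
  have key : ∀ v : Vn, IsPt v → β '' Tb hstar v = Tb hstar v → ∀ c : F, act h v = c • v →
      ∃ c' : F, act h' v = c' • v := fun v hv hS c hc => by
    rw [← mem_normalizer_Tb hstar hF hn p hv, ← hh', mem_normalizer_image β hS]
    exact (mem_normalizer_Tb hstar hF hn p hv h).mpr ⟨c, hc⟩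
  obtain ⟨lam', h1⟩ := key e he hβ.1 lam hhe
  obtain ⟨ν', h2⟩ := key f hf hβ.2 ν hhf
  exact ⟨lam', ν', h1, h2⟩

include hF hn P in
theorem pu_eich_inj (p : ℕ) [Fact p.Prime] [CharP F p] {z w : Vn} {a b : F} (hz : z ∈ Wsub i j)
    (hw : w ∈ Wsub i j) (h : EOk e z a) (h' : EOk e w b)
    (heq : (pu (eich hstar e z a) : Pn) = pu (eich hstar e w b)) : z = w ∧ a = b :=
  eich_inj hstar P.ef (P.herm_W hz).2 (P.herm_W hw).2 h h'
    (pElem_inj hstar hF hn (PEl_eich (p := p) hstar h) (PEl_eich (p := p) hstar h') heq)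

include hF hn P in
theorem Qp_image (p : ℕ) [Fact p.Prime] [CharP F p] {β : MulAut Pn}
    (hβ : β '' Tb hstar e = Tb hstar e) {z : Vn} {a : F} (h : EOk e z a) :
    ∃ w b, w ∈ Wsub i j ∧ EOk e w b ∧ β (pu (eich hstar e z a)) = pu (eich hstar e w b) := by
  have he := (pair_isPt P).1
  let R : Subgroup Pn := (Qp hstar P.ee).map β.toMonoidHom
  have hR : IsPGroup p R := ((isPGroup_Qg hstar P.ee).map _).map _
  have hle : R ≤ Subgroup.normalizer (Tb hstar e) := by
    rintro _ ⟨_, ⟨g, hg, rfl⟩, rfl⟩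
    refine (mem_normalizer_image β hβ _).mpr ((mem_normalizer_Tb hstar hF hn p he g).mpr ⟨1, ?_⟩)
    rw [one_smul]
    exact fixes_Qg hstar P.ee hg
  have hnorm : ∀ y ∈ Subgroup.normalizer (Tb hstar e), ∀ r ∈ R, y * r * y⁻¹ ∈ R := by
    intro y hy r hr
    obtain ⟨_, ⟨_, ⟨z', a', h', rfl⟩, rfl⟩, rfl⟩ := hr
    obtain ⟨y₀, rfl⟩ := β.surjective y
    obtain ⟨g, rfl⟩ := pu_surjective y₀
    obtain ⟨c, hc⟩ := (mem_normalizer_Tb hstar hF hn p he g).mp ((mem_normalizer_image β hβ _).mp hy)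
    obtain ⟨h1, h2⟩ := conj_eich_line hstar h' (lam_ne_zero he.1 hc) hc
    refine ⟨_, ⟨_, ⟨_, _, h1, rfl⟩, rfl⟩, ?_⟩
    change β (pu _) = β (pu g) * β (pu _) * (β (pu g))⁻¹
    rw [← h2, map_mul, map_mul, map_inv, map_mul, map_mul, map_inv]
  obtain ⟨_, ⟨w₀, b₀, hw₀, rfl⟩, hx⟩ := le_Qp hstar hF hn (p := p) P R hR hle hnorm
    ⟨_, ⟨_, ⟨z, a, h, rfl⟩, rfl⟩, rfl⟩
  have hd : w₀ = projW e f w₀ + herm f w₀ • e := by
    rw [projW, hw₀.2.1, zero_smul]; abel
  have hpW := P.projW_mem w₀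
  have hok : EOk e (projW e f w₀) b₀ := by
    have := hw₀.shift (-herm f w₀)
    rwa [neg_smul, ← sub_eq_add_neg, show w₀ - herm f w₀ • e = projW e f w₀ by
      rw [projW, hw₀.2.1, zero_smul, sub_zero]] at this
  refine ⟨projW e f w₀, b₀ + herm f w₀ - star (herm f w₀), hpW, ⟨hok.1, hok.2.1, ?_⟩, ?_⟩
  · rw [star_sub, star_add, star_star]; linear_combination hok.2.2
  · rw [← eich_shift hstar _ hok, ← hd]
    exact hx.symm

include hF hn P in
theorem exists_data (p : ℕ) [Fact p.Prime] [CharP F p] {β : MulAut Pn}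
    (hβ : Fix hstar β e f) :
    ∃ (A : Vn → Vn) (φ : F → F),
      (∀ z ∈ Wsub i j, A z ∈ Wsub i j) ∧
      (∀ z ∈ Wsub i j, ∀ a, EOk e z a →
        ∃ b, EOk e (A z) b ∧ β (pu (eich hstar e z a)) = pu (eich hstar e (A z) b)) ∧
      (∀ t, star t = -t → star (φ t) = -φ t ∧
        β (pu (eich hstar e 0 t)) = pu (eich hstar e 0 (φ t))) := by
  classical
  have hT : ∀ t : F, ∃ t' : F, star t = -t → star t' = -t' ∧
      β (pu (eich hstar e 0 t)) = pu (eich hstar e 0 t') := fun t => by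
    by_cases ht : star t = -t
    · obtain ⟨t', ht', heq⟩ : β (pu (eich hstar e 0 t)) ∈ Tb hstar e :=
        hβ.1 ▸ ⟨_, mem_Tb hstar ht, rfl⟩
      exact ⟨t', fun _ => ⟨ht', heq⟩⟩
    · exact ⟨0, fun h => absurd h ht⟩
  have hA : ∀ z : Vn, ∃ w : Vn, z ∈ Wsub i j → w ∈ Wsub i j ∧ ∀ a, EOk e z a →
      ∃ b, EOk e w b ∧ β (pu (eich hstar e z a)) = pu (eich hstar e w b) := fun z => by
    by_cases hz : z ∈ Wsub i j
    swap
    · exact ⟨0, fun h => absurd h hz⟩
    obtain ⟨a₀, ha₀⟩ := exists_param hstar hF P.ee (P.herm_W hz).1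
    obtain ⟨w, b₀, hw, hb₀, heq₀⟩ := Qp_image hstar hF hn P p hβ.1 ha₀
    refine ⟨w, fun _ => ⟨hw, fun a ha => ?_⟩⟩
    have hs : star (a - a₀) = -(a - a₀) := by
      rw [star_sub]; linear_combination ha.2.2 - ha₀.2.2
    obtain ⟨t', ht'⟩ := hT (a - a₀)
    obtain ⟨ht's, ht'eq⟩ := ht' hs
    have h0 := (EOk_zero_iff P.ee).mpr hs
    have h0' := (EOk_zero_iff P.ee).mpr ht's
    have hsplit : eich hstar e z a = eich hstar e z a₀ * eich hstar e 0 (a - a₀) := by
      rw [eich_mul hstar ha₀ h0, add_zero, herm_zero_right, sub_zero, add_sub_cancel]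
    refine ⟨b₀ + t', ?_, ?_⟩
    · have := hb₀.add h0'
      rwa [add_zero, herm_zero_right, sub_zero] at this
    · rw [hsplit, map_mul (pu : Gn →* Pn), map_mul, heq₀, ht'eq, ← map_mul, eich_mul hstar hb₀ h0', add_zero,
        herm_zero_right, sub_zero]
  choose φ hφ using hT
  choose A hA using hA
  exact ⟨A, φ, fun z hz => (hA z hz).1, fun z hz => (hA z hz).2, hφ⟩

include hF hn P in
theorem exists_semilinear (p : ℕ) [Fact p.Prime] [CharP F p] (hs : ¬(n = 3 ∧ q = 2))
    {β : MulAut Pn} (hβ : Fix hstar β e f) :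
    ∃ (g : Cfsg.GU n F q) (σ : F ≃+* F), Fix hstar (cU g * fU σ) e f ∧
      (∀ t, star t = -t → β (pu (eich hstar e 0 t)) =
        (cU g * fU σ : MulAut Pn) (pu (eich hstar e 0 t))) ∧
      ∀ z ∈ Wsub i j, ∀ a, EOk e z a → ∃ w b b', w ∈ Wsub i j ∧ EOk e w b ∧ EOk e w b' ∧
        β (pu (eich hstar e z a)) = pu (eich hstar e w b) ∧
        (cU g * fU σ : MulAut Pn) (pu (eich hstar e z a)) = pu (eich hstar e w b') := by
  classical
  obtain ⟨he, hf⟩ := pair_isPt P
  obtain ⟨A, φ, hAW, hA, hφ⟩ := exists_data hstar hF hn P p hβ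
  have hAadd : ∀ x ∈ Wsub i j, ∀ y ∈ Wsub i j, A (x + y) = A x + A y := by
    intro x hx y hy
    obtain ⟨a, ha⟩ := exists_param hstar hF P.ee (P.herm_W hx).1
    obtain ⟨b, hb⟩ := exists_param hstar hF P.ee (P.herm_W hy).1
    obtain ⟨a', ha', e1⟩ := hA x hx a ha
    obtain ⟨b', hb', e2⟩ := hA y hy b hb
    have hxy := (Wsub i j).add_mem hx hy
    obtain ⟨c, hc, e3⟩ := hA _ hxy _ (ha.add hb)
    rw [← eich_mul hstar ha hb, map_mul (pu : Gn →* Pn), map_mul, e1, e2, ← map_mul, eich_mul hstar ha' hb'] at e3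
    exact (pu_eich_inj hstar hF hn P p ((Wsub i j).add_mem (hAW x hx) (hAW y hy)) (hAW _ hxy)
      (ha'.add hb') hc e3).1.symm
  have hφ0 : φ 0 = 0 := by
    obtain ⟨h1, h2⟩ := hφ 0 (by simp)
    rw [eich_zero_zero hstar P.ee, map_one, map_one] at h2
    exact ((pu_eich_inj hstar hF hn P p (Wsub i j).zero_mem (Wsub i j).zero_mem
      ((EOk_zero_iff P.ee).mpr (by simp)) ((EOk_zero_iff P.ee).mpr h1)
      (by rw [eich_zero_zero hstar P.ee, map_one]; exact h2)).2).symm
  have hφinj : ∀ t, star t = -t → φ t = 0 → t = 0 := by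
    intro t ht h0
    obtain ⟨-, h2⟩ := hφ t ht
    rw [h0, eich_zero_zero hstar P.ee, map_one] at h2
    have h3 : (pu (eich hstar e 0 t) : Pn) = 1 := β.injective (by rw [h2, map_one])
    exact (pu_eich_inj hstar hF hn P p (Wsub i j).zero_mem (Wsub i j).zero_mem
      ((EOk_zero_iff P.ee).mpr ht) ((EOk_zero_iff P.ee).mpr (by simp))
      (by rw [eich_zero_zero hstar P.ee, map_one]; exact h3)).2
  have hA0 : A 0 = 0 := by
    have := hAadd 0 (Wsub i j).zero_mem 0 (Wsub i j).zero_mem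
    rw [add_zero] at this
    exact left_eq_add.mp this
  have hAinj : ∀ z ∈ Wsub i j, A z = 0 → z = 0 := by
    intro z hz h0
    obtain ⟨a, ha⟩ := exists_param hstar hF P.ee (P.herm_W hz).1
    obtain ⟨b, hb, heq⟩ := hA z hz a ha
    rw [h0] at hb heq
    obtain ⟨x, ⟨t, ht, rfl⟩, hxe⟩ : (pu (eich hstar e 0 b) : Pn) ∈ β '' Tb hstar e := by
      rw [hβ.1]; exact mem_Tb hstar ((EOk_zero_iff P.ee).mp hb)
    exact (pu_eich_inj hstar hF hn P p hz (Wsub i j).zero_mem ha ((EOk_zero_iff P.ee).mpr ht)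
      (β.injective (heq.trans hxe.symm))).1
  have hAsurj : ∀ w : Vn, ∃ z : Vn, w ∈ Wsub i j → z ∈ Wsub i j ∧ A z = w := by
    intro w
    let T : Wsub (F := F) i j → Wsub (F := F) i j := fun z => ⟨A z.1, hAW z.1 z.2⟩
    have hT : Function.Injective T := by
      intro x y hxy
      have h1 : A x.1 = A y.1 := congrArg Subtype.val hxy
      have hd : x.1 - y.1 ∈ Wsub i j := sub_mem x.2 y.2
      have h2 := hAadd (x.1 - y.1) hd y.1 y.2
      rw [sub_add_cancel, h1, right_eq_add] at h2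
      exact Subtype.ext (sub_eq_zero.mp (hAinj _ hd h2))
    by_cases hw : w ∈ Wsub i j
    · obtain ⟨z, hz⟩ := Finite.injective_iff_surjective.mp hT ⟨w, hw⟩
      exact ⟨z.1, fun _ => ⟨z.2, congrArg Subtype.val hz⟩⟩
    · exact ⟨0, fun h => absurd h hw⟩
  choose Ai hAi using hAsurj
  have hAiA : ∀ z ∈ Wsub i j, Ai (A z) = z := fun z hz => by
    obtain ⟨h1, h2⟩ := hAi (A z) (hAW z hz)
    have hd : Ai (A z) - z ∈ Wsub i j := sub_mem h1 hz
    have h3 := hAadd (Ai (A z) - z) hd z hz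
    rw [sub_add_cancel, h2, right_eq_add] at h3
    exact sub_eq_zero.mp (hAinj _ hd h3)
  -- intertwining with the stabiliser of the pair
  have hAL : ∀ h : Gn, ∀ lam ν : F, act h e = lam • e → act h f = ν • f → ∀ h' : Gn,
      β (pu h) = pu h' → ∀ lam' ν' : F, act h' e = lam' • e → act h' f = ν' • f →
      ∀ z ∈ Wsub i j, A (star lam • act h z) = star lam' • act h' (A z) := by
    intro h lam ν h1 h2 h' hh' lam' ν' h1' h2' z hz
    obtain ⟨a, ha⟩ := exists_param hstar hF P.ee (P.herm_W hz).1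
    obtain ⟨b, hb, heq⟩ := hA z hz a ha
    obtain ⟨hk, hc⟩ := conj_eich_line hstar ha (lam_ne_zero he.1 h1) h1
    obtain ⟨hk', hc'⟩ := conj_eich_line hstar hb (lam_ne_zero he.1 h1') h1'
    have hLz := (Wsub i j).smul_mem (star lam) (act_mem_W P h1 h2 hstar hz)
    obtain ⟨b', hb', heq'⟩ := hA _ hLz _ hk
    rw [← hc, map_mul (pu : Gn →* Pn), map_mul (pu : Gn →* Pn), map_inv (pu : Gn →* Pn), map_mul, map_mul, map_inv, heq, hh',
      ← map_inv, ← map_mul, ← map_mul, hc'] at heq'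
    exact (pu_eich_inj hstar hF hn P p ((Wsub i j).smul_mem _ (act_mem_W P h1' h2' hstar (hAW z hz)))
      (hAW _ hLz) hk' hb' heq').1.symm
  -- semilinearity
  have hsemi : ∀ c : F, ∃ b : F, ∀ z ∈ Wsub i j, A (c • z) = b • A z := by
    intro c
    obtain ⟨b, hb⟩ := commutant_scalar hstar hF hn hs P (fun w => A (c • Ai w))
      (fun w hw => hAW _ ((Wsub i j).smul_mem c (hAi w hw).1))
      (fun x hx y hy => by
        obtain ⟨hx1, hx2⟩ := hAi x hx
        obtain ⟨hy1, hy2⟩ := hAi y hy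
        have : Ai (x + y) = Ai x + Ai y := by
          conv_lhs => rw [← hx2, ← hy2, ← hAadd _ hx1 _ hy1]
          exact hAiA _ ((Wsub i j).add_mem hx1 hy1)
        simp only [this, smul_add]
        exact hAadd _ ((Wsub i j).smul_mem c hx1) _ ((Wsub i j).smul_mem c hy1))
      (by
        rintro L lam ⟨h, ν, h1, h2, hL⟩ w hw
        obtain ⟨y, hy⟩ := β.surjective (pu h)
        obtain ⟨h₀, rfl⟩ := pu_surjective y
        have hsymm : Fix hstar β⁻¹ e f := by
          constructor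
          · conv_lhs => rw [← hβ.1]
            rw [Set.image_image]; simp
          · conv_lhs => rw [← hβ.2]
            rw [Set.image_image]; simp
        obtain ⟨lam₀, ν₀, h01, h02⟩ := fix_stab (p := p) hstar hF hn P hsymm (h := h) (h' := h₀) h1 h2
          (by rw [← hy, MulAut.inv_apply_self]) inferInstance
        obtain ⟨hu, hwu⟩ := hAi w hw
        set u := Ai w
        have hcu := (Wsub i j).smul_mem c hu
        have e1 := hAL h₀ lam₀ ν₀ h01 h02 h hy lam ν h1 h2 u hu
        rw [hwu] at e1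
        have e2 := hAL h₀ lam₀ ν₀ h01 h02 h hy lam ν h1 h2 (c • u) hcu
        rw [act_smul, smul_comm] at e2
        have hwL : L w = star lam • act h w := hL w hw
        change A (c • Ai (L w)) = L (A (c • u))
        rw [hL _ (hAW _ hcu), hwL, ← e1,
          hAiA _ ((Wsub i j).smul_mem _ (act_mem_W P h01 h02 hstar hu)), e2])
    refine ⟨b, fun z hz => ?_⟩
    have := hb (A z) (hAW z hz)
    rwa [hAiA z hz] at this
  choose σ₀ hσ₀ using hsemi
  obtain ⟨k₁, hk₁i, hk₁j⟩ : ∃ k : Fin n, k ≠ i ∧ k ≠ j := by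
    rcases W_cases i j hn with ⟨k, -, h1, h2, -⟩ | ⟨k, h1, h2, -⟩ <;> exact ⟨k, h1, h2⟩
  set w₁ : Vn := Pi.single k₁ 1 with hw₁
  have hw₁W : w₁ ∈ Wsub i j :=
    ⟨Pi.single_eq_of_ne (Ne.symm hk₁i) _, Pi.single_eq_of_ne (Ne.symm hk₁j) _⟩
  have hw₁0 : w₁ ≠ 0 := fun h => (one_ne_zero : (1 : F) ≠ 0) (by simpa [hw₁] using congrFun h k₁)
  have hAw₁ : A w₁ ≠ 0 := fun h => hw₁0 (hAinj _ hw₁W h)
  have hσu : ∀ c b, A (c • w₁) = b • A w₁ → σ₀ c = b := fun c b h =>
    smul_left_injective F hAw₁ ((hσ₀ c w₁ hw₁W).symm.trans h)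
  let σh : F →+* F :=
    { toFun := σ₀
      map_one' := hσu 1 1 (by rw [one_smul, one_smul])
      map_mul' := fun x y => hσu _ _ (by
        rw [mul_smul, hσ₀ x _ ((Wsub i j).smul_mem y hw₁W), hσ₀ y _ hw₁W, smul_smul])
      map_zero' := hσu 0 0 (by rw [zero_smul, zero_smul, hA0])
      map_add' := fun x y => hσu _ _ (by
        rw [add_smul, hAadd _ ((Wsub i j).smul_mem x hw₁W) _ ((Wsub i j).smul_mem y hw₁W),
          hσ₀ x _ hw₁W, hσ₀ y _ hw₁W, add_smul]) }
  let σ : F ≃+* F := RingEquiv.ofBijective σh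
    ⟨σh.injective, Finite.injective_iff_surjective.mp σh.injective⟩
  have hσ : ∀ c, ∀ z ∈ Wsub i j, A (c • z) = σ c • A z := fun c z hz => hσ₀ c z hz
  -- the commutator relation
  have hrel : ∀ w ∈ Wsub i j, ∀ z ∈ Wsub i j,
      φ (herm w z - herm z w) = herm (A w) (A z) - herm (A z) (A w) := by
    intro w hw z hz
    obtain ⟨a, ha⟩ := exists_param hstar hF P.ee (P.herm_W hz).1
    obtain ⟨b, hb⟩ := exists_param hstar hF P.ee (P.herm_W hw).1
    obtain ⟨a', ha', e1⟩ := hA z hz a ha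
    obtain ⟨b', hb', e2⟩ := hA w hw b hb
    have hskew : ∀ x y : Vn, star (herm x y - herm y x) = -(herm x y - herm y x) := fun x y => by
      rw [star_sub, star_herm, star_herm, neg_sub]
    have key : ∀ (x y : Vn) (c d : F), EOk e x c → EOk e y d →
        eich hstar e x c * eich hstar e y d =
          eich hstar e 0 (herm y x - herm x y) * (eich hstar e y d * eich hstar e x c) := by
      intro x y c d hc hd
      rw [eich_mul hstar hd hc, eich_mul hstar ((EOk_zero_iff P.ee).mpr (hskew y x)) (hd.add hc),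
        eich_mul hstar hc hd, zero_add, herm_zero_left, sub_zero, add_comm x y]
      congr 1
      ring
    have h1 := congrArg (fun g => β (pu g)) (key z w a b ha hb)
    simp only [map_mul, e1, e2, (hφ _ (hskew w z)).2] at h1
    simp only [← map_mul] at h1
    rw [key _ _ _ _ ha' hb', map_mul (pu : Gn →* Pn), map_mul (pu : Gn →* Pn) (eich hstar e 0 (φ _))] at h1
    have h2 := mul_right_cancel h1
    exact ((pu_eich_inj hstar hF hn P p (Wsub i j).zero_mem (Wsub i j).zero_mem
      ((EOk_zero_iff P.ee).mpr (hskew (A w) (A z))) ((EOk_zero_iff P.ee).mpr (hφ _ (hskew w z)).1)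
      h2).2).symm
  have hrelc : ∀ w ∈ Wsub i j, ∀ z ∈ Wsub i j, ∀ c : F,
      φ (c * herm w z - star c * herm z w) =
        σ c * herm (A w) (A z) - σ (star c) * herm (A z) (A w) := by
    intro w hw z hz c
    have h1 := hrel w hw (c • z) ((Wsub i j).smul_mem c hz)
    rwa [herm_smul_right, herm_smul_left, hσ c z hz, herm_smul_right, herm_smul_left,
      ← map_star_comm hstar] at h1
  obtain ⟨b₁, hb₁⟩ := Hermitian.exists_star_ne hstar hF
  have horth : ∀ w ∈ Wsub i j, ∀ z ∈ Wsub i j, herm w z = 0 → herm (A w) (A z) = 0 := by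
    intro w hw z hz h0
    have h0' : herm z w = 0 := by rw [← star_herm, h0, star_zero]
    have h1 := hrelc w hw z hz 1
    have h2 := hrelc w hw z hz b₁
    simp only [h0, h0', mul_zero, sub_zero, hφ0, map_one, star_one, one_mul] at h1 h2
    have h3 : (σ b₁ - σ (star b₁)) * herm (A w) (A z) = 0 := by
      linear_combination -h2 + σ (star b₁) * h1
    refine (mul_eq_zero.mp h3).resolve_left fun h => hb₁ (σ.injective (sub_eq_zero.mp h)).symm
  have hone : ∀ k : Fin n, k ≠ i → k ≠ j → (Pi.single k 1 : Vn) ∈ Wsub i j := fun k h1 h2 =>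
    ⟨Pi.single_eq_of_ne (Ne.symm h1) _, Pi.single_eq_of_ne (Ne.symm h2) _⟩
  have hN : ∀ k : Fin n, k ≠ i → k ≠ j → ∀ c : F, φ (c - star c) =
      herm (A (Pi.single k 1)) (A (Pi.single k 1)) * (σ c - σ (star c)) := by
    intro k h1 h2 c
    have h3 := hrelc _ (hone k h1 h2) _ (hone k h1 h2) c
    rw [herm_single_one, mul_one, mul_one] at h3
    rw [h3]; ring
  set κ := herm (A w₁) (A w₁) with hκ
  have hκs : star κ = κ := star_herm _ _
  have hσne : σ b₁ - σ (star b₁) ≠ 0 :=
    fun h => hb₁ (σ.injective (sub_eq_zero.mp h)).symm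
  have hκk : ∀ k : Fin n, k ≠ i → k ≠ j →
      herm (A (Pi.single k 1)) (A (Pi.single k 1)) = κ := by
    intro k h1 h2
    exact mul_right_cancel₀ hσne ((hN k h1 h2 b₁).symm.trans (hN k₁ hk₁i hk₁j b₁))
  have hφσ : ∀ t, star t = -t → φ t = κ * σ t := by
    intro t ht
    obtain ⟨c₀, hc₀⟩ := exists_trace hstar hF (r := (1 : F)) (by simp)
    have h1 : c₀ * t - star (c₀ * t) = t := by
      rw [star_mul', ht]; linear_combination t * hc₀
    have h2 := hN k₁ hk₁i hk₁j (c₀ * t)
    rw [h1] at h2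
    rw [h2, ← map_sub, h1, ← hw₁]
  have hκ0 : κ ≠ 0 := by
    intro h0
    obtain ⟨θ, hθ0, hθ⟩ := exists_skew hstar hF
    exact hθ0 (hφinj θ hθ (by rw [hφσ θ hθ, h0, zero_mul]))
  have hsim : ∀ u ∈ Wsub i j, ∀ v ∈ Wsub i j, herm (A u) (A v) = κ * σ (herm u v) := by
    intro u hu
    refine W_eq_sum (p := fun u => ∀ v ∈ Wsub i j, herm (A u) (A v) = κ * σ (herm u v)) hu ?_ ?_ ?_
    · intro v _
      rw [hA0, herm_zero_left, herm_zero_left, map_zero, mul_zero]
    · intro x y hx hy h1 h2 v hv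
      rw [hAadd x hx y hy, herm_add_left, herm_add_left, h1 v hv, h2 v hv, map_add, mul_add]
    · intro k c hki hkj v hv
      refine W_eq_sum (p := fun v => herm (A (Pi.single k c)) (A v) =
        κ * σ (herm (Pi.single k c) v)) hv ?_ ?_ ?_
      · rw [hA0, herm_zero_right, herm_zero_right, map_zero, mul_zero]
      · intro x y hx hy h1 h2
        rw [hAadd x hx y hy, herm_add_right, herm_add_right, h1, h2, map_add, mul_add]
      · intro m d hmi hmj
        have hs1 : ∀ (k : Fin n) (c : F), (Pi.single k c : Vn) = c • Pi.single k 1 := fun k c => by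
          rw [← Pi.single_smul, smul_eq_mul, mul_one]
        rw [hs1 k c, hs1 m d, hσ c _ (hone k hki hkj), hσ d _ (hone m hmi hmj), herm_smul_left,
          herm_smul_right, herm_smul_left, herm_smul_right, ← map_star_comm hstar, map_mul,
          map_mul]
        rcases eq_or_ne k m with rfl | hkm
        · rw [hκk k hki hkj, herm_single_one, map_one]
          ring
        · have h0 : herm (Pi.single k 1 : Vn) (Pi.single m 1) = 0 := by
            rw [herm_single_left, Pi.single_eq_of_ne hkm, mul_zero]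
          rw [horth _ (hone k hki hkj) _ (hone m hmi hmj) h0, h0, map_zero]
          ring
  obtain ⟨d, hd⟩ := exists_neg_norm hstar hF hκs
  have hd0 : d ≠ 0 := fun h => hκ0 (by rw [← hd, h, mul_zero])
  -- the unitary matrix
  have P' := pair_field hstar σ P
  have hpW : ∀ v : Vn, σ.symm ∘ projW (σ ∘ e) (σ ∘ f) v ∈ Wsub i j := fun v =>
    comp_mem_W σ.symm (P'.projW_mem v)
  let L : Vn →ₗ[F] Vn :=
    { toFun := fun v => (star d * herm (σ ∘ f) v) • e + (d⁻¹ * herm (σ ∘ e) v) • f +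
        d⁻¹ • A (σ.symm ∘ projW (σ ∘ e) (σ ∘ f) v)
      map_add' := fun u v => by
        have h1 : σ.symm ∘ projW (σ ∘ e) (σ ∘ f) (u + v) =
            σ.symm ∘ projW (σ ∘ e) (σ ∘ f) u + σ.symm ∘ projW (σ ∘ e) (σ ∘ f) v := by
          rw [projW_add]; funext m; simp
        rw [h1, hAadd _ (hpW u) _ (hpW v), herm_add_right, herm_add_right]
        module
      map_smul' := fun c v => by
        have h1 : σ.symm ∘ projW (σ ∘ e) (σ ∘ f) (c • v) =
            σ.symm c • (σ.symm ∘ projW (σ ∘ e) (σ ∘ f) v) := by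
          rw [projW_smul]; funext m; simp
        rw [h1, hσ _ _ (hpW v), RingEquiv.apply_symm_apply, herm_smul_right, herm_smul_right,
          RingHom.id_apply]
        module }
  have hLherm : ∀ u v, herm (L u) (L v) = herm u v := by
    intro u v
    have hu := hAW _ (hpW u)
    have hv := hAW _ (hpW v)
    have hv2 := P'.projW_mem v
    have hu2 := P'.projW_mem u
    conv_rhs => rw [eq_projW_add (σ ∘ e) (σ ∘ f) u, eq_projW_add (σ ∘ e) (σ ∘ f) v]
    have hW : herm (A (σ.symm ∘ projW (σ ∘ e) (σ ∘ f) u)) (A (σ.symm ∘ projW (σ ∘ e) (σ ∘ f) v)) =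
        κ * herm (projW (σ ∘ e) (σ ∘ f) u) (projW (σ ∘ e) (σ ∘ f) v) := by
      rw [hsim _ (hpW u) _ (hpW v), herm_comp hstar σ.symm, RingEquiv.apply_symm_apply]
    simp only [L, LinearMap.coe_mk, AddHom.coe_mk, herm_add_left, herm_add_right, herm_smul_left,
      herm_smul_right, P.ee, P.ff, P.ef, P.fe, P'.ee, P'.ff, P'.ef, P'.fe, (P.herm_W hv).1,
      (P.herm_W hv).2, (P.W_herm hu).1, (P.W_herm hu).2, (P'.herm_W hv2).1, (P'.herm_W hv2).2,
      (P'.W_herm hu2).1, (P'.W_herm hu2).2, hW, mul_zero, add_zero, zero_add, mul_one, star_mul',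
      star_star, star_inv₀]
    have hds : star d ≠ 0 := star_ne_zero.mpr hd0
    rw [← hd]
    field_simp
  let M : Matrix (Fin n) (Fin n) F := LinearMap.toMatrix' L
  have hM : Mᴴ * M = 1 := by
    ext a b
    have h1 : (Mᴴ * M) a b = herm (L (Pi.single a 1)) (L (Pi.single b 1)) := by
      rw [← LinearMap.toMatrix'_mulVec, ← LinearMap.toMatrix'_mulVec, Matrix.mulVec_single_one,
        Matrix.mulVec_single_one]
      rfl
    rw [h1, hLherm, herm_single_left, star_one, one_mul, Matrix.one_apply, Pi.single_apply]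
  let gl : GL (Fin n) F := ⟨M, Mᴴ, mul_eq_one_comm.mp hM, hM⟩
  let g : Cfsg.GU n F q := ⟨gl, (mem_GU_iff_star hstar gl).mpr hM⟩
  have hsact : ∀ v, sact g.1 σ v = L (σ ∘ v) := fun v => LinearMap.toMatrix'_mulVec L _
  have hproj0 : projW (σ ∘ e) (σ ∘ f) (σ ∘ e) = 0 ∧ projW (σ ∘ e) (σ ∘ f) (σ ∘ f) = 0 := by
    constructor <;> simp [projW, P'.ee, P'.ff, P'.ef, P'.fe]
  have hσ0 : σ.symm ∘ (0 : Vn) = 0 := funext fun m => map_zero σ.symm
  have hge : sact g.1 σ e = star d • e := by
    rw [hsact]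
    simp [L, hproj0.1, hσ0, hA0, P'.fe, P'.ee]
  have hgf : sact g.1 σ f = d⁻¹ • f := by
    rw [hsact]
    simp [L, hproj0.2, hσ0, hA0, P'.ff, P'.ef]
  have hgW : ∀ z ∈ Wsub i j, sact g.1 σ z = d⁻¹ • A z := by
    intro z hz
    have hz' := comp_mem_W σ hz
    rw [hsact]
    have h1 : σ.symm ∘ projW (σ ∘ e) (σ ∘ f) (σ ∘ z) = z := by
      rw [projW, (P'.herm_W hz').1, (P'.herm_W hz').2, zero_smul, zero_smul, sub_zero, sub_zero]
      funext m; simp
    simp [L, h1, (P'.herm_W hz').1, (P'.herm_W hz').2]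
  have hrd : star d ≠ 0 := star_ne_zero.mpr hd0
  have haut : ∀ z ∈ Wsub i j, ∀ a, EOk e z a → EOk e (A z) (κ * σ a) ∧
      (cU g * fU σ : MulAut Pn) (pu (eich hstar e z a)) = pu (eich hstar e (A z) (κ * σ a)) := by
    intro z hz a ha
    have h1 := EOk_sact hstar g σ ha
    rw [hge, hgW z hz] at h1
    have h2 := h1.smul _ hrd
    rw [aut_eich hstar g σ ha, hge, hgW z hz, eich_smul hstar h1 hrd]
    rw [star_star, smul_smul, mul_inv_cancel₀ hd0, one_smul, mul_comm d, hd] at h2 ⊢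
    exact ⟨h2, rfl⟩
  refine ⟨g, σ, ⟨?_, ?_⟩, ?_, ?_⟩
  · rw [Tb_sact hstar g σ P.ee, hge, Tb_smul hstar P.ee hrd]
  · rw [Tb_sact hstar g σ P.ff, hgf, Tb_smul hstar P.ff (inv_ne_zero hd0)]
  · intro t ht
    rw [(hφ t ht).2, (haut 0 (Wsub i j).zero_mem t ((EOk_zero_iff P.ee).mpr ht)).2, hA0, hφσ t ht]
  · intro z hz a ha
    obtain ⟨b, hb, heq⟩ := hA z hz a ha
    exact ⟨A z, b, κ * σ a, hAW z hz, hb, (haut z hz a ha).1, heq, (haut z hz a ha).2⟩

include hF hn P in
theorem eq_one_of_fix (p : ℕ) [Fact p.Prime] [CharP F p] (hs : ¬(n = 3 ∧ q = 2))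
    {γ : MulAut Pn} (hγ : Fix hstar γ e f)
    (hT : ∀ t, star t = -t → γ (pu (eich hstar e 0 t)) = pu (eich hstar e 0 t))
    (hW : ∀ z ∈ Wsub i j, ∀ a, EOk e z a →
      ∃ b, EOk e z b ∧ γ (pu (eich hstar e z a)) = pu (eich hstar e z b)) : γ = 1 := by
  classical
  obtain ⟨he, hf⟩ := pair_isPt P
  have hδ : ∀ z : Vn, ∃ d : F, z ∈ Wsub i j → star d = -d ∧ ∀ a, EOk e z a →
      γ (pu (eich hstar e z a)) = pu (eich hstar e z (a + d)) := fun z => by
    by_cases hz : z ∈ Wsub i j
    swap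
    · exact ⟨0, fun h => absurd h hz⟩
    obtain ⟨a₀, ha₀⟩ := exists_param hstar hF P.ee (P.herm_W hz).1
    obtain ⟨b₀, hb₀, heq⟩ := hW z hz a₀ ha₀
    refine ⟨b₀ - a₀, fun _ => ⟨by rw [star_sub]; linear_combination hb₀.2.2 - ha₀.2.2,
      fun a ha => ?_⟩⟩
    have hs : star (a - a₀) = -(a - a₀) := by rw [star_sub]; linear_combination ha.2.2 - ha₀.2.2
    have h0 := (EOk_zero_iff P.ee).mpr hs
    have hsplit : ∀ c, EOk e z c → eich hstar e z (c + (a - a₀)) =
        eich hstar e z c * eich hstar e 0 (a - a₀) := fun c hc => by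
      rw [eich_mul hstar hc h0, add_zero, herm_zero_right, sub_zero]
    have h1 := hsplit a₀ ha₀
    rw [add_sub_cancel] at h1
    rw [h1, map_mul (pu : Gn →* Pn), map_mul, heq, hT _ hs, ← map_mul, ← hsplit b₀ hb₀]
    congr 2
    ring
  choose δ hδ using hδ
  have hδok : ∀ z ∈ Wsub i j, ∀ a, EOk e z a → EOk e z (a + δ z) := fun z hz a ha =>
    ⟨ha.1, ha.2.1, by rw [star_add, (hδ z hz).1]; linear_combination ha.2.2⟩
  have hδadd : ∀ x ∈ Wsub i j, ∀ y ∈ Wsub i j, δ (x + y) = δ x + δ y := by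
    intro x hx y hy
    obtain ⟨a, ha⟩ := exists_param hstar hF P.ee (P.herm_W hx).1
    obtain ⟨b, hb⟩ := exists_param hstar hF P.ee (P.herm_W hy).1
    have hxy := (Wsub i j).add_mem hx hy
    have h1 := (hδ _ hxy).2 _ (ha.add hb)
    rw [← eich_mul hstar ha hb, map_mul (pu : Gn →* Pn), map_mul, (hδ x hx).2 a ha, (hδ y hy).2 b hb, ← map_mul,
      eich_mul hstar (hδok x hx a ha) (hδok y hy b hb)] at h1
    have h2 := (pu_eich_inj hstar hF hn P p hxy hxy ((hδok x hx a ha).add (hδok y hy b hb))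
      (hδok _ hxy _ (ha.add hb)) h1).2
    linear_combination -h2
  obtain ⟨θ, hθ0, hθ⟩ := exists_skew hstar hF
  have hzero : ∀ z ∈ Wsub i j, δ z = 0 := by
    refine twist_eq_zero hstar hF hn hs P δ (fun z hz => (hδ z hz).1) hδadd ?_
    rintro L lam ⟨h, ν, h1, h2, hL⟩ z hz
    obtain ⟨h', hh'⟩ := pu_surjective (γ (pu h))
    obtain ⟨lam', ν', h1', h2'⟩ := fix_stab (p := p) hstar hF hn P hγ h1 h2 hh'.symm inferInstance
    obtain ⟨a, ha⟩ := exists_param hstar hF P.ee (P.herm_W hz).1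
    obtain ⟨hk, hc⟩ := conj_eich_line hstar ha (lam_ne_zero he.1 h1) h1
    obtain ⟨hk', hc'⟩ := conj_eich_line hstar (hδok z hz a ha) (lam_ne_zero he.1 h1') h1'
    have hLz := (Wsub i j).smul_mem (star lam) (act_mem_W P h1 h2 hstar hz)
    have hLz' := (Wsub i j).smul_mem (star lam') (act_mem_W P h1' h2' hstar hz)
    have e1 := (hδ _ hLz).2 _ hk
    rw [← hc, map_mul (pu : Gn →* Pn), map_mul (pu : Gn →* Pn), map_inv (pu : Gn →* Pn), map_mul, map_mul, map_inv, (hδ z hz).2 a ha,
      ← hh', ← map_inv, ← map_mul, ← map_mul, hc'] at e1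
    obtain ⟨e2, e3⟩ := pu_eich_inj hstar hF hn P p hLz' hLz hk' (hδok _ hLz _ hk) e1
    have h0 := (EOk_zero_iff P.ee).mpr hθ
    obtain ⟨t1, t2⟩ := conj_eich_line hstar h0 (lam_ne_zero he.1 h1) h1
    obtain ⟨t1', t2'⟩ := conj_eich_line hstar h0 (lam_ne_zero he.1 h1') h1'
    rw [act_zero, smul_zero] at t1 t2 t1' t2'
    have e4 := hT _ ((EOk_zero_iff P.ee).mp t1)
    rw [← t2, map_mul (pu : Gn →* Pn), map_mul (pu : Gn →* Pn), map_inv (pu : Gn →* Pn), map_mul, map_mul, map_inv, hT θ hθ, ← hh',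
      ← map_inv, ← map_mul, ← map_mul, ← map_inv, ← map_mul, ← map_mul, t2, t2'] at e4
    have e5 := (pu_eich_inj hstar hF hn P p (Wsub i j).zero_mem (Wsub i j).zero_mem t1' t1 e4).2
    have hNN : star lam' * lam' = star lam * lam := mul_right_cancel₀ hθ0 e5
    rw [hL z hz]
    rw [hNN] at e3
    linear_combination -e3
  -- the Eichler group is fixed pointwise, hence so is every point
  have hQ : ∀ z ∈ Wsub i j, ∀ a, EOk e z a →
      γ (pu (eich hstar e z a)) = pu (eich hstar e z a) := fun z hz a ha => by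
    rw [(hδ z hz).2 a ha, hzero z hz, add_zero]
  have hsmul : ∀ v : Vn, IsPt v → ∀ c : F, c ≠ 0 → γ '' Tb hstar v = Tb hstar v →
      γ '' Tb hstar (c • v) = Tb hstar (c • v) := fun v hv c hc h => by
    rw [Tb_smul hstar hv.2 hc, h]
  have hoff : ∀ v : Vn, IsPt v → herm e v ≠ 0 → γ '' Tb hstar v = Tb hstar v := by
    intro v hv hev
    set u := (herm e v)⁻¹ • v with hu
    have heu : herm e u = 1 := by rw [hu, herm_smul_right, inv_mul_cancel₀ hev]
    have huu : herm u u = 0 := by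
      rw [hu, herm_smul_left, herm_smul_right, hv.2, mul_zero, mul_zero]
    set z := projW e f u with hz
    have hzW : z ∈ Wsub i j := P.projW_mem u
    have hueq : u = herm f u • e + f + z := by
      conv_lhs => rw [eq_projW_add e f u, heu, one_smul]
    have hok : EOk e z (herm f u) := by
      refine ⟨P.ee, (P.herm_W hzW).1, ?_⟩
      rw [hueq] at huu
      simp only [herm_add_left, herm_add_right, herm_smul_left, herm_smul_right, P.ee, P.ff, P.ef,
        P.fe, (P.herm_W hzW).1, (P.herm_W hzW).2, (P.W_herm hzW).1, (P.W_herm hzW).2] at huu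
      linear_combination huu
    have hEf : act (eich hstar e z (herm f u)) f = u := by
      rw [act_eich hstar hok, P.ef, (P.W_herm hzW).2]
      conv_rhs => rw [hueq]
      module
    have hT2 : γ '' Tb hstar u = Tb hstar u := by
      rw [← hEf, ← Tb_conj hstar P.ff, Set.image_image]
      conv_rhs => rw [← hγ.2, Set.image_image]
      refine Set.image_congr' fun x => ?_
      rw [MulAut.conj_apply, MulAut.conj_apply, map_mul, map_mul, map_inv, hQ z hzW _ hok]
    have := hsmul u ⟨fun h => by rw [h, herm_zero_right] at heu; exact zero_ne_one heu, huu⟩ _ hev hT2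
    rwa [hu, smul_smul, mul_inv_cancel₀ hev, one_smul] at this
  have hall : ∀ v : Vn, IsPt v → γ '' Tb hstar v = Tb hstar v := by
    intro v hv
    by_cases hev : herm e v = 0
    swap
    · exact hoff v hv hev
    obtain ⟨w, hw, hvw⟩ := exists_image hstar hF hn p γ hv
    suffices h : ∃ c : F, c ≠ 0 ∧ w = c • v by
      obtain ⟨c, hc, rfl⟩ := h
      rw [hvw, Tb_smul hstar hv.2 hc]
    have hperp : ∀ r : Vn, IsPt r → γ '' Tb hstar r = Tb hstar r → herm r v = 0 →
        herm r w = 0 := by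
      intro r hr hrfix h0
      rw [← Tb_commute_iff hstar hF hn p hr hw, ← hrfix, ← hvw]
      rintro _ ⟨x, hx, rfl⟩ _ ⟨y, hy, rfl⟩
      rw [← map_mul, ← map_mul, (Tb_commute_iff hstar hF hn p hr hv).mpr h0 x hx y hy]
    have hew : herm e w = 0 := hperp e he hγ.1 hev
    by_cases hline : ∃ c : F, v = c • e
    · obtain ⟨c, rfl⟩ := hline
      have hc : c ≠ 0 := fun h => hv.1 (by rw [h, zero_smul])
      refine Tb_inj hstar hF hn p hv hw ?_
      rw [← hvw]
      exact (hsmul e he c hc hγ.1).symm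
    set z := projW e f v with hz
    set z' := projW e f w with hz'
    set a := herm f v with ha
    set a' := herm f w with ha'
    have hzW : z ∈ Wsub i j := P.projW_mem v
    have hz'W : z' ∈ Wsub i j := P.projW_mem w
    have hveq : v = a • e + z := by
      rw [hz, projW, hev, zero_smul, ha]; abel
    have hweq : w = a' • e + z' := by
      rw [hz', projW, hew, zero_smul, ha']; abel
    have hcond : ∀ x ∈ Wsub i j, star a + herm z x = 0 → star a' + herm z' x = 0 := by
      intro x hx h0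
      obtain ⟨γ', hγ'⟩ := exists_param hstar hF P.ee (P.herm_W hx).1
      set r := f + x + γ' • e with hr
      have her : herm e r = 1 := by
        rw [hr, herm_add_right, herm_add_right, herm_smul_right, P.ee, P.ef, (P.herm_W hx).1]; ring
      have hrr : herm r r = 0 := by
        simp only [hr, herm_add_left, herm_add_right, herm_smul_left, herm_smul_right, P.ee, P.ff,
          P.ef, P.fe, (P.herm_W hx).1, (P.herm_W hx).2, (P.W_herm hx).1, (P.W_herm hx).2]
        linear_combination hγ'.2.2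
      have hrpt : IsPt r :=
        ⟨fun h => by rw [h, herm_zero_right] at her; exact zero_ne_one her, hrr⟩
      have hgen : ∀ (c : F) (y : Vn), y ∈ Wsub i j →
          herm (c • e + y) r = star c + herm y x := fun c y hy => by
        simp only [hr, herm_add_left, herm_add_right, herm_smul_left, herm_smul_right, P.ee,
          P.ef, (P.herm_W hx).1, (P.W_herm hy).1, (P.W_herm hy).2]
        ring
      have hvr : herm r v = 0 := by
        rw [← star_herm, hveq, hgen a z hzW, h0, star_zero]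
      have h1 := hperp r hrpt (hoff r hrpt (by rw [her]; exact one_ne_zero)) hvr
      rw [← star_herm, hweq, hgen a' z' hz'W, star_eq_zero] at h1
      exact h1
    obtain ⟨k, hk⟩ : ∃ k, z k ≠ 0 := by
      by_contra! h
      exact hline ⟨a, by rw [hveq, show z = 0 from funext h, add_zero]⟩
    have hki : k ≠ i := fun h => hk (h ▸ hzW.1)
    have hkj : k ≠ j := fun h => hk (h ▸ hzW.2)
    have hsk : ∀ c : F, (Pi.single k c : Vn) ∈ Wsub i j := fun c =>
      ⟨Pi.single_eq_of_ne (Ne.symm hki) _, Pi.single_eq_of_ne (Ne.symm hkj) _⟩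
    have hks : star (z k) ≠ 0 := star_ne_zero.mpr hk
    have h1 := hcond _ (hsk (-star a / star (z k))) (by
      rw [herm_single_right]; field_simp; ring)
    rw [herm_single_right] at h1
    have hz'eq : z' = (z' k / z k) • z := by
      funext m
      by_cases hm : m = i ∨ m = j
      · rcases hm with rfl | rfl
        · rw [hz'W.1, Pi.smul_apply, hzW.1, smul_zero]
        · rw [hz'W.2, Pi.smul_apply, hzW.2, smul_zero]
      push Not at hm
      have hsm : (Pi.single m 1 : Vn) ∈ Wsub i j :=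
        ⟨Pi.single_eq_of_ne (Ne.symm hm.1) _, Pi.single_eq_of_ne (Ne.symm hm.2) _⟩
      have h2 := hcond _ ((Wsub i j).add_mem hsm (hsk ((-star a - star (z m)) / star (z k)))) (by
        rw [herm_add_right, herm_single_right, herm_single_right]; field_simp; ring)
      rw [herm_add_right, herm_single_right, herm_single_right] at h2
      have h3 : star (z' m) = star (z m) * star (z' k) / star (z k) := by
        field_simp at h1 h2 ⊢
        linear_combination h2 - h1
      have h4 := congrArg star h3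
      simp only [star_star, star_div₀, star_mul'] at h4
      rw [Pi.smul_apply, smul_eq_mul, h4]
      field_simp
    have ha'eq : a' = z' k / z k * a := by
      have h3 : star a' = star (z' k) / star (z k) * star a := by
        field_simp at h1 ⊢
        linear_combination h1
      have h4 := congrArg star h3
      simpa [star_star, star_div₀, star_mul'] using h4
    refine ⟨z' k / z k, fun h0 => hw.1 ?_, ?_⟩
    · rw [hweq, hz'eq, ha'eq, h0, zero_mul, zero_smul, zero_smul, add_zero]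
    · rw [hweq, hveq, smul_add, smul_smul, ← ha'eq, ← hz'eq]
  -- conclude
  ext y
  obtain ⟨g, rfl⟩ := pu_surjective y
  obtain ⟨g', hg'⟩ := pu_surjective (γ (pu g))
  rw [← hg', MulAut.one_apply]
  refine (inv_mul_eq_one.mp ?_).symm
  rw [← map_inv, ← map_mul, pu_eq_one]
  refine mem_center_of_fixes_lines hstar hF hn fun v hv0 hvv => ?_
  have hv : IsPt v := ⟨hv0, hvv⟩
  have h1 : Tb hstar (act g' v) = (Tb hstar (act g v) : Set Pn) := by
    rw [← Tb_conj hstar hvv, hg', ← hall _ (hv.act hstar g), ← Tb_conj hstar hvv,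
      Set.image_image]
    conv_lhs => rw [← hall v hv, Set.image_image]
    refine Set.image_congr' fun x => ?_
    rw [MulAut.conj_apply, MulAut.conj_apply, map_mul, map_mul, map_inv]
  obtain ⟨c, hc, hgv⟩ := Tb_inj hstar hF hn p (hv.act hstar g') (hv.act hstar g) h1
  refine ⟨c⁻¹, ?_⟩
  rw [act_mul]
  apply act_injective g
  rw [act_act_inv, act_smul, hgv, smul_smul, inv_mul_cancel₀ hc, one_smul]

end Main

/-- Every automorphism of `PSU_n(q)` is semilinear. -/
theorem aut_decomp (hstar : ∀ x : F, star x = x ^ q) (hF : Fintype.card F = q ^ 2) (hn : 3 ≤ n)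
    (hs : ¬(n = 3 ∧ q = 2)) (α : MulAut Pn) :
    ∃ (g : Cfsg.GU n F q) (σ : F ≃+* F), α = cU g * fU σ := by
  classical
  obtain ⟨p, hp⟩ := CharP.exists F
  have : Fact p.Prime := ⟨CharP.char_is_prime F p⟩
  obtain ⟨i, j, k, e, f, P, -, -⟩ := exists_std hstar hF hn
  obtain ⟨he, hf⟩ := pair_isPt P
  obtain ⟨we, hwe, hTe⟩ := exists_image hstar hF hn p α he
  obtain ⟨wf, hwf, hTf⟩ := exists_image hstar hF hn p α hf
  have hne : herm we wf ≠ 0 := by
    intro h0
    have h1 := (Tb_commute_iff hstar hF hn p hwe hwf).mpr h0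
    rw [← hTe, ← hTf] at h1
    have h2 : herm e f = 0 := (Tb_commute_iff hstar hF hn p he hf).mp fun x hx y hy =>
      α.injective (by rw [map_mul, map_mul]; exact h1 _ ⟨x, hx, rfl⟩ _ ⟨y, hy, rfl⟩)
    rw [P.ef] at h2
    exact one_ne_zero h2
  obtain ⟨g₁, hg₁⟩ := exists_act_eq hstar hF hn he hwe
  set u := (herm we wf)⁻¹ • act g₁⁻¹ wf with hu
  have heu : herm e u = 1 := by
    have h1 : herm e (act g₁⁻¹ wf) = herm we wf := by
      rw [← herm_act hstar g₁ e, hg₁, act_act_inv]
    rw [hu, herm_smul_right, h1, inv_mul_cancel₀ hne]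
  have huu : herm u u = 0 := ((hwf.act hstar g₁⁻¹).smul (inv_ne_zero hne)).2
  set z := projW e f u with hz
  have hzW : z ∈ Wsub i j := P.projW_mem u
  have hueq : u = herm f u • e + f + z := by
    conv_lhs => rw [eq_projW_add e f u, heu, one_smul]
  have hok : EOk e z (herm f u) := by
    refine ⟨P.ee, (P.herm_W hzW).1, ?_⟩
    rw [hueq] at huu
    simp only [herm_add_left, herm_add_right, herm_smul_left, herm_smul_right, P.ee, P.ff, P.ef,
      P.fe, (P.herm_W hzW).1, (P.herm_W hzW).2, (P.W_herm hzW).1, (P.W_herm hzW).2] at huu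
    linear_combination huu
  set g₀ := g₁ * eich hstar e z (herm f u) with hg₀
  have hg₀e : act g₀ e = we := by rw [hg₀, act_mul, act_eich_self hstar hok, hg₁]
  have hg₀f : act g₀ f = (herm we wf)⁻¹ • wf := by
    rw [hg₀, act_mul, act_eich hstar hok, P.ef, (P.W_herm hzW).2,
      show f + (1 : F) • z + (herm f u * 1 - 0) • e = u by
        conv_rhs => rw [hueq]
        module,
      hu, act_smul, act_act_inv]
  set β := (MulAut.conj (pu g₀ : Pn))⁻¹ * α with hβ
  have hfix : Fix hstar β e f := by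
    have key : ∀ v w : Vn, herm v v = 0 → α '' Tb hstar v = Tb hstar w →
        Tb hstar (act g₀ v) = (Tb hstar w : Set Pn) → β '' Tb hstar v = Tb hstar v := by
      intro v w hv h1 h2
      have h3 : β '' Tb hstar v = ⇑((MulAut.conj (pu g₀ : Pn))⁻¹ : MulAut Pn) '' (α '' Tb hstar v) := by
        rw [Set.image_image]; rfl
      rw [h3, h1, ← h2, ← Tb_conj hstar hv, Set.image_image]
      simp only [MulAut.inv_apply_self, Set.image_id']
    exact ⟨key e we P.ee hTe (by rw [hg₀e]), key f wf P.ff hTf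
      (by rw [hg₀f, Tb_smul hstar hwf.2 (inv_ne_zero hne)])⟩
  obtain ⟨g, σ, hg, hgT, hgW⟩ := exists_semilinear hstar hF hn P p hs hfix
  refine ⟨toU g₀ * g, σ, ?_⟩
  set γ := (cU g * fU σ : MulAut Pn)⁻¹ * β with hγ
  have hγ1 : γ = 1 := by
    refine eq_one_of_fix hstar hF hn P p hs ⟨?_, ?_⟩ ?_ ?_
    · conv_rhs => rw [← (show ⇑((cU g * fU σ : MulAut Pn)⁻¹) '' Tb hstar e = Tb hstar e by
        conv_lhs => rw [← hg.1, Set.image_image]
        simp)]
      conv_rhs => rw [← hfix.1]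
      rw [Set.image_image]; rfl
    · conv_rhs => rw [← (show ⇑((cU g * fU σ : MulAut Pn)⁻¹) '' Tb hstar f = Tb hstar f by
        conv_lhs => rw [← hg.2, Set.image_image]
        simp)]
      conv_rhs => rw [← hfix.2]
      rw [Set.image_image]; rfl
    · intro t ht
      rw [hγ, MulAut.mul_apply, hgT t ht, MulAut.inv_apply_self]
    · intro z hz a ha
      obtain ⟨w, b, b', hw, hb, hb', h1, h2⟩ := hgW z hz a ha
      have hs' : star (b - b') = -(b - b') := by
        rw [star_sub]; linear_combination hb.2.2 - hb'.2.2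
      have h0 := (EOk_zero_iff P.ee).mpr hs'
      obtain ⟨x, ⟨t, ht, rfl⟩, hx⟩ : (pu (eich hstar e 0 (b - b')) : Pn) ∈
          (cU g * fU σ : MulAut Pn) '' Tb hstar e := by rw [hg.1]; exact mem_Tb hstar hs'
      have h0t := (EOk_zero_iff P.ee).mpr ht
      refine ⟨a + t, ?_, ?_⟩
      · have := ha.add h0t
        rwa [add_zero, herm_zero_right, sub_zero] at this
      · apply (cU g * fU σ : MulAut Pn).injective
        change (cU g * fU σ : MulAut Pn) ((cU g * fU σ : MulAut Pn)⁻¹ (β (pu (eich hstar e z a)))) = _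
        rw [MulAut.apply_inv_self, h1]
        have hsplit : eich hstar e z (a + t) = eich hstar e z a * eich hstar e 0 t := by
          rw [eich_mul hstar ha h0t, add_zero, herm_zero_right, sub_zero]
        rw [hsplit, map_mul (pu : Gn →* Pn), map_mul, h2, hx, ← map_mul, eich_mul hstar hb' h0, add_zero,
          herm_zero_right, sub_zero, add_sub_cancel]
  rw [map_mul, cU_toU, mul_assoc, inv_mul_eq_one.mp hγ1, hβ, mul_inv_cancel_left]

end Cfsg.Agent.Small.PSUn
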