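import Mathlib
import Cfsg.Agent.Lib.Small.PSLn.Out
import Cfsg.Agent.Lib.Small.PSUn.Aut

/-!
The outer automorphism group of `PSU_n(q)`.
-/

set_option autoImplicit false
set_option linter.unusedSectionVars false

namespace Cfsg.Agent.Small.PSUn

open Matrix Cfsg.Agent.Small.Unitary

variable {F : Type*} [Field F] [Fintype F] [StarRing F] {n q : ℕ}

local notation "Gn" => Cfsg.SU n F q
local notation "Pn" => Cfsg.PSU n F q
local notation "Un" => Cfsg.GU n F q
local notation "Vn" => Fin n → F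

variable (hstar : ∀ x : F, star x = x ^ q) (hF : Fintype.card F = q ^ 2) (hn : 3 ≤ n)

include hstar hF hn in
theorem scalar_of_aut_eq_one {g : Un} {σ : F ≃+* F} (h : (cU g * fU σ : MulAut Pn) = 1) :
    σ = 1 ∧ ∃ c : F, c ≠ 0 ∧ g.1.val = c • (1 : Matrix (Fin n) (Fin n) F) := by
  classical
  obtain ⟨p, hp⟩ := CharP.exists F
  have : Fact p.Prime := ⟨CharP.char_is_prime F p⟩
  have hline : ∀ v : Vn, IsPt v → ∃ c : F, c ≠ 0 ∧ sact g.1 σ v = c • v := by
    intro v hv
    have h1 := Tb_sact hstar g σ hv.2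
    rw [h, show ⇑(1 : MulAut Pn) = id from rfl, Set.image_id] at h1
    refine Tb_inj hstar hF hn p hv ⟨fun h0 => hv.1 (sact_injective g.1 σ (h0.trans ?_)), ?_⟩ h1
    · rw [sact, show σ ∘ (0 : Vn) = 0 from funext fun m => map_zero σ, Matrix.mulVec_zero]
    · rw [herm_sact hstar, hv.2, map_zero]
  have third : ∀ a b : Fin n, ∃ c, c ≠ a ∧ c ≠ b := fun a b => PSLn.ne_third hn a b
  set G := g.1.val with hG
  have hcol : ∀ k : Fin n, ∀ l, l ≠ k → G l k = 0 := by
    intro k l hlk
    obtain ⟨m, hmk, hml⟩ := third k l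
    obtain ⟨e, f, P⟩ := exists_pair hstar hF (Ne.symm hmk)
    have P' := pair_field hstar σ P
    obtain ⟨ce, -, hce⟩ := hline e (pair_isPt P).1
    obtain ⟨cf, -, hcf⟩ := hline f (pair_isPt P).2
    have hk : (Pi.single k 1 : Vn) = herm (σ ∘ f) (Pi.single k 1) • (σ ∘ e) +
        herm (σ ∘ e) (Pi.single k 1) • (σ ∘ f) := pair_span P' (Supp.single (by simp) 1)
    have h1 := congrArg (fun v => (G *ᵥ v) l) hk
    simp only [Matrix.mulVec_single_one, Matrix.mulVec_add, Matrix.mulVec_smul, Matrix.col_apply,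
      Pi.add_apply, Pi.smul_apply] at h1
    rw [show G *ᵥ (σ ∘ e) = ce • e from hce, show G *ᵥ (σ ∘ f) = cf • f from hcf] at h1
    have hl : l ∉ ({k, m} : Finset (Fin n)) := by simp [hlk, Ne.symm hml]
    rw [h1]
    simp [P.supp_e l hl, P.supp_f l hl]
  have hdiag : ∀ (v : Vn) (l : Fin n), (G *ᵥ v) l = G l l * v l := by
    intro v l
    rw [Matrix.mulVec, dotProduct, Finset.sum_eq_single l]
    · intro b _ hb
      rw [hcol b l (Ne.symm hb), zero_mul]
    · simp
  have hσd : ∀ k m : Fin n, k ≠ m → ∀ x : F, G m m * σ x = G k k * x := by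
    intro k m hkm x
    obtain ⟨l, hlk, hlm⟩ := third k m
    obtain ⟨y, hy⟩ := exists_neg_norm hstar hF (r := -1 - star x * x)
      (by rw [star_sub, star_neg, star_one, star_mul', star_star, mul_comm (star x)])
    let v : Vn := Pi.single k 1 + Pi.single m x + Pi.single l y
    have hvv : herm v v = 0 := by
      simp only [v, herm_add_left, herm_add_right, herm_single_left, Pi.single_eq_same,
        Pi.single_eq_of_ne hkm, Pi.single_eq_of_ne hkm.symm, Pi.single_eq_of_ne hlk,
        Pi.single_eq_of_ne hlk.symm, Pi.single_eq_of_ne hlm, Pi.single_eq_of_ne hlm.symm, star_one]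
      linear_combination hy
    have hvk : v k = 1 := by simp [v, hkm, hlk.symm]
    have hvm : v m = x := by simp [v, hkm.symm, hlm.symm]
    have hv0 : v ≠ 0 := fun h0 => one_ne_zero (hvk.symm.trans (congrFun h0 k))
    obtain ⟨c, -, hc⟩ := hline v ⟨hv0, hvv⟩
    have h1 := congrFun hc k
    have h2 := congrFun hc m
    simp only [sact, ← hG, hdiag, Function.comp_apply, hvk, hvm, map_one, mul_one, Pi.smul_apply,
      smul_eq_mul] at h1 h2
    rw [h2, h1]
  let i0 : Fin n := ⟨0, by omega⟩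
  set d := G i0 i0 with hd
  have hall : ∀ k, G k k = d := by
    intro k
    by_cases hk : k = i0
    · rw [hk]
    · have h1 := hσd k i0 hk 1
      rw [map_one, mul_one, mul_one] at h1
      exact h1.symm
  have hGd : G = d • (1 : Matrix (Fin n) (Fin n) F) := by
    ext a b
    rw [Matrix.smul_apply, Matrix.one_apply, smul_eq_mul, mul_ite, mul_one, mul_zero]
    split_ifs with hab
    · rw [hab, hall]
    · exact hcol b a hab
  have hd0 : d ≠ 0 := by
    intro h0
    have h1 : g.1.val * (g.1⁻¹ : GL (Fin n) F).val = 1 := Units.mul_inv _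
    rw [← hG, hGd, h0, zero_smul, zero_mul] at h1
    have := congrFun (congrFun h1 i0) i0
    simp at this
  refine ⟨RingEquiv.ext fun x => ?_, d, hd0, hGd⟩
  obtain ⟨m, hm, -⟩ := third i0 i0
  have h1 := hσd i0 m (Ne.symm hm) x
  rw [hall] at h1
  exact mul_left_cancel₀ hd0 h1

theorem cU_of_scalar {g : Un} {c : F} (h : g.1.val = c • (1 : Matrix (Fin n) (Fin n) F)) :
    (cU g : MulAut Pn) = 1 := by
  ext y
  obtain ⟨x, rfl⟩ := pu_surjective y
  rw [cU_apply, MulAut.one_apply]
  congr 1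
  apply ext_val
  rw [conjU_val, h, Matrix.smul_mul, Matrix.one_mul, ← Matrix.mul_one x.1.1, ← Matrix.mul_smul,
    ← h, Matrix.mul_assoc, Units.mul_inv]

include hstar hF hn in
theorem decomp_unique {g g' : Un} {σ σ' : F ≃+* F}
    (h : (cU g * fU σ : MulAut Pn) = cU g' * fU σ') :
    (cU g : MulAut Pn) = cU g' ∧ σ = σ' := by
  have h1 : (cU (uField σ'⁻¹ (g'⁻¹ * g)) * fU (σ'⁻¹ * σ) : MulAut Pn) = 1 := by
    rw [map_mul fU, ← mul_assoc, ← fU_cU, map_mul cU, map_inv cU, map_inv fU, mul_assoc,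
      mul_assoc (cU g')⁻¹, h]
    group
  obtain ⟨hσ, c, -, hc⟩ := scalar_of_aut_eq_one hstar hF hn h1
  rw [cU_of_scalar hc] at h1
  have h2 : σ = σ' := (inv_mul_eq_one.mp hσ).symm
  rw [h2] at h
  exact ⟨mul_right_cancel h, h2⟩

include hstar hF hn in
theorem exists_theta (hs : ¬(n = 3 ∧ q = 2)) :
    ∃ Θ : MulAut Pn →* (F ≃+* F),
      (∀ g σ, Θ (cU g * fU σ) = σ) ∧ Θ.ker = (cU (n := n) (F := F) (q := q)).range := by
  choose gOf σOf hOf using fun α : MulAut Pn => aut_decomp hstar hF hn hs α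
  have huniq : ∀ α g σ, α = cU g * fU σ → σOf α = σ := fun α g σ h =>
    (decomp_unique hstar hF hn ((hOf α).symm.trans h)).2
  let Θ : MulAut Pn →* (F ≃+* F) := MonoidHom.mk' σOf (fun α β => huniq (α * β) _ _
    (by conv_lhs => rw [hOf α, hOf β, decomp_mul]))
  refine ⟨Θ, fun g σ => huniq _ g σ rfl, le_antisymm ?_ ?_⟩
  · intro α hα
    exact ⟨gOf α, ((hOf α).trans (by rw [show σOf α = 1 from hα, map_one, mul_one])).symm⟩
  · rintro _ ⟨g, rfl⟩
    exact huniq _ g 1 (by rw [map_one, mul_one])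

include hstar hF hn in
theorem inndiag_normal (hs : ¬(n = 3 ∧ q = 2)) : (Cfsg.inndiagPSU n F q).Normal := by
  obtain ⟨Θ, -, hker⟩ := exists_theta hstar hF hn hs
  rw [inndiag_eq, ← hker]
  infer_instance

theorem inn_normal : (Cfsg.Inn Pn).Normal := by infer_instance

theorem inn_le_inndiag : Cfsg.Inn Pn ≤ Cfsg.inndiagPSU n F q := by
  rintro _ ⟨k, rfl⟩
  obtain ⟨x, rfl⟩ := pu_surjective k
  rw [inndiag_eq, ← cU_toU]
  exact ⟨_, rfl⟩

/-! ### Determinants -/

/-- The norm-one units. -/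
abbrev U1 (F : Type*) [Field F] (q : ℕ) : Subgroup Fˣ := (powMonoidHom (q + 1)).ker

include hstar in
theorem mem_U1_iff (u : Fˣ) : u ∈ U1 F q ↔ star (u : F) * u = 1 := by
  rw [MonoidHom.mem_ker, powMonoidHom_apply, ← Units.val_eq_one, Units.val_pow_eq_pow_val, hstar,
    ← pow_succ]

include hF in
theorem card_U1 : Nat.card (U1 F q) = q + 1 := by
  have hc : Nat.card Fˣ = q ^ 2 - 1 := by
    rw [Nat.card_units, Nat.card_eq_fintype_card, hF]
  have h1 := Subgroup.card_eq_card_quotient_mul_card_subgroup (U1 F q)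
  rw [Nat.card_congr (QuotientGroup.quotientKerEquivRange _).toEquiv] at h1
  have h2 := Subgroup.card_mul_index (powMonoidHom (q + 1) : Fˣ →* Fˣ).range
  rw [IsCyclic.index_powMonoidHom_range,
    Nat.gcd_eq_right ⟨q - 1, by rw [hc, Hermitian.sq_sub_one]⟩] at h2
  exact Nat.eq_of_mul_eq_mul_left Nat.card_pos (h1.symm.trans h2.symm)

include hstar in
theorem det_mem (g : Un) : Matrix.GeneralLinearGroup.det g.1 ∈ U1 F q := by
  rw [mem_U1_iff hstar, Matrix.GeneralLinearGroup.val_det_apply, ← Matrix.det_conjTranspose,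
    ← Matrix.det_mul, (mem_GU_iff_star hstar _).mp g.2, Matrix.det_one]

/-- The determinant on `GU_n`. -/
def detU (hstar : ∀ x : F, star x = x ^ q) : Un →* U1 F q :=
  (Matrix.GeneralLinearGroup.det.comp (Cfsg.GU n F q).subtype).codRestrict _ (det_mem hstar)

theorem detU_val (g : Un) : ((detU hstar g : Fˣ) : F) = g.1.val.det := rfl

theorem scalar_mem (u : U1 F q) (hstar : ∀ x : F, star x = x ^ q) :
    PSLn.scalarGL (n := n) u.1 ∈ Un := by
  have hv : (PSLn.scalarGL (n := n) u.1).val = (u.1 : F) • (1 : Matrix (Fin n) (Fin n) F) :=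
    PSLn.scalar_eq_smul _
  rw [mem_GU_iff_star hstar, hv, Matrix.conjTranspose_smul, Matrix.conjTranspose_one,
    Matrix.smul_mul, Matrix.one_mul, smul_smul, (mem_U1_iff hstar u.1).mp u.2, one_smul]

/-- Scalar unitary matrices. -/
noncomputable def scalarU (hstar : ∀ x : F, star x = x ^ q) : U1 F q →* Un :=
  ((PSLn.scalarGL (n := n)).comp (U1 F q).subtype).codRestrict _ (fun u => scalar_mem u hstar)

theorem scalarU_val (u : U1 F q) :
    ((scalarU (n := n) hstar u).1).val = (u.1 : F) • (1 : Matrix (Fin n) (Fin n) F) :=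
  PSLn.scalar_eq_smul _

theorem cU_scalarU (u : U1 F q) : (cU (scalarU (n := n) hstar u) : MulAut Pn) = 1 :=
  cU_of_scalar (scalarU_val hstar u)

theorem detU_scalarU (u : U1 F q) : detU hstar (scalarU (n := n) hstar u) = u ^ n := by
  apply Subtype.ext
  apply Units.ext
  rw [detU_val, scalarU_val, Matrix.det_smul, Matrix.det_one, Fintype.card_fin, mul_one]
  rfl

include hn in
theorem detU_surjective : Function.Surjective (detU (n := n) hstar) := by
  intro u
  have hw : herm (Pi.single (⟨0, by omega⟩ : Fin n) 1 : Vn) (Pi.single ⟨0, by omega⟩ 1) = 1 :=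
    herm_single_one _
  have hu : (oMat (Pi.single (⟨0, by omega⟩ : Fin n) 1 : Vn) (u.1 : F))ᴴ *
      oMat (Pi.single (⟨0, by omega⟩ : Fin n) 1 : Vn) (u.1 : F) = 1 :=
    oMat_unitary hw ((mem_U1_iff hstar u.1).mp u.2)
  let gl : GL (Fin n) F := ⟨_, _, mul_eq_one_comm.mp hu, hu⟩
  refine ⟨⟨gl, (mem_GU_iff_star hstar gl).mpr hu⟩, ?_⟩
  apply Subtype.ext
  apply Units.ext
  rw [detU_val]
  exact oMat_det hw _

include hF hn in
theorem cU_eq_one_iff (g : Un) :
    (cU g : MulAut Pn) = 1 ↔ ∃ u : U1 F q, g = scalarU hstar u := by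
  constructor
  · intro h
    obtain ⟨-, c, hc0, hc⟩ := scalar_of_aut_eq_one (σ := 1) hstar hF hn
      (by rw [h, map_one, mul_one])
    have h1 := (mem_GU_iff_star hstar _).mp g.2
    rw [hc, Matrix.conjTranspose_smul, Matrix.conjTranspose_one, Matrix.smul_mul, Matrix.one_mul,
      smul_smul] at h1
    have h2 := congrFun (congrFun h1 ⟨0, by omega⟩) ⟨0, by omega⟩
    simp at h2
    refine ⟨⟨Units.mk0 c hc0, (mem_U1_iff hstar _).mpr h2⟩, Subtype.ext (Units.ext ?_)⟩
    rw [hc, scalarU_val]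
    rfl
  · rintro ⟨u, rfl⟩
    exact cU_scalarU hstar u

include hF hn in
theorem inner_iff_det (g : Un) :
    (cU g : MulAut Pn) ∈ Cfsg.Inn Pn ↔
      detU hstar g ∈ (powMonoidHom n : U1 F q →* U1 F q).range := by
  constructor
  · rintro ⟨k, hk⟩
    obtain ⟨x, rfl⟩ := pu_surjective k
    rw [← cU_toU] at hk
    obtain ⟨u, hu⟩ := (cU_eq_one_iff hstar hF hn ((toU x)⁻¹ * g)).mp
      (by rw [map_mul, map_inv, hk, inv_mul_cancel])
    refine ⟨u, ?_⟩
    have h1 : detU hstar (toU x) = 1 := by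
      apply Subtype.ext
      apply Units.ext
      rw [detU_val, toU_val, x.1.2]
      rfl
    rw [powMonoidHom_apply, ← detU_scalarU hstar (n := n) u, ← hu, map_mul, map_inv, h1, inv_one,
      one_mul]
  · rintro ⟨u, hu⟩
    set g' := (scalarU (n := n) hstar u)⁻¹ * g with hg'
    have h1 : detU hstar g' = 1 := by
      rw [hg', map_mul, map_inv, detU_scalarU, ← powMonoidHom_apply, hu, inv_mul_cancel]
    let s : Matrix.SpecialLinearGroup (Fin n) F := ⟨g'.1.val, by
      rw [← detU_val hstar g', h1]; rfl⟩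
    have hs : s ∈ Cfsg.SU n F q := g'.2
    refine ⟨pu ⟨s, hs⟩, ?_⟩
    rw [← cU_toU, show toU (⟨s, hs⟩ : Gn) = g' from Subtype.ext (Units.ext rfl), hg', map_mul,
      map_inv, cU_scalarU, inv_one, one_mul]

/-- The class of the determinant modulo `n`-th powers. -/
noncomputable def Delta (hstar : ∀ x : F, star x = x ^ q) :
    Un →* U1 F q ⧸ (powMonoidHom n : U1 F q →* U1 F q).range :=
  (QuotientGroup.mk' _).comp (detU hstar)

include hF hn in
theorem inn_iff_Delta (g : Un) :
    (cU g : MulAut Pn) ∈ Cfsg.Inn Pn ↔ Delta hstar g = 1 := by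
  rw [inner_iff_det hstar hF hn]
  exact (QuotientGroup.eq_one_iff _).symm

include hstar hF hn in
theorem card_inn : Nat.card (Cfsg.Inn Pn) = Nat.card Pn := by
  have hinj : Function.Injective (MulAut.conj : Pn →* MulAut Pn) := by
    rw [injective_iff_map_eq_one]
    intro y hy
    obtain ⟨x, rfl⟩ := pu_surjective y
    rw [← cU_toU] at hy
    obtain ⟨-, c, -, hc⟩ := scalar_of_aut_eq_one (σ := 1) hstar hF hn
      (by rw [hy, map_one, mul_one])
    rw [toU_val] at hc
    rw [pu_eq_one, Subgroup.mem_center_iff]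
    intro z
    apply ext_val
    change z.1.1 * x.1.1 = x.1.1 * z.1.1
    rw [hc]
    simp
  exact (Nat.card_congr (MonoidHom.ofInjective hinj).toEquiv).symm

include hF in
theorem index_pow (n : ℕ) :
    (powMonoidHom n : U1 F q →* U1 F q).range.index = Nat.gcd n (q + 1) := by
  rw [IsCyclic.index_powMonoidHom_range, card_U1 hF, Nat.gcd_comm]

include hstar hF hn in
theorem card_range_cU :
    Nat.card (cU (n := n) (F := F) (q := q)).range = Nat.gcd n (q + 1) * Nat.card Pn := by
  set H := (cU (n := n) (F := F) (q := q)).range with hH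
  let D := U1 F q ⧸ (powMonoidHom n : U1 F q →* U1 F q).range
  have hwell : ∀ g g' : Un, (cU g : MulAut Pn) = cU g' → Delta hstar g = Delta hstar g' := by
    intro g g' h
    rw [← inv_mul_eq_one, ← map_inv, ← map_mul, ← inn_iff_Delta hstar hF hn, map_mul, map_inv, h,
      inv_mul_cancel]
    exact one_mem _
  choose pick hpick using fun x : H => x.2
  let Δ' : H →* D := MonoidHom.mk' (fun x => Delta hstar (pick x)) (fun x y => by
    rw [← map_mul]
    apply hwell
    rw [map_mul, hpick, hpick, hpick]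
    rfl)
  have hsurj : Function.Surjective Δ' := by
    intro d
    obtain ⟨u, rfl⟩ := QuotientGroup.mk_surjective d
    obtain ⟨g, rfl⟩ := detU_surjective (n := n) hstar hn u
    exact ⟨⟨cU g, g, rfl⟩, hwell _ _ (hpick ⟨cU g, g, rfl⟩)⟩
  have hker : Δ'.ker = (Cfsg.Inn Pn).subgroupOf H := by
    ext x
    rw [MonoidHom.mem_ker, Subgroup.mem_subgroupOf]
    conv_rhs => rw [← hpick x, inn_iff_Delta hstar hF hn]
    rfl
  have hle : Cfsg.Inn Pn ≤ H := by
    rw [hH, ← inndiag_eq]
    exact inn_le_inndiag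
  rw [Subgroup.card_eq_card_quotient_mul_card_subgroup Δ'.ker,
    Nat.card_congr (QuotientGroup.quotientKerEquivOfSurjective Δ' hsurj).toEquiv,
    ← Subgroup.index_eq_card, index_pow hF, hker,
    Nat.card_congr (Subgroup.subgroupOfEquivOfLe hle).toEquiv,
    card_inn hstar hF hn]

end Cfsg.Agent.Small.PSUn
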