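import Mathlib
import Cfsg.Agent.Lib.Small.PSLn.Centralizers
import Cfsg.Agent.Lib.Small.PSUn.Out

/-!
Field automorphisms of `PSU_n(q)` of odd order: conjugacy inside a coset of the inner-diagonal
group, centralisers and the number of classes.
-/

set_option autoImplicit false
set_option linter.unusedSectionVars false

namespace Cfsg.Agent.Small.PSUn

open Matrix Cfsg.Agent.Small.Unitary

variable {F : Type*} [Field F] [Fintype F] [StarRing F] {n q : ℕ}
variable {F₀ : Type*} [Field F₀] [Fintype F₀] [StarRing F₀] {q₀ : ℕ}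

local notation "Pn" => Cfsg.PSU n F q
local notation "Un" => Cfsg.GU n F q
local notation "Mn" => Matrix (Fin n) (Fin n) F

theorem decomp_pow (g : Un) (σ : F ≃+* F) :
    ∀ k : ℕ, ∃ N : Un, N.1.val = PSLn.tw σ g.1.val k ∧
      (cU g * fU σ : MulAut Pn) ^ k = cU N * fU (σ ^ k)
  | 0 => ⟨1, rfl, by rw [pow_zero, pow_zero, map_one, map_one, one_mul]⟩
  | k + 1 => by
    obtain ⟨N, hN, hk⟩ := decomp_pow g σ k
    refine ⟨g * uField σ N, ?_, ?_⟩
    · rw [PSLn.tw, Subgroup.coe_mul, Units.val_mul, uField_val, hN]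
    · rw [pow_succ', hk, decomp_mul, pow_succ']

theorem fU_injective (hstar : ∀ x : F, star x = x ^ q) (hF : Fintype.card F = q ^ 2) (hn : 3 ≤ n) :
    Function.Injective (fU (n := n) (F := F) (q := q)) := fun σ τ h =>
  (decomp_unique hstar hF hn (g := 1) (g' := 1) (σ := σ) (σ' := τ) (by rw [h])).2

theorem isConjUnder_field {X : Type*} [Group X] {H : Subgroup X} (hH : H.Normal) (α x y : X) :
    Cfsg.IsConjUnder H (α * x * α⁻¹) (α * y * α⁻¹) ↔ Cfsg.IsConjUnder H x y :=
  PSLn.isConjUnder_conj hH α x y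

/-- Transport of the centraliser in the inner-diagonal group. -/
theorem centralizer_transport {X : Type*} [Group X] {H : Subgroup X} (hN : H.Normal) (α x : X) :
    Nonempty (↥(H ⊓ Subgroup.centralizer {x}) ≃*
      ↥(H ⊓ Subgroup.centralizer {α * x * α⁻¹})) := by
  refine ⟨(Subgroup.equivMapOfInjective _ (MulAut.conj α).toMonoidHom (MulAut.conj α).injective).trans
    (MulEquiv.subgroupCongr ?_)⟩
  ext y
  rw [Subgroup.mem_map_equiv, MulAut.conj_symm_apply, Subgroup.mem_inf, Subgroup.mem_inf,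
    Subgroup.mem_centralizer_iff, Subgroup.mem_centralizer_iff]
  simp only [Set.mem_singleton_iff, forall_eq]
  refine and_congr ⟨fun h => ?_, fun h => ?_⟩ ⟨fun h => ?_, fun h => ?_⟩
  · have := hN.conj_mem _ h α
    simpa [mul_assoc] using this
  · simpa using hN.conj_mem _ h α⁻¹
  · calc α * x * α⁻¹ * y = α * (x * (α⁻¹ * y * α)) * α⁻¹ := by group
      _ = y * (α * x * α⁻¹) := by rw [h]; group
  · calc x * (α⁻¹ * y * α) = α⁻¹ * (α * x * α⁻¹ * y) * α := by group
      _ = α⁻¹ * y * α * x := by rw [h]; group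

theorem pow_odd_tower {y : F₀} (h : y ^ (q₀ ^ 2) = y) :
    ∀ k : ℕ, y ^ (q₀ ^ (2 * k + 1)) = y ^ q₀
  | 0 => by rw [mul_zero, zero_add, pow_one]
  | k + 1 => by
    rw [show 2 * (k + 1) + 1 = 2 + (2 * k + 1) by ring, pow_add, pow_mul, h, pow_odd_tower h k]

theorem comp_star (hstar : ∀ x : F, star x = x ^ q) (hstar₀ : ∀ x : F₀, star x = x ^ q₀)
    (hF₀ : Fintype.card F₀ = q₀ ^ 2) {r : ℕ} (hr : Odd r) (hq : q = q₀ ^ r) (ι : F₀ →+* F)
    (y : F₀) : star (ι y) = ι (star y) := by
  obtain ⟨k, rfl⟩ := hr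
  rw [hstar, hstar₀, ← map_pow, hq, pow_odd_tower (by rw [← hF₀, FiniteField.pow_card])]

variable (hstar : ∀ x : F, star x = x ^ q) (hF : Fintype.card F = q ^ 2) (hn : 3 ≤ n)

include hstar hF hn in
/-- Elements of the coset `Inndiag · σ` of the order of `σ` are conjugate to `σ`. -/
theorem field_conj (hstar₀ : ∀ x : F₀, star x = x ^ q₀) (hF₀ : Fintype.card F₀ = q₀ ^ 2)
    (σ : F ≃+* F) (hodd : Odd (orderOf σ)) (ι : F₀ →+* F)
    (hι : ∀ y : F, σ y = y ↔ y ∈ Set.range ι) (hcomp : ∀ y : F₀, star (ι y) = ι (star y))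
    (g : Un) (h : (cU g * fU σ : MulAut Pn) ^ orderOf σ = 1) :
    ∃ B : Un, (cU g * fU σ : MulAut Pn) = cU B * fU σ * (cU B)⁻¹ := by
  classical
  obtain ⟨N, hN, hk⟩ := decomp_pow g σ (orderOf σ)
  rw [h, pow_orderOf_eq_one, map_one fU, mul_one] at hk
  obtain ⟨u, hu⟩ := (cU_eq_one_iff hstar hF hn N).mp hk.symm
  set c : F := (u.1 : F) with hcdef
  have hc : N.1.val = c • (1 : Mn) := by rw [hu, scalarU_val]
  have hc0 : c ≠ 0 := Units.ne_zero _
  have hcu : star c * c = 1 := (mem_U1_iff hstar u.1).mp u.2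
  have hfix : σ c = c := by
    have h1 : PSLn.tw σ g.1.val (orderOf σ + 1) = g.1.val * (c • (1 : Mn)).map σ := by
      rw [PSLn.tw, ← hN, hc]
    have h2 := PSLn.tw_succ' σ g.1.val (orderOf σ)
    rw [h1, ← hN, hc, pow_orderOf_eq_one,
      show g.1.val.map (1 : F ≃+* F) = g.1.val from by ext i j; rfl, Matrix.smul_mul,
      Matrix.one_mul] at h2
    have h3 : g.1.val * (c • (1 : Mn)).map σ = σ c • g.1.val := by
      rw [show (c • (1 : Mn)).map σ = σ c • (1 : Mn) by
        ext i j; simp [Matrix.one_apply, apply_ite σ], Matrix.mul_smul, Matrix.mul_one]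
    rw [h3] at h2
    by_contra hne
    have h4 : (σ c - c) • g.1.val = 0 := by rw [sub_smul, h2, sub_self]
    rw [smul_eq_zero, or_iff_right (sub_ne_zero.mpr hne)] at h4
    have : NeZero n := ⟨by omega⟩
    exact g.1.ne_zero h4
  obtain ⟨μ₀, hμ₀0, hμ₀⟩ := PSLn.exists_norm_cyclic σ hc0 hfix
  obtain ⟨b, hb⟩ := hodd
  set μ : F := (μ₀ / star μ₀) ^ b / c with hμ
  have hμs0 : star μ₀ ≠ 0 := star_ne_zero.mpr hμ₀0
  have hμ1 : star μ * μ = 1 := by
    rw [hμ, star_div₀, star_pow, star_div₀, star_star, div_mul_div_comm, ← mul_pow, hcu, div_one,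
      show star μ₀ / μ₀ * (μ₀ / star μ₀) = 1 by field_simp, one_pow]
  have hprod : ∏ i ∈ Finset.range (orderOf σ), (σ ^ i : F ≃+* F) μ = c⁻¹ := by
    have hcfix : ∀ i : ℕ, (σ ^ i : F ≃+* F) c = c := by
      intro i
      induction i with
      | zero => rfl
      | succ i ih => rw [pow_succ', RingAut.mul_apply, ih, hfix]
    simp only [hμ, map_div₀, map_pow, map_star_comm hstar, Finset.prod_div_distrib, Finset.prod_pow,
      hcfix, Finset.prod_const, Finset.card_range]
    rw [show ∏ i ∈ Finset.range (orderOf σ), star ((σ ^ i : F ≃+* F) μ₀) = star c by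
      rw [← hμ₀]; exact (map_prod (starRingEnd F) _ _).symm, hμ₀, hb,
      eq_inv_of_mul_eq_one_left hcu, div_inv_eq_mul]
    field_simp
    ring
  have hμ0 : μ ≠ 0 := fun h0 => by simp [h0] at hμ1
  set g₁ : Un := scalarU hstar ⟨Units.mk0 μ hμ0, (mem_U1_iff hstar _).mpr hμ1⟩ * g with hg₁
  have hg₁v : g₁.1.val = μ • g.1.val := by
    rw [hg₁, Subgroup.coe_mul, Units.val_mul, scalarU_val, Matrix.smul_mul, Matrix.one_mul]
    rfl
  obtain ⟨B, hB⟩ := PSLn.exists_descent_cyclic σ g₁.1.val (by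
    rw [hg₁v, PSLn.tw_smul, hprod, ← hN, hc, smul_smul, inv_mul_cancel₀ hc0, one_smul])
  set H := B.valᴴ * B.val with hH
  have hHfix : H.map σ = H := by
    rw [hH, map_mul_mat, ← conjTranspose_map' hstar]
    conv_rhs => rw [← hB, Matrix.conjTranspose_mul, Matrix.mul_assoc,
      ← Matrix.mul_assoc g₁.1.valᴴ, (mem_GU_iff_star hstar _).mp g₁.2, Matrix.one_mul]
  choose H₀ hH₀ using fun a b => (hι _).mp (congrFun (congrFun hHfix a) b)
  have hH₀map : (Matrix.of H₀).map ι = H := Matrix.ext fun a b => hH₀ a b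
  have hconjmap : ∀ A : Matrix (Fin n) (Fin n) F₀, (A.map ι)ᴴ = Aᴴ.map ι := fun A => by
    ext a b
    simp [hcomp]
  have hinj : Function.Injective fun A : Matrix (Fin n) (Fin n) F₀ => A.map ι :=
    Matrix.map_injective ι.injective
  have hH₀h : (Matrix.of H₀)ᴴ = Matrix.of H₀ := hinj (by
    change (Matrix.of H₀)ᴴ.map ι = (Matrix.of H₀).map ι
    rw [← hconjmap, hH₀map, hH, Matrix.conjTranspose_mul, Matrix.conjTranspose_conjTranspose])
  have hH₀u : IsUnit (Matrix.of H₀) := by
    rw [Matrix.isUnit_iff_isUnit_det, isUnit_iff_ne_zero]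
    intro h0
    have h1 := congrArg ι h0
    rw [RingHom.map_det, map_zero] at h1
    have h1' : ((Matrix.of H₀).map ι).det = 0 := h1
    rw [hH₀map, hH, Matrix.det_mul, Matrix.det_conjTranspose] at h1'
    have h2 : B.val.det ≠ 0 := by
      rw [← Matrix.GeneralLinearGroup.val_det_apply]; exact Units.ne_zero _
    exact mul_ne_zero (star_ne_zero.mpr h2) h2 h1'
  obtain ⟨P₀, -, hP₀⟩ := Hermitian.exists_congr_one hstar₀ hF₀ n _ hH₀h hH₀u
  set B' := B.val * P₀.map ι with hB'
  have hB'u : B'ᴴ * B' = 1 := by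
    rw [hB', Matrix.conjTranspose_mul, Matrix.mul_assoc, ← Matrix.mul_assoc B.valᴴ, ← hH,
      ← hH₀map, hconjmap, ← Matrix.map_mul, ← Matrix.map_mul, ← Matrix.mul_assoc, hP₀,
      Matrix.map_one ι (map_zero ι) (map_one ι)]
  let gl : GL (Fin n) F := ⟨B', B'ᴴ, mul_eq_one_comm.mp hB'u, hB'u⟩
  let BU : Un := ⟨gl, (mem_GU_iff_star hstar gl).mpr hB'u⟩
  refine ⟨BU, ?_⟩
  have h5 : g₁ * uField σ BU = BU := by
    apply Subtype.ext
    apply Units.ext
    rw [Subgroup.coe_mul, Units.val_mul, uField_val]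
    change g₁.1.val * (B.val * P₀.map ι).map σ = B.val * P₀.map ι
    rw [map_mul_mat, ← Matrix.mul_assoc, hB]
    congr 1
    ext a b
    simp [(hι (ι (P₀ a b))).mpr ⟨_, rfl⟩]
  have h6 : (cU g : MulAut Pn) * cU (uField σ BU) = cU BU := by
    conv_rhs => rw [← h5, map_mul, hg₁, map_mul, cU_scalarU, one_mul]
  rw [eq_mul_inv_iff_mul_eq, mul_assoc, fU_cU, ← mul_assoc, h6]

include hstar hF hn in
/-- An element of `Inndiag` centralising `σ` is defined over the fixed field. -/
theorem field_descent (σ : F ≃+* F) (hodd : Odd (orderOf σ)) (ι : F₀ →+* F)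
    (hι : ∀ y : F, σ y = y ↔ y ∈ Set.range ι) (g : Un)
    (hg : Commute (cU g : MulAut Pn) (fU σ)) :
    ∃ (u : U1 F q) (h : Un) (h₀ : Matrix (Fin n) (Fin n) F₀),
      g = scalarU hstar u * h ∧ h.1.val = h₀.map ι := by
  classical
  have : NeZero n := ⟨by omega⟩
  have h1 : cU (uField σ g) = (cU g : MulAut Pn) := by
    rw [Commute, SemiconjBy, fU_cU] at hg
    exact (mul_right_cancel hg).symm
  obtain ⟨u, hu⟩ := (cU_eq_one_iff hstar hF hn (uField σ g * g⁻¹)).mp
    (by rw [map_mul, map_inv, h1, mul_inv_cancel])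
  set c : F := (u.1 : F) with hcdef
  have h2 : g.1.val.map σ = c • g.1.val := by
    have h3 : uField σ g = scalarU hstar u * g := by rw [← hu, inv_mul_cancel_right]
    rw [← uField_val, h3, Subgroup.coe_mul, Units.val_mul, scalarU_val, Matrix.smul_mul,
      Matrix.one_mul]
  -- the coboundaries in the norm-one group
  let σ1 : U1 F q →* U1 F q :=
    ((Units.map (σ : F →* F)).comp (U1 F q).subtype).codRestrict _ fun x => by
      rw [MonoidHom.mem_ker, powMonoidHom_apply]
      change (Units.map (σ : F →* F) x.1) ^ (q + 1) = 1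
      rw [← map_pow, show x.1 ^ (q + 1) = 1 from x.2, map_one]
  let D : U1 F q →* U1 F q := σ1 / MonoidHom.id _
  set r := orderOf σ with hr
  let C : ℕ → U1 F q := fun i => (σ1^[i]) u
  have hC : ∀ i, (QuotientGroup.mk (C i) : U1 F q ⧸ D.range) = QuotientGroup.mk u := by
    intro i
    induction i with
    | zero => rfl
    | succ i ih =>
      rw [← ih, eq_comm, QuotientGroup.eq]
      refine ⟨C i, ?_⟩
      change σ1 (C i) / C i = (C i)⁻¹ * C (i + 1)
      rw [div_eq_inv_mul]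
      simp only [C, Function.iterate_succ_apply']
  have hCval : ∀ i, ((C i).1 : F) = (σ ^ i : F ≃+* F) c := by
    intro i
    induction i with
    | zero => rfl
    | succ i ih =>
      simp only [C, Function.iterate_succ_apply']
      rw [pow_succ', RingAut.mul_apply, ← ih]
      rfl
  have hpowmap : ∀ k : ℕ, g.1.val.map (σ ^ k : F ≃+* F) =
      (∏ i ∈ Finset.range k, (σ ^ i : F ≃+* F) c) • g.1.val := by
    intro k
    induction k with
    | zero => ext a b; simp
    | succ k ih =>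
      rw [pow_succ', ← PSLn.map_map', ih, Finset.prod_range_succ']
      ext a b
      have h3 := congrFun (congrFun h2 a) b
      simp only [Matrix.map_apply, Matrix.smul_apply, smul_eq_mul] at h3
      simp only [Matrix.map_apply, Matrix.smul_apply, smul_eq_mul, map_mul, map_prod, h3]
      have hp : ∀ x, σ ((σ ^ x : F ≃+* F) c) = (σ ^ (x + 1) : F ≃+* F) c := fun x => by
        rw [pow_succ', RingAut.mul_apply]
      simp only [hp, pow_zero, RingAut.one_apply]
      ring
  have hNc : ∏ i ∈ Finset.range r, (σ ^ i : F ≃+* F) c = 1 := by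
    have h3 := hpowmap r
    rw [hr, pow_orderOf_eq_one, ← hr] at h3
    by_contra hne
    have h4 : (∏ i ∈ Finset.range r, (σ ^ i : F ≃+* F) c - 1) • g.1.val = 0 := by
      rw [sub_smul, ← h3, one_smul]
      ext a b
      simp
    rw [smul_eq_zero, or_iff_right (sub_ne_zero.mpr hne)] at h4
    exact g.1.ne_zero h4
  have hr_mem : u ^ r ∈ D.range := by
    have h3 : ∏ i ∈ Finset.range r, C i = 1 := by
      apply Subtype.ext
      apply Units.ext
      rw [SubmonoidClass.coe_finsetProd, Units.coe_prod, OneMemClass.coe_one, Units.val_one, ← hNc]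
      exact Finset.prod_congr rfl fun i _ => hCval i
    rw [← QuotientGroup.eq_one_iff, QuotientGroup.mk_pow]
    have h4 := congrArg (QuotientGroup.mk' D.range) h3
    simp only [map_prod, map_one, QuotientGroup.mk'_apply, hC, Finset.prod_const,
      Finset.card_range] at h4
    exact h4
  obtain ⟨b₀, hb₀0, hb₀⟩ := PSLn.exists_div_of_norm_one σ hNc
  have h2_mem : u ^ 2 ∈ D.range := by
    have hbs : star b₀ ≠ 0 := star_ne_zero.mpr hb₀0
    refine ⟨⟨Units.mk0 (star b₀ / b₀) (div_ne_zero hbs hb₀0), (mem_U1_iff hstar _).mpr ?_⟩, ?_⟩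
    · rw [Units.val_mk0, star_div₀, star_star]; field_simp
    · apply Subtype.ext
      apply Units.ext
      simp only [D, MonoidHom.div_apply, Subgroup.coe_div, Units.val_div_eq_div_val,
        MonoidHom.id_apply]
      change σ (star b₀ / b₀) / (star b₀ / b₀) = _
      have hσb : σ b₀ = b₀ / c := by
        rw [eq_div_iff (Units.ne_zero _), mul_comm]; exact hb₀
      have hcs : star c = c⁻¹ := eq_inv_of_mul_eq_one_left ((mem_U1_iff hstar u.1).mp u.2)
      rw [map_div₀, map_star_comm hstar, hσb, star_div₀, hcs]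
      simp only [SubmonoidClass.coe_pow, Units.val_pow_eq_pow_val, ← hcdef]
      field_simp
  obtain ⟨d, hd⟩ : u ∈ D.range := by
    obtain ⟨b, hb⟩ := hodd
    rw [hb] at hr_mem
    have := mul_mem hr_mem (inv_mem (pow_mem h2_mem b))
    rwa [pow_succ, pow_mul, mul_comm (_ ^ b) u, mul_inv_cancel_right] at this
  set h : Un := (scalarU hstar d)⁻¹ * g with hh
  have hfix : h.1.val.map σ = h.1.val := by
    have hud : σ1 d = u * d := by
      rw [← hd]; exact (div_mul_cancel _ _).symm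
    have e1 : uField σ (scalarU (n := n) hstar d) = scalarU hstar (σ1 d) := by
      apply Subtype.ext
      apply Units.ext
      rw [uField_val, scalarU_val, scalarU_val]
      ext a b
      simp [Matrix.one_apply, apply_ite σ]
      rfl
    have e2 : uField σ g = scalarU hstar u * g := by rw [← hu, inv_mul_cancel_right]
    rw [← uField_val, hh, map_mul, map_inv, e1, e2, hud, map_mul, _root_.mul_inv_rev, mul_assoc,
      inv_mul_cancel_left]
  choose h₀ hh₀ using fun a b => (hι _).mp (congrFun (congrFun hfix a) b)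
  exact ⟨d, h, Matrix.of h₀, by rw [hh, mul_inv_cancel_left],
    Matrix.ext fun a b => (hh₀ a b).symm⟩

include hstar hF hn in
theorem field_count (hstar₀ : ∀ x : F₀, star x = x ^ q₀) (hF₀ : Fintype.card F₀ = q₀ ^ 2)
    (σ : F ≃+* F) (hodd : Odd (orderOf σ)) (ι : F₀ →+* F)
    (hι : ∀ y : F, σ y = y ↔ y ∈ Set.range ι) (hcomp : ∀ y : F₀, star (ι y) = ι (star y)) :
    Nonempty (↥(Cfsg.inndiagPSU n F q ⊓ Subgroup.centralizer {(fU σ : MulAut Pn)}) ≃*
      Cfsg.PGU n F₀ q₀) ∧
    Cfsg.splitClassCount (Cfsg.inndiagPSU n F q) (Cfsg.Inn Pn) (fU σ : MulAut Pn) =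
      Nat.gcd n ((q + 1) / (q₀ + 1)) := by
  classical
  have : NeZero n := ⟨by omega⟩
  have hconjmap : ∀ A : Matrix (Fin n) (Fin n) F₀, (A.map ι)ᴴ = Aᴴ.map ι := fun A => by
    ext a b
    simp [hcomp]
  have hmem : ∀ h : Cfsg.GU n F₀ q₀, Matrix.GeneralLinearGroup.map ι h.1 ∈ Un := by
    intro h
    rw [mem_GU_iff_star hstar]
    change (h.1.val.map ι)ᴴ * h.1.val.map ι = 1
    rw [hconjmap, ← Matrix.map_mul, (mem_GU_iff_star hstar₀ _).mp h.2,
      Matrix.map_one ι (map_zero ι) (map_one ι)]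
  let inc : Cfsg.GU n F₀ q₀ →* Un :=
    ((Matrix.GeneralLinearGroup.map ι).comp (Cfsg.GU n F₀ q₀).subtype).codRestrict _ hmem
  have hcommute : ∀ h, Commute (cU (inc h) : MulAut Pn) (fU σ) := by
    intro h
    rw [Commute, SemiconjBy, fU_cU]
    congr 2
    apply Subtype.ext
    apply Units.ext
    ext a b
    exact ((hι _).mpr ⟨_, rfl⟩).symm
  have hlift : ∀ (g : Un), Commute (cU g : MulAut Pn) (fU σ) →
      ∃ (u : U1 F q) (h : Cfsg.GU n F₀ q₀), g = scalarU hstar u * inc h := by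
    intro g hg
    obtain ⟨u, h, h₀, hgh, hh⟩ := field_descent hstar hF hn σ hodd ι hι g hg
    have hu : h₀ᴴ * h₀ = 1 := by
      apply Matrix.map_injective ι.injective
      change (h₀ᴴ * h₀).map ι = (1 : Matrix (Fin n) (Fin n) F₀).map ι
      rw [Matrix.map_mul, ← hconjmap, ← hh, (mem_GU_iff_star hstar _).mp h.2,
        Matrix.map_one ι (map_zero ι) (map_one ι)]
    let gl : GL (Fin n) F₀ := ⟨h₀, h₀ᴴ, mul_eq_one_comm.mp hu, hu⟩
    refine ⟨u, ⟨gl, (mem_GU_iff_star hstar₀ gl).mpr hu⟩, ?_⟩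
    rw [hgh]
    congr 1
    exact Subtype.ext (Units.ext hh)
  refine ⟨?_, ?_⟩
  · let Φ : Cfsg.GU n F₀ q₀ →*
        ↥(Cfsg.inndiagPSU n F q ⊓ Subgroup.centralizer {(fU σ : MulAut Pn)}) :=
      ((cU (n := n) (F := F) (q := q)).comp inc).codRestrict _ fun h => by
        refine Subgroup.mem_inf.mpr ⟨inndiag_eq (n := n) (F := F) (q := q) ▸ ⟨_, rfl⟩, ?_⟩
        rw [Subgroup.mem_centralizer_iff]
        rintro _ rfl
        exact (hcommute h).symm.eq
    have hsurj : Function.Surjective Φ := by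
      rintro ⟨y, hy⟩
      obtain ⟨hy1, hy2⟩ := Subgroup.mem_inf.mp hy
      rw [inndiag_eq] at hy1
      obtain ⟨g, rfl⟩ := hy1
      rw [Subgroup.mem_centralizer_iff] at hy2
      obtain ⟨u, h, rfl⟩ := hlift g (hy2 _ rfl).symm
      refine ⟨h, Subtype.ext ?_⟩
      change cU (inc h) = cU (_ * _)
      rw [map_mul, cU_scalarU, one_mul]
    have hker : Φ.ker = (Cfsg.Geo.scalars (Fin n) F₀).subgroupOf (Cfsg.GU n F₀ q₀) := by
      ext h
      rw [MonoidHom.mem_ker, Subgroup.mem_subgroupOf, Subtype.ext_iff, Cfsg.Geo.mem_scalars_iff]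
      change cU (inc h) = 1 ↔ _
      constructor
      · intro hh
        obtain ⟨u, hu⟩ := (cU_eq_one_iff hstar hF hn _).mp hh
        have e : h.1.val.map ι = (u.1 : F) • (1 : Mn) := by
          rw [← scalarU_val hstar u, ← hu]; rfl
        obtain ⟨c, hc⟩ : ∃ c, ι c = (u.1 : F) :=
          ⟨h.1.val 0 0, by simpa using congrFun (congrFun e 0) 0⟩
        have hc0 : c ≠ 0 := fun h0 => Units.ne_zero u.1 (by rw [← hc, h0, map_zero])
        refine ⟨Units.mk0 c hc0, ?_⟩
        ext a b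
        apply ι.injective
        have := congrFun (congrFun e a) b
        rw [Matrix.map_apply] at this
        rw [this, Matrix.smul_apply, Matrix.smul_apply, Matrix.one_apply, Matrix.one_apply,
          smul_eq_mul, smul_eq_mul, map_mul, apply_ite ι, map_one, map_zero, Units.val_mk0, hc]
      · rintro ⟨c, hc⟩
        refine cU_of_scalar (c := ι c) ?_
        change h.1.val.map ι = _
        rw [hc]
        ext a b
        simp [Matrix.one_apply, apply_ite ι]
    exact ⟨((QuotientGroup.quotientMulEquivOfEq hker).symm.trans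
      (QuotientGroup.quotientKerEquivOfSurjective Φ hsurj)).symm⟩
  let ιu : U1 F₀ q₀ →* U1 F q :=
    ((Units.map (ι : F₀ →* F)).comp (U1 F₀ q₀).subtype).codRestrict _ fun x => by
      rw [mem_U1_iff hstar]
      change star (ι (x.1 : F₀)) * ι (x.1 : F₀) = 1
      rw [hcomp, ← map_mul, (mem_U1_iff hstar₀ x.1).mp x.2, map_one]
  have hιu : Function.Injective ιu := fun x y h =>
    Subtype.ext (Units.map_injective ι.injective (congrArg Subtype.val h))
  have hdet : ∀ h : Cfsg.GU n F₀ q₀, detU hstar (inc h) = ιu (detU hstar₀ h) := fun h =>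
    Subtype.ext (Units.ext (RingHom.map_det ι h.1.val).symm)
  have hS : ((Subgroup.centralizer {(fU σ : MulAut Pn)}).comap cU).map (detU hstar) ⊔
      (powMonoidHom n).range = ιu.range ⊔ (powMonoidHom n).range := by
    apply le_antisymm
    · refine sup_le ?_ le_sup_right
      rintro _ ⟨g, hg, rfl⟩
      rw [SetLike.mem_coe, Subgroup.mem_comap, Subgroup.mem_centralizer_iff] at hg
      obtain ⟨u, h, rfl⟩ := hlift g (hg _ rfl).symm
      rw [map_mul, detU_scalarU, hdet]
      exact mul_mem (Subgroup.mem_sup_right ⟨u, rfl⟩) (Subgroup.mem_sup_left ⟨_, rfl⟩)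
    · refine sup_le ?_ le_sup_right
      rintro _ ⟨x, rfl⟩
      obtain ⟨h, rfl⟩ := detU_surjective (n := n) hstar₀ hn x
      refine Subgroup.mem_sup_left ⟨inc h, ?_, hdet h⟩
      rw [SetLike.mem_coe, Subgroup.mem_comap, Subgroup.mem_centralizer_iff]
      rintro _ rfl
      exact (hcommute h).symm.eq
  have hΔ : Function.Surjective (Delta (n := n) hstar) :=
    (QuotientGroup.mk'_surjective _).comp (detU_surjective hstar hn)
  rw [PSLn.splitClassCount_eq (D := U1 F q ⧸ (powMonoidHom n : U1 F q →* U1 F q).range)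
    (cU (n := n) (F := F) (q := q)) (Delta hstar) hΔ inndiag_eq inn_le_inndiag
    (inn_iff_Delta hstar hF hn)]
  set P : Subgroup (U1 F q) := (powMonoidHom n).range with hP
  rw [Delta, ← Subgroup.map_map, Subgroup.index_map, QuotientGroup.ker_mk',
    MonoidHom.range_eq_top.mpr (QuotientGroup.mk'_surjective P), Subgroup.index_top, mul_one, hS]
  have hcard : Nat.card ιu.range = q₀ + 1 := by
    rw [← Nat.card_congr (MonoidHom.ofInjective hιu).toEquiv, card_U1 hF₀]
  conv_lhs => rw [PSLn.cyclic_subgroup_eq ιu.range, hP, PSLn.pow_range_sup, hcard, card_U1 hF]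
  rw [index_pow hF, Nat.gcd_comm _ n]
  have hd : (q + 1) / (q₀ + 1) ∣ q + 1 := by
    refine Nat.div_dvd_of_dvd ?_
    rw [← hcard, ← card_U1 (F := F) hF]
    exact Subgroup.card_subgroup_dvd_card _
  exact Nat.gcd_eq_left ((Nat.gcd_dvd_right n _).trans hd)

include hstar hF hn in
/-- The data attached to a field automorphism class. -/
theorem class_data {x : MulAut Pn} (hx : Cfsg.IsFieldAutClassPSU x) :
    ∃ (α : MulAut Pn) (σ : F ≃+* F), Odd (orderOf σ) ∧ orderOf x = orderOf σ ∧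
      α * x * α⁻¹ = fU σ := by
  obtain ⟨α, φ, σ, -, hodd, hφ, he⟩ := hx
  rw [(fieldOf_iff σ φ).mp hφ] at he
  refine ⟨α, σ, hodd, ?_, he⟩
  rw [← orderOf_injective fU (fU_injective hstar hF hn) σ, ← he, ← MulAut.conj_apply,
    MulEquiv.orderOf_eq]

omit [StarRing F] [StarRing F₀] in
theorem exists_sub {p f : ℕ} [Fact p.Prime] (hF2 : Fintype.card F = p ^ (2 * f)) (σ : F ≃+* F)
    (hodd : Odd (orderOf σ)) :
    orderOf σ ∣ f ∧ (Fintype.card F₀ = p ^ (2 * (f / orderOf σ)) →
      ∃ ι : F₀ →+* F, ∀ y : F, σ y = y ↔ y ∈ Set.range ι) := by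
  have h1 : orderOf σ ∣ f :=
    Nat.Coprime.dvd_of_dvd_mul_left hodd.coprime_two_right (PSLn.orderOf_dvd_f hF2 σ)
  exact ⟨h1, fun h => PSLn.exists_fixed_embedding hF2 σ F₀ (by
    rw [h, Nat.mul_div_assoc 2 h1])⟩

end Cfsg.Agent.Small.PSUn
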