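import Mathlib
import Cfsg.Agent.Lib.Small.PSUn.Subfield
import Cfsg.Agent.Lib.Small.LocalBalance

/-!
The core of the centraliser of a field automorphism of odd prime order of `PSU_n(q)`.
-/

set_option autoImplicit false
set_option linter.unusedSectionVars false

namespace Cfsg.Agent.Small.PSUn

open Matrix Cfsg.Agent.Small.Unitary

variable {F : Type*} [Field F] [Fintype F] [StarRing F] {n q : ℕ}
variable {F₀ : Type*} [Field F₀] [Fintype F₀] [StarRing F₀] {q₀ : ℕ}

local notation "Pn" => Cfsg.PSU n F q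
local notation "Gn" => Cfsg.SU n F q
local notation "G₀" => Cfsg.SU n F₀ q₀
local notation "Mn" => Matrix (Fin n) (Fin n) F

/-- A field with `q²` elements of a Galois-fixed subfield, with its Frobenius star. -/
structure SubData (σ : F ≃+* F) (ι : F₀ →+* F) (q q₀ : ℕ) : Prop where
  star_eq : ∀ x : F, star x = x ^ q
  card : Fintype.card F = q ^ 2
  star₀ : ∀ x : F₀, star x = x ^ q₀
  card₀ : Fintype.card F₀ = q₀ ^ 2
  fix : ∀ y : F, σ y = y ↔ y ∈ Set.range ι
  comp : ∀ y : F₀, star (ι y) = ι (star y)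

variable {σ : F ≃+* F} {ι : F₀ →+* F}

theorem SubData.conj_map (D : SubData σ ι q q₀) (A : Matrix (Fin n) (Fin n) F₀) :
    (A.map ι)ᴴ = Aᴴ.map ι := by
  ext a b
  simp [D.comp]

theorem SubData.herm_map (D : SubData σ ι q q₀) (u v : Fin n → F₀) :
    herm (⇑ι ∘ u) (⇑ι ∘ v) = ι (herm u v) := by
  simp [herm, dotProduct, map_sum, D.comp]

theorem SubData.isPt_map (D : SubData σ ι q q₀) {v : Fin n → F₀} (hv : IsPt v) :
    IsPt (⇑ι ∘ v) :=
  ⟨fun h => hv.1 (funext fun k => ι.injective (by simpa using congrFun h k)),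
    by rw [D.herm_map, hv.2, map_zero]⟩

theorem inc_aux (D : SubData σ ι q q₀) (x : G₀) :
    Matrix.SpecialLinearGroup.map ι x.1 ∈ Cfsg.SU n F q := by
  rw [mem_SU_iff D.star_eq]
  change (x.1.1.map ι)ᴴ * x.1.1.map ι = 1
  rw [D.conj_map, ← Matrix.map_mul, conjTranspose_mul_self D.star₀,
    Matrix.map_one ι (map_zero ι) (map_one ι)]

/-- The inclusion of the unitary group over the subfield. -/
noncomputable def inc (D : SubData σ ι q q₀) : G₀ →* Gn :=
  ((Matrix.SpecialLinearGroup.map ι).comp (Cfsg.SU n F₀ q₀).subtype).codRestrict _ (inc_aux D)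

theorem inc_val (D : SubData σ ι q q₀) (x : G₀) : (inc D x : Gn).1.1 = x.1.1.map ι := rfl

theorem fieldU_inc (D : SubData σ ι q q₀) (x : G₀) : fieldU σ (inc D x : Gn) = inc D x := by
  apply ext_val
  rw [fieldU_val, inc_val]
  ext a b
  exact (D.fix _).mpr ⟨_, rfl⟩

theorem fixed_lift (D : SubData σ ι q q₀) {w : Gn} (hw : fieldU σ w = w) :
    ∃ A : G₀, inc D A = w := by
  classical
  have h : ∀ a b, w.1.1 a b ∈ Set.range ι := fun a b => (D.fix _).mp (by
    have h1 := congrArg (fun g : Gn => g.1.1 a b) hw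
    simpa [fieldU_val] using h1)
  choose A hA using h
  have hAw : (Matrix.of A).map ι = w.1.1 := Matrix.ext hA
  have hdet : (Matrix.of A).det = 1 := ι.injective (by
    rw [RingHom.map_det, map_one]
    exact (congrArg Matrix.det hAw).trans w.1.2)
  let s : Matrix.SpecialLinearGroup (Fin n) F₀ := ⟨_, hdet⟩
  refine ⟨⟨s, ?_⟩, ext_val hAw⟩
  rw [mem_SU_iff D.star₀]
  refine Matrix.map_injective ι.injective ?_
  change ((Matrix.of A)ᴴ * Matrix.of A).map ι = (1 : Matrix (Fin n) (Fin n) F₀).map ι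
  rw [Matrix.map_mul, ← D.conj_map, hAw, conjTranspose_mul_self D.star_eq,
    Matrix.map_one ι (map_zero ι) (map_one ι)]

/-- Rational transvections are fixed by the field automorphism. -/
theorem fieldU_eich_fixed {p : ℕ} [Fact p.Prime] [CharP F p] (hn : 3 ≤ n) (D : SubData σ ι q q₀)
    {v : Fin n → F₀} (hv : IsPt v) {t : F₀} (ht : star t = -t) :
    fieldU σ (eich D.star_eq (⇑ι ∘ v) 0 (ι t) : Gn) = eich D.star_eq (⇑ι ∘ v) 0 (ι t) := by
  have hok : EOk (⇑ι ∘ v) 0 (ι t) :=
    (EOk_zero_iff (D.isPt_map hv).2).mpr (by rw [D.comp, ht, map_neg])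
  have h := aut_eich (q := q) D.star_eq 1 σ hok
  rw [map_one cU, one_mul, fU_apply] at h
  have e1 : sact (1 : Cfsg.GU n F q).1 σ (⇑ι ∘ v) = ⇑ι ∘ v := by
    funext k
    simp [sact, (D.fix (ι (v k))).mpr ⟨_, rfl⟩]
  have e2 : sact (1 : Cfsg.GU n F q).1 σ (0 : Fin n → F) = 0 := by
    funext k
    simp [sact]
  rw [e1, e2, (D.fix (ι t)).mpr ⟨_, rfl⟩] at h
  obtain ⟨k, hk⟩ := PEl_eich (p := p) D.star_eq hok
  exact pElem_inj D.star_eq D.card hn ⟨k, by rw [← map_pow, hk, map_one]⟩ ⟨k, hk⟩ h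

/-- A rational non-trivial fixed point. -/
theorem exists_rational (hn : 3 ≤ n) (D : SubData σ ι q q₀) {p : ℕ} [Fact p.Prime] [CharP F p] :
    ∃ k : Pn, fU σ k = k ∧ k ≠ 1 := by
  obtain ⟨i, j, l, e, f, P, -, -⟩ := exists_std D.star₀ D.card₀ hn
  obtain ⟨t, ht0, ht⟩ := exists_skew D.star₀ D.card₀
  have hsk : star (ι t) = -ι t := by rw [D.comp, ht, map_neg]
  have he := D.isPt_map (pair_isPt P).1
  refine ⟨pu (eich D.star_eq (⇑ι ∘ e) 0 (ι t)), ?_, fun h => ?_⟩
  · rw [fU_apply, fieldU_eich_fixed (p := p) hn D (pair_isPt P).1 ht]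
  · have h1 : eich D.star_eq (⇑ι ∘ e) 0 (ι t) = (1 : Gn) :=
      pElem_inj D.star_eq D.card hn (PEl_eich (p := p) D.star_eq ((EOk_zero_iff he.2).mpr hsk))
        ⟨0, one_pow _⟩ (h.trans (map_one pu).symm)
    exact ht0 (ι.injective ((eich_zero_eq_one D.star_eq D.card hn he hsk h1).trans (map_zero ι).symm))

/-- An automorphism fixing the rational transvections is a power of the field automorphism. -/
theorem centralizer_fixed {p : ℕ} [Fact p.Prime] [CharP F p] (hn : 3 ≤ n) (D : SubData σ ι q q₀)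
    (g : Cfsg.GU n F q) (τ : F ≃+* F)
    (hfix : ∀ x : G₀, (cU g * fU τ : MulAut Pn) (pu (inc D x)) = pu (inc D x)) :
    (cU g * fU τ : MulAut Pn) ∈ Subgroup.zpowers (fU σ : MulAut Pn) := by
  obtain ⟨t₀, ht00, ht0⟩ := exists_skew D.star₀ D.card₀
  have hsk : star (ι t₀) = -ι t₀ := by rw [D.comp, ht0, map_neg]
  have ht1 : ι t₀ ≠ 0 := (map_ne_zero ι).mpr ht00
  obtain ⟨hτ, d, hd0, hd⟩ := scalar_of_fix_rational D.star₀ D.card₀ hn ι g.1 τ fun v hv => by
    obtain ⟨A, hA⟩ := fixed_lift D (fieldU_eich_fixed (p := p) hn D hv ht0)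
    have he := D.isPt_map hv
    have hok := (EOk_zero_iff he.2).mpr hsk
    have h1 := hfix A
    rw [hA, aut_eich D.star_eq g τ hok] at h1
    have hok' := EOk_sact D.star_eq g τ hok
    have h2 := pElem_inj D.star_eq D.card hn (PEl_eich (p := p) D.star_eq hok')
      (PEl_eich (p := p) D.star_eq hok) h1
    obtain ⟨w, -, hvw⟩ := exists_partner D.star_eq D.card hn he
    have e0 : sact g.1 τ (0 : Fin n → F) = 0 := by
      rw [sact, show ⇑τ ∘ (0 : Fin n → F) = 0 from funext fun _ => map_zero τ, Matrix.mulVec_zero]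
    rw [e0] at h2 hok'
    have h3 := congrArg (fun x : Gn => act x w) h2
    simp only [act_eich_zero D.star_eq he.2 hsk,
      act_eich_zero D.star_eq hok'.1 ((EOk_zero_iff hok'.1).mp hok'), hvw, mul_one,
      add_right_inj] at h3
    have hh : τ (ι t₀) * herm (sact g.1 τ (⇑ι ∘ v)) w ≠ 0 := fun h => by
      rw [h, zero_smul] at h3
      exact he.1 ((smul_eq_zero.mp h3.symm).resolve_left ht1)
    refine ⟨(τ (ι t₀) * herm (sact g.1 τ (⇑ι ∘ v)) w)⁻¹ * ι t₀, ?_⟩
    rw [mul_smul]
    exact (eq_inv_smul_iff₀ hh).mpr h3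
  obtain ⟨k, hk⟩ : τ ∈ Subgroup.zpowers σ := LocalBalance.mem_zpowers_of_fixes σ τ fun y hy => by
    obtain ⟨y₀, rfl⟩ := (D.fix y).mp hy
    exact hτ y₀
  refine ⟨k, ?_⟩
  change (fU σ : MulAut Pn) ^ k = _
  rw [cU_of_scalar hd, one_mul, ← map_zpow, ← hk]

/-- The core of the centraliser of a field automorphism of odd order dividing the fixed points. -/
theorem field_core {r p : ℕ} [Fact r.Prime] [CharP F r] [Fact p.Prime] (hn : 3 ≤ n)
    (hex : ¬(n = 3 ∧ q = 2)) (D : SubData σ ι q q₀) (hp2 : p ≠ 2) (hσ : orderOf σ = p)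
    (hinj : Function.Injective (MulAut.conj : Pn → MulAut Pn))
    (hel : ∃ k : Pn, fU σ k = k ∧ orderOf k = p)
    (L : Subgroup (MulAut Pn)) (hL : ∀ l ∈ L, Commute l (fU σ))
    (hL2 : ∀ k, fU σ k = k → ∀ l ∈ L, MulAut.conj k * l * (MulAut.conj k)⁻¹ ∈ L)
    (hcop : (Nat.card L).Coprime p) : L = ⊥ := by
  classical
  have hp : p.Prime := Fact.out
  let Φ : G₀ →* Pn := (pu : Gn →* Pn).comp (inc D)
  have hcen : ∀ x : G₀, x ∈ Subgroup.center G₀ → Φ x = 1 := by
    intro x hx
    obtain ⟨c, -, hc⟩ := center_scalar D.star₀ D.card₀ hn hx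
    refine pu_eq_one.mpr (Subgroup.mem_center_iff.mpr fun y => ext_val ?_)
    change y.1.1 * x.1.1.map ι = x.1.1.map ι * y.1.1
    rw [hc, show (c • (1 : Matrix (Fin n) (Fin n) F₀)).map ι = ι c • (1 : Mn) by
      ext a b; simp [Matrix.one_apply, apply_ite ι]]
    simp
  refine LocalBalance.core_trivial' (fU σ)
    (by rw [orderOf_injective fU (fU_injective D.star_eq D.card hn) σ, hσ]) hinj Φ ?_ ?_ ?_ ?_
    L hL hL2 hcop
  · intro x
    change fU σ (pu (inc D x) : Pn) = _
    rw [fU_apply, fieldU_inc]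
    rfl
  · intro k hk x
    obtain ⟨w, rfl⟩ := pu_surjective k
    rw [fU_apply] at hk
    have hz : w⁻¹ * fieldU σ w ∈ Subgroup.center Gn := by
      rw [← pu_eq_one, map_mul, map_inv, hk, inv_mul_cancel]
    set z := w⁻¹ * fieldU σ w with hzdef
    obtain ⟨B, hB⟩ := fixed_lift D (w := w * inc D x * w⁻¹) (by
      rw [map_mul, map_mul, map_inv, fieldU_inc, show fieldU σ w = w * z by
        rw [hzdef, mul_inv_cancel_left], _root_.mul_inv_rev, mul_assoc w z,
        ← Subgroup.mem_center_iff.mp hz (inc D x)]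
      group)
    refine ⟨B, ?_⟩
    change pu (inc D B) = _
    rw [hB, map_mul, map_mul, map_inv]
    rfl
  · intro N hN
    by_cases hc : N ≤ Subgroup.center G₀
    · exact Or.inl fun m hm => hcen m (hc hm)
    right
    obtain ⟨x₀, hx₀⟩ : ∃ x₀, orderOf (Φ x₀) = p := by
      by_cases hpn : p ∣ n
      · obtain ⟨π, hπ⟩ := exists_prime_orderOf_dvd_card' (G := Equiv.Perm (Fin n)) p (by
          rw [Nat.card_perm, Nat.card_eq_fintype_card, Fintype.card_fin]
          exact Nat.dvd_factorial hp.pos (Nat.le_of_dvd (by omega) hpn))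
        have hsign : Equiv.Perm.sign π = 1 := by
          obtain ⟨j, hj⟩ := hp.odd_of_ne_two hp2
          have h1 := congrArg Equiv.Perm.sign (pow_orderOf_eq_one π)
          rw [map_pow, hπ, hj, pow_succ, pow_mul, Int.units_sq, one_pow, one_mul, map_one] at h1
          exact h1
        let S : Matrix.SpecialLinearGroup (Fin n) F₀ :=
          ⟨π.permMatrix F₀, by rw [Matrix.det_permutation, hsign]; simp⟩
        have hS : S ∈ Cfsg.SU n F₀ q₀ := by
          rw [mem_SU_iff D.star₀]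
          change (π.permMatrix F₀)ᴴ * π.permMatrix F₀ = 1
          rw [Matrix.conjTranspose_permMatrix, ← Matrix.permMatrix_mul, mul_inv_cancel,
            Matrix.permMatrix_one]
        let A : G₀ := ⟨S, hS⟩
        have hpow : ∀ j : ℕ, (A ^ j).1.1 = (π ^ j).permMatrix F₀ := by
          intro j
          induction j with
          | zero => simp
          | succ j ih =>
            rw [pow_succ', Subgroup.coe_mul, Matrix.SpecialLinearGroup.coe_mul, ih, pow_succ,
              Matrix.permMatrix_mul]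
        refine ⟨A, orderOf_eq_prime ?_ fun h => ?_⟩
        · rw [← map_pow, show A ^ p = 1 from ext_val (by
            rw [hpow, ← hπ, pow_orderOf_eq_one]; simp), map_one]
        · obtain ⟨c, -, hc⟩ := center_scalar D.star_eq D.card hn (pu_eq_one.mp h)
          obtain ⟨i, hi⟩ : ∃ i, π i ≠ i := by
            by_contra hall
            push Not at hall
            have h1 : π = 1 := Equiv.ext hall
            rw [h1, orderOf_one] at hπ
            exact hp.one_lt.ne hπ
          have h1 : ι (π.permMatrix F₀ i (π i)) = (c • (1 : Mn)) i (π i) :=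
            congrFun (congrFun hc i) (π i)
          simp [Equiv.Perm.permMatrix, PEquiv.toMatrix, Ne.symm hi] at h1
      · obtain ⟨k, hk, hko⟩ := hel
        obtain ⟨w, rfl⟩ := pu_surjective k
        rw [fU_apply] at hk
        have hz : w⁻¹ * fieldU σ w ∈ Subgroup.center Gn := by
          rw [← pu_eq_one, map_mul, map_inv, hk, inv_mul_cancel]
        obtain ⟨c, -, hcz⟩ := center_scalar D.star_eq D.card hn hz
        have hzn : (w⁻¹ * fieldU σ w) ^ n = 1 := by
          apply ext_val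
          rw [Subgroup.coe_pow, Matrix.SpecialLinearGroup.coe_pow, hcz, smul_pow, one_pow,
            Subgroup.coe_one, Matrix.SpecialLinearGroup.coe_one]
          have hd := (w⁻¹ * fieldU σ w : Gn).1.2
          rw [hcz, Matrix.det_smul, Matrix.det_one, mul_one, Fintype.card_fin] at hd
          rw [hd, one_smul]
        obtain ⟨B, hB⟩ := fixed_lift D (w := w ^ n) (by
          set z := w⁻¹ * fieldU σ w with hzdef
          rw [map_pow, show fieldU σ w = w * z by rw [hzdef, mul_inv_cancel_left],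
            (Subgroup.mem_center_iff.mp hz w : w * z = z * w), (Commute.mul_pow
              (Subgroup.mem_center_iff.mp hz w).symm n), hzn, one_mul])
        refine ⟨B, ?_⟩
        change orderOf (pu (inc D B) : Pn) = p
        rw [hB, map_pow, orderOf_pow, hko, (hp.coprime_iff_not_dvd.mpr hpn).gcd_eq_one,
          Nat.div_one]
    have hback : ∀ m : G₀, Φ m = 1 → (pu m : Cfsg.PSU n F₀ q₀) = 1 := by
      intro m h
      obtain ⟨c, -, hc⟩ := center_scalar D.star_eq D.card hn (pu_eq_one.mp h)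
      refine pu_eq_one.mpr (Subgroup.mem_center_iff.mpr fun y =>
        ext_val (Matrix.map_injective ι.injective ?_))
      change (y.1.1 * m.1.1).map ι = (m.1.1 * y.1.1).map ι
      rw [Matrix.map_mul, Matrix.map_mul, ← inc_val D, ← inc_val D, hc]
      simp
    have hord : ∀ m : G₀, orderOf (pu m : Cfsg.PSU n F₀ q₀) = orderOf (Φ m) := fun m => by
      refine Nat.dvd_antisymm ?_ ?_ <;> rw [orderOf_dvd_iff_pow_eq_one, ← map_pow]
      · exact hback _ (by rw [map_pow]; exact pow_orderOf_eq_one _)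
      · exact hcen _ (pu_eq_one.mp (by rw [map_pow]; exact pow_orderOf_eq_one _))
    obtain ⟨m, hm, hmo⟩ := exists_mem_order D.star₀ D.card₀ hn hp2 ⟨_, (hord x₀).trans hx₀⟩ N
      (hNn := hN) hc
    exact ⟨m, hm, (hord m).symm.trans hmo⟩
  · intro β _ hfix
    obtain ⟨g, τ, rfl⟩ := aut_decomp D.star_eq D.card hn hex β
    exact centralizer_fixed (p := r) hn D g τ hfix

end Cfsg.Agent.Small.PSUn
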