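import Mathlib
import Cfsg.Agent.Lib.Small.PSUn.Subfield
import Cfsg.Agent.Lib.Small.PSLn.FieldAut
import Cfsg.Agent.Lib.Small.LocalBalance
import Cfsg.Agent.Lib.Small.Forms.MatrixForms

/-!
The core of the centraliser of an involutory graph automorphism of `PSU_n(q)`, `q` odd.
-/

set_option autoImplicit false
set_option linter.unusedSectionVars false

namespace Cfsg.Agent.Small.PSUn

open Matrix Cfsg.Agent.Small.Unitary

variable {F : Type*} [Field F] [Fintype F] [StarRing F] {n q : ℕ}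

local notation "Pn" => Cfsg.PSU n F q
local notation "Gn" => Cfsg.SU n F q
local notation "Un" => Cfsg.GU n F q
local notation "Mn" => Matrix (Fin n) (Fin n) F

theorem map_smul_mat (σ : F ≃+* F) (c : F) (A : Mn) : (c • A).map σ = σ c • A.map σ := by
  ext a b
  simp

theorem conjTranspose_eq {σ : F ≃+* F} (hσ : ∀ x, σ x = star x) (A : Mn) : Aᴴ = (A.map σ)ᵀ := by
  ext a b
  simp [hσ]

theorem unit_inj {B : GL (Fin n) F} {X Y : Mn} (h : (B : Mn) * X = (B : Mn) * Y) : X = Y := by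
  have := congrArg (fun Z => (B⁻¹ : GL (Fin n) F).val * Z) h
  simpa [← Matrix.mul_assoc] using this

theorem unit_inj' {B : GL (Fin n) F} {X Y : Mn} (h : X * (B : Mn) = Y * (B : Mn)) : X = Y := by
  have := congrArg (fun Z => Z * (B⁻¹ : GL (Fin n) F).val) h
  simpa [Matrix.mul_assoc] using this

set_option maxHeartbeats 1000000 in
/-- The core of the centralizer of an involution of graph type is trivial. -/
theorem graph_core (hstar : ∀ x : F, star x = x ^ q) (hF : Fintype.card F = q ^ 2) (hn : 3 ≤ n)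
    (hex : ¬(n = 3 ∧ q = 2)) (h2 : (2 : F) ≠ 0) {r : ℕ} [Fact r.Prime] [CharP F r]
    (g : Un) (σ : F ≃+* F) (hσ : ∀ x, σ x = star x) (hσ2 : orderOf σ = 2)
    (hinj : Function.Injective (MulAut.conj : Pn → MulAut Pn))
    (hx2 : (cU g * fU σ : MulAut Pn) * (cU g * fU σ) = 1)
    (L : Subgroup (MulAut Pn)) (hL : ∀ l ∈ L, Commute l (cU g * fU σ))
    (hL2 : ∀ k, (cU g * fU σ : MulAut Pn) k = k → ∀ l ∈ L,
      MulAut.conj k * l * (MulAut.conj k)⁻¹ ∈ L)
    (hcop : (Nat.card L).Coprime 2) : L = ⊥ := by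
  classical
  have : NeZero n := ⟨by omega⟩
  have hσσ : ∀ x, σ (σ x) = x := fun x => by rw [hσ, hσ, star_star]
  have hσm : ∀ A : Mn, (A.map σ).map σ = A := fun A => by ext a b; simp [hσσ]
  have hstarU : ∀ A : Un, A.1.valᴴ * A.1.val = 1 := fun A => (mem_GU_iff_star hstar _).mp A.2
  set x : MulAut Pn := cU g * fU σ with hx
  -- the relation satisfied by the matrix
  obtain ⟨u, hu⟩ := (cU_eq_one_iff hstar hF hn (g * uField σ g)).mp (by
    rw [hx, decomp_mul, show σ * σ = 1 from RingEquiv.ext hσσ, map_one fU, mul_one] at hx2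
    exact hx2)
  obtain ⟨c, hc⟩ : ∃ c : F, c = (u.1 : F) := ⟨_, rfl⟩
  have hggbar : g.1.val * g.1.val.map σ = c • (1 : Mn) := by
    rw [← uField_val, ← Units.val_mul, ← Subgroup.coe_mul, hu, scalarU_val, hc]
  have hcc : star c * c = 1 := by rw [hc]; exact (mem_U1_iff hstar u.1).mp u.2
  have hσc : σ c = c := by
    have h1 : g.1.val.map σ * g.1.val = σ c • (1 : Mn) := by
      have := congrArg (fun A : Mn => A.map σ) hggbar
      simpa only [map_mul_mat, hσm, map_smul_mat, map_one_mat] using this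
    have h3 : g.1.val * (g.1.val.map σ * g.1.val) = g.1.val * (c • (1 : Mn)) := by
      rw [← Matrix.mul_assoc, hggbar, Matrix.smul_mul, Matrix.one_mul, Matrix.mul_smul,
        Matrix.mul_one]
    rw [h1] at h3
    have := congrFun (congrFun (unit_inj h3) 0) 0
    simpa using this
  have hstarc : star c = c := by rw [← hσ, hσc]
  obtain ⟨lam, hlam⟩ := exists_neg_norm hstar hF hstarc
  have hc0 : c ≠ 0 := right_ne_zero_of_mul (hcc ▸ one_ne_zero)
  have hlam0 : lam ≠ 0 := fun h => hc0 (by rw [← hlam, h, mul_zero])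
  have hcc' : c * c = 1 := by linear_combination hcc - c * hstarc
  obtain ⟨B, hB⟩ := PSLn.exists_descent_cyclic σ (lam • g.1.val) (by
    rw [hσ2]
    simp only [PSLn.tw, map_one_mat, Matrix.mul_one, map_smul_mat, Matrix.smul_mul,
      Matrix.mul_smul, hggbar, smul_smul]
    rw [hσ, show star lam * (lam * c) = c * c by rw [← mul_assoc, hlam], hcc', one_smul])
  have hgB : g.1.val * (B : Mn).map σ = lam⁻¹ • (B : Mn) := by
    rw [eq_inv_smul_iff₀ hlam0, ← Matrix.smul_mul, hB]
  -- the hermitian form in the new coordinates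
  obtain ⟨H, hH⟩ : ∃ H, H = (B : Mn)ᴴ * (B : Mn) := ⟨_, rfl⟩
  have hHσ : H.map σ = c • H := by
    have h1 : ((g.1.val * (B : Mn).map σ))ᴴ * (g.1.val * (B : Mn).map σ) =
        ((B : Mn).map σ)ᴴ * (B : Mn).map σ := by
      rw [Matrix.conjTranspose_mul, Matrix.mul_assoc, ← Matrix.mul_assoc g.1.valᴴ, hstarU,
        Matrix.one_mul]
    rw [hgB, Matrix.conjTranspose_smul, Matrix.smul_mul, Matrix.mul_smul, smul_smul, star_inv₀,
      ← mul_inv, mul_comm (star lam), mul_comm lam, hlam, inv_eq_of_mul_eq_one_right hcc'] at h1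
    rw [hH, map_mul_mat, ← conjTranspose_map' hstar, ← h1]
  have hHT : Hᵀ = c • H := by
    have h1 : Hᴴ = H := by rw [hH, Matrix.conjTranspose_mul, Matrix.conjTranspose_conjTranspose]
    rw [conjTranspose_eq hσ, hHσ, Matrix.transpose_smul] at h1
    conv_rhs => rw [← h1]
    rw [smul_smul, hcc', one_smul]
  obtain ⟨μ, hμ0, hμ⟩ : ∃ μ : F, μ ≠ 0 ∧ σ μ = c * μ := by
    rcases mul_self_eq_one_iff.mp hcc' with h | h
    · exact ⟨1, one_ne_zero, by rw [h, map_one, mul_one]⟩
    · obtain ⟨θ, hθ0, hθ⟩ := exists_skew hstar hF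
      exact ⟨θ, hθ0, by rw [h, hσ, hθ, neg_one_mul]⟩
  let F₀ : Subfield F := RingHom.eqLocusField σ.toRingHom (RingHom.id F)
  have hmem₀ : ∀ y : F, y ∈ F₀ ↔ σ y = y := fun y => Iff.rfl
  let ι : F₀ →+* F := F₀.subtype
  have hι : ∀ y : F₀, σ (ι y) = ι y := fun y => y.2
  have hιinj : Function.Injective fun A : Matrix (Fin n) (Fin n) F₀ => A.map ι :=
    Matrix.map_injective ι.injective
  have hdesc : ∀ M : Mn, M.map σ = M → ∃ M₀ : Matrix (Fin n) (Fin n) F₀, M₀.map ι = M :=
    fun M hM => ⟨Matrix.of fun i j => ⟨M i j, congrFun (congrFun hM i) j⟩, rfl⟩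
  have hreal : ∀ A : Matrix (Fin n) (Fin n) F₀, (A.map ι).map σ = A.map ι := fun A => by
    ext a b; exact hι _
  obtain ⟨H₀, hH₀⟩ := hdesc (μ⁻¹ • H) (by
    rw [map_smul_mat, map_inv₀, hμ, hHσ, smul_smul, _root_.mul_inv_rev, mul_assoc,
      inv_mul_cancel₀ hc0, mul_one])
  have hHμ : H = μ • H₀.map ι := by rw [hH₀, smul_inv_smul₀ hμ0]
  obtain ⟨c₀, hc₀⟩ : ∃ c₀ : F₀, ι c₀ = c := ⟨⟨c, hσc⟩, rfl⟩
  have hH₀T : H₀ᵀ = c₀ • H₀ := hιinj (by
    change H₀ᵀ.map ι = (c₀ • H₀).map ι
    rw [Matrix.transpose_map, show (c₀ • H₀).map ι = ι c₀ • H₀.map ι by ext a b; simp, hc₀,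
      hH₀, Matrix.transpose_smul, hHT, smul_comm])
  have hH₀det : H₀.det ≠ 0 := by
    intro h
    have h1 : (H₀.map ι).det = 0 := by
      have := RingHom.map_det ι H₀
      rw [h, map_zero] at this
      exact this.symm
    rw [hH₀, Matrix.det_smul, hH, Matrix.det_mul, Matrix.det_conjTranspose] at h1
    have hBd : (B : Mn).det ≠ 0 := by
      rw [← Matrix.GeneralLinearGroup.val_det_apply]; exact Units.ne_zero _
    simp [hμ0, hBd] at h1
  let G : Subgroup (GL (Fin n) F₀) :=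
    { carrier := {a | (a : Matrix (Fin n) (Fin n) F₀)ᵀ * H₀ * a = H₀}
      one_mem' := by simp
      mul_mem' := fun {a b} ha hb => by
        change (a * b).valᵀ * H₀ * (a * b).val = H₀
        rw [Units.val_mul, Matrix.transpose_mul,
          show b.valᵀ * a.valᵀ * H₀ * (a.val * b.val) = b.valᵀ * (a.valᵀ * H₀ * a.val) * b.val by
            simp only [Matrix.mul_assoc], ha]
        exact hb
      inv_mem' := fun {a} ha => by
        change (a⁻¹).valᵀ * H₀ * (a⁻¹).val = H₀
        conv_lhs => rw [← show a.valᵀ * H₀ * a.val = H₀ from ha]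
        rw [show (a⁻¹).valᵀ * (a.valᵀ * H₀ * a.val) * (a⁻¹).val =
          ((a⁻¹).valᵀ * a.valᵀ) * H₀ * (a.val * (a⁻¹).val) by simp only [Matrix.mul_assoc],
          ← Matrix.transpose_mul, Units.mul_inv, Matrix.transpose_one, Matrix.one_mul,
          Matrix.mul_one] }
  let cj : GL (Fin n) F₀ →* GL (Fin n) F :=
    (MulAut.conj B).toMonoidHom.comp (Matrix.GeneralLinearGroup.map ι)
  have hcjval : ∀ a, (cj a : Mn) * (B : Mn) = (B : Mn) * a.val.map ι := fun a => by
    change ((B * Matrix.GeneralLinearGroup.map ι a * B⁻¹ : GL (Fin n) F) : Mn) * _ = _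
    simp [Matrix.mul_assoc]
  have hcjU : ∀ a ∈ G, cj a ∈ Un := fun a ha => by
    rw [mem_GU_iff_star hstar]
    have h1 : ((cj a : Mn) * (B : Mn))ᴴ * ((cj a : Mn) * (B : Mn)) = (B : Mn)ᴴ * (B : Mn) := by
      rw [hcjval, Matrix.conjTranspose_mul, Matrix.mul_assoc, ← Matrix.mul_assoc (B : Mn)ᴴ, ← hH,
        conjTranspose_eq hσ (a.val.map ι), hreal, hHμ, Matrix.smul_mul, Matrix.mul_smul,
        ← Matrix.transpose_map, ← Matrix.map_mul, ← Matrix.map_mul, ← Matrix.mul_assoc,
        show a.valᵀ * H₀ * a.val = H₀ from ha]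
    rw [Matrix.conjTranspose_mul, Matrix.mul_assoc, ← Matrix.mul_assoc (cj a : Mn)ᴴ] at h1
    have h2 : (B : Mn)ᴴ = ((star B : GL (Fin n) F) : Mn) := rfl
    rw [h2] at h1
    have h3 := unit_inj h1
    rw [← Matrix.one_mul (B : Mn)] at h3
    simp only [← Matrix.mul_assoc, Matrix.mul_one] at h3
    exact unit_inj' (by simpa only [Matrix.one_mul] using h3)
  let toUn : G →* Un := (cj.comp G.subtype).codRestrict _ fun a => hcjU a.1 a.2
  have htoUn : ∀ a : G, (toUn a).1.val * (B : Mn) = (B : Mn) * a.1.val.map ι := fun a => hcjval a.1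
  have hfixU : ∀ a : G, g.1.val * (toUn a).1.val.map σ = (toUn a).1.val * g.1.val := fun a => by
    have hBu : ((Units.map (σ.mapMatrix : Mn ≃+* Mn).toMonoidHom B : GL (Fin n) F) : Mn) =
        (B : Mn).map σ := rfl
    refine unit_inj' (B := Units.map (σ.mapMatrix : Mn ≃+* Mn).toMonoidHom B) ?_
    rw [hBu, Matrix.mul_assoc, ← map_mul_mat, htoUn, map_mul_mat, hreal, ← Matrix.mul_assoc, hgB,
      Matrix.smul_mul, ← htoUn, Matrix.mul_assoc, hgB, Matrix.mul_smul]
  let π : G →* MulAut Pn := cU.comp toUn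
  have hπ : ∀ a, Commute (π a) x := fun a => by
    change cU (toUn a) * (cU g * fU σ) = cU g * fU σ * cU (toUn a)
    rw [← mul_assoc, ← map_mul, mul_assoc, fU_cU, ← mul_assoc, ← map_mul]
    congr 2
    apply Subtype.ext
    apply Units.ext
    rw [Subgroup.coe_mul, Units.val_mul, Subgroup.coe_mul, Units.val_mul, uField_val]
    exact (hfixU a).symm
  have hscal : ∀ (a : G) (l : F₀), a.1.val = l • (1 : Matrix (Fin n) (Fin n) F₀) → π a = 1 := by
    intro a l hl
    refine cU_of_scalar (c := ι l) (unit_inj' (B := B) ?_)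
    rw [htoUn, hl, show (l • (1 : Matrix (Fin n) (Fin n) F₀)).map ι = ι l • (1 : Mn) by
      ext i j; simp [Matrix.one_apply, apply_ite ι], Matrix.mul_smul, Matrix.mul_one,
      Matrix.smul_mul, Matrix.one_mul]
  have hscal' : ∀ a : G, π a = 1 → ∃ l : F₀, a.1.val = l • (1 : Matrix (Fin n) (Fin n) F₀) := by
    intro a ha
    obtain ⟨w, hw⟩ := (cU_eq_one_iff hstar hF hn (toUn a)).mp ha
    have h1 := htoUn a
    rw [hw, scalarU_val, Matrix.smul_mul, Matrix.one_mul] at h1
    have h3 : (B : Mn) * a.1.val.map ι = (B : Mn) * ((w.1 : F) • (1 : Mn)) := by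
      rw [← h1, Matrix.mul_smul, Matrix.mul_one]
    have h4 := unit_inj h3
    have h5 : ι (a.1.val 0 0) = (w.1 : F) := by
      have := congrFun (congrFun h4 0) 0
      simpa using this
    refine ⟨a.1.val 0 0, hιinj ?_⟩
    change a.1.val.map ι = _
    rw [h4, ← h5]
    ext i j
    simp [Matrix.one_apply, apply_ite ι]
  let Bf : (Fin n → F₀) → (Fin n → F₀) → F₀ := fun v w => v ⬝ᵥ (H₀ *ᵥ w)
  have hBf : ∀ a : GL (Fin n) F₀, a ∈ G ↔ ∀ v w, Bf (a.val *ᵥ v) (a.val *ᵥ w) = Bf v w := by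
    intro a
    have hexp : ∀ v w, Bf (a.val *ᵥ v) (a.val *ᵥ w) = v ⬝ᵥ ((a.valᵀ * H₀ * a.val) *ᵥ w) :=
      fun v w => by
        simp only [Bf, ← Matrix.mulVec_mulVec]
        rw [Matrix.dotProduct_mulVec v, Matrix.vecMul_transpose]
    constructor
    · intro ha v w
      rw [hexp, show a.valᵀ * H₀ * a.val = H₀ from ha]
    · intro h
      change a.valᵀ * H₀ * a.val = H₀
      ext i j
      have h3 := h (Pi.single i 1) (Pi.single j 1)
      rw [hexp] at h3
      simpa [Bf, Matrix.mulVec_single_one, single_one_dotProduct] using h3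
  have hBfadd : ∀ v w z, Bf v (w + z) = Bf v w + Bf v z := fun v w z => by
    simp [Bf, Matrix.mulVec_add, dotProduct_add]
  have hBfsmul : ∀ (a : F₀) v w, Bf v (a • w) = a * Bf v w := fun a v w => by
    simp [Bf, Matrix.mulVec_smul, dotProduct_smul]
  have hBfsymm : ∀ v w, Bf w v = c₀ * Bf v w := fun v w => by
    simp only [Bf]
    rw [Matrix.dotProduct_mulVec w, ← Matrix.mulVec_transpose, hH₀T, Matrix.smul_mulVec,
      smul_dotProduct, smul_eq_mul, dotProduct_comm]
  have hBfnd : ∀ v, v ≠ 0 → ∃ w, Bf v w ≠ 0 := by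
    intro v hv
    by_contra! hall
    refine hv (Matrix.eq_zero_of_vecMul_eq_zero hH₀det (funext fun k => ?_))
    have := hall (Pi.single k 1)
    simpa [Bf, Matrix.dotProduct_mulVec] using this
  have h2₀ : (2 : F₀) ≠ 0 := fun h => h2 (by rw [← map_ofNat ι, h, map_zero])
  refine LocalBalance.graph_core_trivial' x hinj π hπ ?_ ?_ ?_ L hL hL2 hcop
  · -- squares
    intro k hk
    obtain ⟨w, rfl⟩ := pu_surjective k
    have hz : w⁻¹ * conjU g (fieldU σ w) ∈ Subgroup.center Gn := by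
      rw [← pu_eq_one, map_mul, map_inv, inv_mul_eq_one]
      exact hk.symm
    obtain ⟨ζ, hζ0, hζ⟩ : ∃ ζ : F, ζ ≠ 0 ∧
        (w⁻¹ * conjU g (fieldU σ w)).1.1 = ζ • (1 : Mn) := by
      exact center_scalar hstar hF hn hz
    have hζ1 : star ζ * ζ = 1 := by
      have h1 := conjTranspose_mul_self hstar (w⁻¹ * conjU g (fieldU σ w))
      rw [hζ, Matrix.conjTranspose_smul, Matrix.conjTranspose_one, Matrix.smul_mul, Matrix.one_mul,
        smul_smul] at h1
      simpa using congrFun (congrFun h1 0) 0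
    have hgw : g.1.val * w.1.1.map σ = ζ • (w.1.1 * g.1.val) := by
      have h1 : (conjU g (fieldU σ w)).1.1 = w.1.1 * (w⁻¹ * conjU g (fieldU σ w)).1.1 := by
        rw [← Matrix.SpecialLinearGroup.coe_mul, ← Subgroup.coe_mul, mul_inv_cancel_left]
      rw [hζ, conjU_val, fieldU_val, Matrix.mul_smul, Matrix.mul_one] at h1
      have h3 := congrArg (fun A : Mn => A * g.1.val) h1
      simpa [Matrix.mul_assoc] using h3
    obtain ⟨W, hW⟩ : ∃ W : Mn, W = ζ • (w.1.1 * w.1.1) := ⟨_, rfl⟩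
    have hgW : g.1.val * W.map σ = W * g.1.val := by
      rw [hW, map_smul_mat, map_mul_mat, Matrix.mul_smul, ← Matrix.mul_assoc, hgw, Matrix.smul_mul,
        Matrix.mul_assoc, hgw, Matrix.mul_smul, smul_smul, smul_smul, Matrix.smul_mul,
        Matrix.mul_assoc, hσ, hζ1, one_mul]
    obtain ⟨A, hA⟩ : ∃ A : Mn, A = (B⁻¹ : GL (Fin n) F).val * W * (B : Mn) := ⟨_, rfl⟩
    have hBA : (B : Mn) * A = W * (B : Mn) := by
      rw [hA]; simp [Matrix.mul_assoc]
    have hAσ : A.map σ = A := by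
      refine unit_inj (B := B) ?_
      rw [hBA]
      conv_lhs => rw [← hB]
      rw [Matrix.smul_mul, Matrix.smul_mul, Matrix.mul_assoc, ← map_mul_mat, hBA, map_mul_mat,
        ← Matrix.mul_assoc, hgW, Matrix.mul_assoc, ← Matrix.mul_smul, ← Matrix.smul_mul, hB]
    obtain ⟨A₀, hA₀⟩ := hdesc A hAσ
    have hwu : (w.1.1 : Mn)ᴴ * w.1.1 = 1 := conjTranspose_mul_self hstar w
    have hWu : Wᴴ * W = 1 := by
      rw [hW, Matrix.conjTranspose_smul, Matrix.smul_mul, Matrix.mul_smul, smul_smul, hζ1,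
        one_smul, Matrix.conjTranspose_mul,
        show (w.1.1 : Mn)ᴴ * (w.1.1)ᴴ * (w.1.1 * w.1.1) = (w.1.1)ᴴ * ((w.1.1)ᴴ * w.1.1) * w.1.1 by
          simp only [Matrix.mul_assoc], hwu, Matrix.mul_one, hwu]
    have hiso : A₀ᵀ * H₀ * A₀ = H₀ := by
      have h1 : Aᴴ * H * A = H := by
        rw [hH, show Aᴴ * ((B : Mn)ᴴ * (B : Mn)) * A = ((B : Mn) * A)ᴴ * ((B : Mn) * A) by
          simp [Matrix.conjTranspose_mul, Matrix.mul_assoc], hBA, Matrix.conjTranspose_mul,
          Matrix.mul_assoc, ← Matrix.mul_assoc Wᴴ, hWu, Matrix.one_mul]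
      rw [conjTranspose_eq hσ, hAσ, hHμ, Matrix.mul_smul, Matrix.smul_mul, ← hA₀,
        ← Matrix.transpose_map, ← Matrix.map_mul, ← Matrix.map_mul] at h1
      exact hιinj (smul_right_injective Mn hμ0 h1)
    have hA₀det : A₀.det ≠ 0 := by
      intro h
      have h1 := congrArg Matrix.det hiso
      rw [Matrix.det_mul, h, mul_zero] at h1
      exact hH₀det h1.symm
    let a₀ : GL (Fin n) F₀ := Matrix.GeneralLinearGroup.mkOfDetNeZero A₀ hA₀det
    refine ⟨⟨a₀, hiso⟩, ?_⟩
    have hu' : (toUn ⟨a₀, hiso⟩) =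
        scalarU hstar ⟨Units.mk0 ζ hζ0, (mem_U1_iff hstar _).mpr hζ1⟩ * toU (w * w) := by
      apply Subtype.ext
      apply Units.ext
      rw [Subgroup.coe_mul, Units.val_mul, scalarU_val, toU_val, Matrix.smul_mul, Matrix.one_mul]
      refine unit_inj' (B := B) ?_
      rw [htoUn]
      change (B : Mn) * A₀.map ι = _
      rw [hA₀, hBA, hW]
      rfl
    change cU (toUn ⟨a₀, hiso⟩) = _
    rw [hu', map_mul, cU_scalarU, one_mul, cU_toU, ← map_mul pu]
  · -- involutions
    intro N hN m hm hm1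
    let N₁ : Subgroup ((Fin n → F₀) ≃ₗ[F₀] (Fin n → F₀)) :=
      (N.map G.subtype).map Forms.lEquiv.toMonoidHom
    have hmem : ∀ e, e ∈ N₁ ↔ ∃ a ∈ N, Forms.lEquiv a.1 = e := fun e => by
      constructor
      · rintro ⟨_, ⟨a, ha, rfl⟩, rfl⟩; exact ⟨a, ha, rfl⟩
      · rintro ⟨a, ha, rfl⟩; exact ⟨_, ⟨a, ha, rfl⟩, rfl⟩
    have hnorm : ∀ e : (Fin n → F₀) ≃ₗ[F₀] (Fin n → F₀), (∀ v w, Bf (e v) (e w) = Bf v w) →
        ∀ d ∈ N₁, e * d * e⁻¹ ∈ N₁ := by
      intro e he d hd
      obtain ⟨a, ha, rfl⟩ := (hmem d).mp hd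
      refine (hmem _).mpr ⟨_, hN.conj_mem a ha ⟨Forms.lEquiv.symm e, (hBf _).mpr fun v w => ?_⟩, ?_⟩
      · rw [Forms.lEquiv_symm_mulVec, Forms.lEquiv_symm_mulVec, he]
      · simp [map_mul, map_inv]
    have hns : ¬ Forms.IsScalar (Forms.lEquiv m.1) := by
      rintro ⟨l, hl⟩
      refine hm1 (hscal m l (Matrix.ext_of_mulVec_single fun j => ?_))
      change m.1.val *ᵥ _ = _
      rw [← Forms.lEquiv_apply, hl, Matrix.smul_mulVec, Matrix.one_mulVec]
    have hmiso : ∀ v w, Bf (Forms.lEquiv m.1 v) (Forms.lEquiv m.1 w) = Bf v w :=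
      fun v w => (hBf m.1).mp m.2 v w
    have hback : ∀ d ∈ N₁, d * d = 1 → ¬ Forms.IsScalar d → ∃ a ∈ N, a * a = 1 ∧ π a ≠ 1 := by
      intro d hd hd2 hds
      obtain ⟨a, ha, rfl⟩ := (hmem d).mp hd
      refine ⟨a, ha, Subtype.ext (Forms.lEquiv.injective (by rw [Subgroup.coe_mul, map_mul, hd2,
        Subgroup.coe_one, map_one])), fun h => hds ?_⟩
      obtain ⟨l, hl⟩ := hscal' a h
      exact ⟨l, fun v => by rw [Forms.lEquiv_apply, hl, Matrix.smul_mulVec, Matrix.one_mulVec]⟩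
    have hc₀cases : c₀ = 1 ∨ c₀ = -1 := mul_self_eq_one_iff.mp (ι.injective (by
      rw [map_mul, hc₀, hcc', map_one]))
    rcases hc₀cases with rfl | rfl
    · let Hf : Forms.Herm F₀ (Fin n → F₀) :=
        ⟨RingHom.id F₀, Bf, hBfadd, hBfsmul, fun v w => by
          rw [RingHom.id_apply, hBfsymm v w, one_mul], fun _ => rfl, hBfnd⟩
      obtain ⟨e, he, hee⟩ := Hf.exists_isotropic h2₀ hn (Or.inl fun _ => rfl)
      obtain ⟨d, hd, hd2, -, hds⟩ := Hf.exists_involution h2₀ N₁
        (Hf.exists_good h2₀ N₁ hnorm he hee (Hf.exists_perp' hn) ((hmem _).mpr ⟨m, hm, rfl⟩) hmiso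
          hns) (Hf.exists_perp' hn)
      exact hback d hd hd2 hds
    · have hswap : ∀ v w, Bf v w = -Bf w v := fun v w => by rw [hBfsymm v w, neg_one_mul, neg_neg]
      let Af : Forms.Alt F₀ (Fin n → F₀) := ⟨Bf, hBfadd, hBfsmul, hswap,
        fun v => mul_left_cancel₀ h2₀ (by linear_combination hswap v v), hBfnd⟩
      have hrodd : Odd r := (Fact.out : r.Prime).odd_of_ne_two fun h => h2 (by
        subst h; exact_mod_cast CharP.cast_eq_zero F 2)
      obtain ⟨d, hd, hd2, -, hds⟩ := Af.exists_involution r hrodd N₁ hnorm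
        ((hmem _).mpr ⟨m, hm, rfl⟩) hmiso hns (Af.exists_perp' hn)
      exact hback d hd hd2 hds
  · -- the centraliser
    intro l hlc hlodd hlfix
    obtain ⟨Θ, hΘ, -⟩ := exists_theta hstar hF hn hex
    obtain ⟨a, τ, rfl⟩ := aut_decomp hstar hF hn hex l
    have hτodd : Odd (orderOf τ) := by
      have h1 := orderOf_map_dvd Θ (cU a * fU τ : MulAut Pn)
      rw [hΘ] at h1
      exact hlodd.of_dvd_nat h1
    have hτσ : ∀ y, τ (σ y) = σ (τ y) := fun y => by rw [hσ, hσ, map_star_comm hstar]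
    have hτm : ∀ M : Mn, (M.map σ).map τ = (M.map τ).map σ := fun M => by ext i j; exact hτσ _
    -- commutation
    obtain ⟨e₁, he₁, hcomm⟩ : ∃ e₁ : F, e₁ ≠ 0 ∧
        a.1.val * g.1.val.map τ = e₁ • (g.1.val * a.1.val.map σ) := by
      have h1 := hlc.eq
      rw [hx, decomp_mul, decomp_mul] at h1
      obtain ⟨w, hw⟩ := (cU_eq_one_iff hstar hF hn
        ((g * uField σ a)⁻¹ * (a * uField τ g))).mp (by
          rw [map_mul, map_inv, (decomp_unique hstar hF hn h1).1, inv_mul_cancel])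
      refine ⟨(w.1 : F), Units.ne_zero _, ?_⟩
      have h3 := congrArg (fun y : Un => (g * uField σ a) * y) hw
      simp only [mul_inv_cancel_left] at h3
      have h4 := congrArg (fun y : Un => y.1.val) h3
      simp only [Subgroup.coe_mul, Units.val_mul, uField_val, scalarU_val, Matrix.mul_smul,
        Matrix.mul_one] at h4
      exact h4
    obtain ⟨A, hA⟩ : ∃ A : Mn, A = (B⁻¹ : GL (Fin n) F).val * a.1.val * (B : Mn).map τ := ⟨_, rfl⟩
    have hBA : (B : Mn) * A = a.1.val * (B : Mn).map τ := by rw [hA]; simp [Matrix.mul_assoc]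
    obtain ⟨e, he0, hAe⟩ : ∃ e : F, e ≠ 0 ∧ A.map σ = e • A := by
      refine ⟨lam * e₁⁻¹ * (τ lam)⁻¹, by simp [hlam0, he₁], unit_inj (B := B) ?_⟩
      have hτB : g.1.val.map τ * ((B : Mn).map σ).map τ = (τ lam)⁻¹ • (B : Mn).map τ := by
        have h1 := congrArg (fun M : Mn => M.map τ) hgB
        simpa only [map_mul_mat, map_smul_mat, map_inv₀] using h1
      conv_lhs => rw [← hB]
      rw [Matrix.smul_mul, Matrix.smul_mul, Matrix.mul_assoc, ← map_mul_mat, hBA, map_mul_mat, ← Matrix.mul_assoc,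
        ← hτm, show g.1.val * a.1.val.map σ = e₁⁻¹ • (a.1.val * g.1.val.map τ) by
          rw [hcomm, inv_smul_smul₀ he₁],
        Matrix.smul_mul, Matrix.mul_assoc, hτB, Matrix.mul_smul, Matrix.mul_smul, hBA, smul_smul,
        smul_smul, mul_assoc]
    have hA0 : A.det ≠ 0 := by
      have h1 := congrArg Matrix.det hBA
      rw [Matrix.det_mul, Matrix.det_mul] at h1
      intro h
      rw [h, mul_zero] at h1
      have ha : a.1.val.det ≠ 0 := by
        rw [← Matrix.GeneralLinearGroup.val_det_apply]; exact Units.ne_zero _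
      have hBt : ((B : Mn).map τ).det ≠ 0 := by
        have := RingEquiv.map_det τ (B : Mn)
        intro h0
        have hBd : (B : Mn).det ≠ 0 := by
          rw [← Matrix.GeneralLinearGroup.val_det_apply]; exact Units.ne_zero _
        exact hBd ((map_eq_zero_iff τ τ.injective).mp (this.trans h0))
      exact mul_ne_zero ha hBt h1.symm
    have hAne : A ≠ 0 := fun h => hA0 (by rw [h, Matrix.det_zero])
    obtain ⟨b, hb0, hb⟩ := PSLn.exists_div_of_norm_one σ (x := e) (by
      have h1 := congrArg (fun M : Mn => M.map σ) hAe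
      simp only [hσm, map_smul_mat] at h1
      rw [hAe, smul_smul] at h1
      have h3 : (σ e * e - 1) • A = 0 := by rw [sub_smul, ← h1, one_smul, sub_self]
      rw [smul_eq_zero, or_iff_left hAne, sub_eq_zero] at h3
      rw [hσ2, Finset.prod_range_succ, Finset.prod_range_one, pow_zero, pow_one, RingAut.one_apply,
        mul_comm, h3])
    obtain ⟨a₀, ha₀⟩ := hdesc (b • A) (by
      rw [map_smul_mat, hAe, smul_smul, mul_comm (σ b), hb])
    let τ₀ : F₀ →+* F₀ :=
      (τ.toRingHom.comp ι).codRestrict F₀ fun y => (hmem₀ _).mpr (by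
        change σ (τ (ι y)) = τ (ι y)
        rw [← hτσ, hι])
    have hτ₀ : ∀ y, ι (τ₀ y) = τ (ι y) := fun y => rfl
    have ha₀det : a₀.det ≠ 0 := by
      intro h
      have h1 : (a₀.map ι).det = 0 := by
        have := RingHom.map_det ι a₀
        rw [h, map_zero] at this
        exact this.symm
      rw [ha₀, Matrix.det_smul] at h1
      exact mul_ne_zero (pow_ne_zero _ hb0) hA0 h1
    let φ : (Fin n → F₀) → (Fin n → F₀) := fun v => a₀ *ᵥ (τ₀ ∘ v)
    have hφadd : ∀ v w, φ (v + w) = φ v + φ w := fun v w => by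
      simp only [φ, ← Matrix.mulVec_add]
      congr 1
      funext k
      simp
    have hφsmul : ∀ (y : F₀) v, φ (y • v) = τ₀ y • φ v := fun y v => by
      simp only [φ, ← Matrix.mulVec_smul]
      congr 1
      funext k
      simp
    have hφinj : Function.Injective φ := by
      intro v w h
      have hu₀ : IsUnit a₀ := (Matrix.isUnit_iff_isUnit_det _).mpr (isUnit_iff_ne_zero.mpr ha₀det)
      exact funext fun k => τ₀.injective
        (congrFun ((Matrix.mulVec_injective_iff_isUnit.mpr hu₀) h) k)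
    have hkey : ∀ d : G, d.1.val.det = 1 →
        ∃ k : F₀, ∀ v, φ (d.1.val *ᵥ v) = k • (d.1.val *ᵥ φ v) := by
      intro d hd
      have hdet : (toUn d).1.val.det = 1 := by
        have h1 := congrArg Matrix.det (htoUn d)
        rw [Matrix.det_mul, Matrix.det_mul, mul_comm] at h1
        have h3 : (d.1.val.map ι).det = 1 :=
          (RingHom.map_det ι d.1.val).symm.trans (by rw [hd, map_one])
        rw [h3] at h1
        have hBd : (B : Mn).det ≠ 0 := by
          rw [← Matrix.GeneralLinearGroup.val_det_apply]; exact Units.ne_zero _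
        exact mul_left_cancel₀ hBd h1
      let s : Matrix.SpecialLinearGroup (Fin n) F := ⟨(toUn d).1.val, hdet⟩
      have hs : s ∈ Cfsg.SU n F q := (mem_SU_iff hstar s).mpr (hstarU (toUn d))
      let w : Gn := ⟨s, hs⟩
      have hfx : x (pu w : Pn) = pu w := by
        rw [hx, MulAut.mul_apply, fU_apply, cU_apply]
        congr 1
        apply ext_val
        rw [conjU_val, fieldU_val]
        change g.1.val * (toUn d).1.val.map σ * _ = (toUn d).1.val
        rw [hfixU, Matrix.mul_assoc, Units.mul_inv, Matrix.mul_one]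
      have h1 := hlfix _ hfx
      rw [MulAut.mul_apply, fU_apply, cU_apply] at h1
      have hz : w⁻¹ * conjU a (fieldU τ w) ∈ Subgroup.center Gn := by
        rw [← pu_eq_one, map_mul, map_inv, h1, inv_mul_cancel]
      obtain ⟨k, -, hk⟩ := center_scalar hstar hF hn hz
      have h3 : (conjU a (fieldU τ w)).1.1 = w.1.1 * (w⁻¹ * conjU a (fieldU τ w)).1.1 := by
        rw [← Matrix.SpecialLinearGroup.coe_mul, ← Subgroup.coe_mul, mul_inv_cancel_left]
      rw [hk, conjU_val, fieldU_val, Matrix.mul_smul, Matrix.mul_one] at h3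
      have h4 : a.1.val * (toUn d).1.val.map τ = k • ((toUn d).1.val * a.1.val) := by
        have := congrArg (fun M : Mn => M * a.1.val) h3
        simpa [Matrix.mul_assoc, w, s] using this
      have hrel : A * (d.1.val.map ι).map τ = k • (d.1.val.map ι * A) := by
        refine unit_inj (B := B) ?_
        rw [← Matrix.mul_assoc, hBA, Matrix.mul_assoc, ← map_mul_mat, ← htoUn, map_mul_mat,
          ← Matrix.mul_assoc, h4, Matrix.smul_mul, Matrix.mul_assoc, ← hBA, ← Matrix.mul_assoc,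
          htoUn, Matrix.mul_assoc, Matrix.mul_smul]
      have hrel' : a₀.map ι * (d.1.val.map τ₀).map ι = k • (d.1.val * a₀).map ι := by
        have e1 : (d.1.val.map τ₀).map ι = (d.1.val.map ι).map τ := by ext i j; rfl
        rw [e1, Matrix.map_mul, ha₀, Matrix.smul_mul, hrel, Matrix.mul_smul, smul_comm]
      have hne : (d.1.val * a₀) ≠ 0 := fun h => by
        have := congrArg Matrix.det h
        rw [Matrix.det_mul, hd, one_mul, Matrix.det_zero] at this
        exact ha₀det this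
      obtain ⟨i, j, hij⟩ : ∃ i j, (d.1.val * a₀) i j ≠ 0 := by
        by_contra! hall
        exact hne (Matrix.ext hall)
      obtain ⟨k₀, hk₀⟩ : ∃ k₀ : F₀, ι k₀ = k :=
        ⟨(a₀ * d.1.val.map τ₀) i j / (d.1.val * a₀) i j, by
          rw [map_div₀, div_eq_iff ((map_ne_zero ι).mpr hij)]
          have := congrFun (congrFun hrel' i) j
          rw [← Matrix.map_mul] at this
          exact this⟩
      have hrel₀ : a₀ * d.1.val.map τ₀ = k₀ • (d.1.val * a₀) := hιinj (by
        change (a₀ * d.1.val.map τ₀).map ι = (k₀ • (d.1.val * a₀)).map ι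
        rw [Matrix.map_mul, hrel', ← hk₀]
        exact Matrix.ext fun i j => (map_mul ι _ _).symm)
      refine ⟨k₀, fun v => ?_⟩
      simp only [φ]
      rw [show τ₀ ∘ (d.1.val *ᵥ v) = d.1.val.map τ₀ *ᵥ (τ₀ ∘ v) from
        funext fun i => RingHom.map_mulVec τ₀ d.1.val v i, Matrix.mulVec_mulVec, hrel₀,
        Matrix.smul_mulVec, Matrix.mulVec_mulVec]
    have main : (∀ y, τ₀ y = y) ∧ ∃ k : F₀, ∀ v, φ v = k • v := by
      have hc₀cases : c₀ = 1 ∨ c₀ = -1 := mul_self_eq_one_iff.mp (ι.injective (by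
        rw [map_mul, hc₀, hcc', map_one]))
      rcases hc₀cases with rfl | rfl
      · let Hf : Forms.Herm F₀ (Fin n → F₀) :=
          ⟨RingHom.id F₀, Bf, hBfadd, hBfsmul, fun v w => by
            rw [RingHom.id_apply, hBfsymm v w, one_mul], fun _ => rfl, hBfnd⟩
        obtain ⟨e', he', hee⟩ := Hf.exists_isotropic h2₀ hn (Or.inl fun _ => rfl)
        refine Hf.semilinear_trivial h2₀ τ₀ φ
          ⟨hφinj, Finite.injective_iff_surjective.mp hφinj⟩ hφadd hφsmul
          (fun v w hv hw => ?_) he' hee (Hf.exists_perp' hn)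
        obtain ⟨d, hd⟩ : ∃ d : G, d.1 = Forms.lEquiv.symm (Hf.refl v * Hf.refl w) :=
          ⟨⟨_, (hBf _).mpr fun v' w' => by
            rw [Forms.lEquiv_symm_mulVec, Forms.lEquiv_symm_mulVec]
            exact (Hf.Iso.mul_mem (Hf.refl_mem v) (Hf.refl_mem w)) v' w'⟩, rfl⟩
        obtain ⟨k, hk⟩ := hkey d (by
          rw [hd, map_mul, Units.val_mul, Matrix.det_mul, Hf.det_refl hv, Hf.det_refl hw]
          ring)
        refine ⟨k, fun z => ?_⟩
        have h4 := hk z
        rw [hd, Forms.lEquiv_symm_mulVec, Forms.lEquiv_symm_mulVec] at h4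
        exact h4
      · have hswap : ∀ v w, Bf v w = -Bf w v := fun v w => by
          rw [hBfsymm v w, neg_one_mul, neg_neg]
        let Af : Forms.Alt F₀ (Fin n → F₀) := ⟨Bf, hBfadd, hBfsmul, hswap,
          fun v => mul_left_cancel₀ h2₀ (by linear_combination hswap v v), hBfnd⟩
        obtain ⟨e', he', -, -⟩ := Af.exists_perp' hn 0 0
        refine Af.semilinear_trivial τ₀ φ hφadd hφsmul hφinj he' fun v => ?_
        obtain ⟨d, hd⟩ : ∃ d : G, d.1 = Forms.lEquiv.symm (Af.tv v 1) :=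
          ⟨⟨_, (hBf _).mpr fun v' w' => by
            rw [Forms.lEquiv_symm_mulVec, Forms.lEquiv_symm_mulVec]
            exact Af.tv_mem v 1 v' w'⟩, rfl⟩
        obtain ⟨k, hk⟩ := hkey d (by rw [hd]; exact Af.det_tv r v 1)
        refine ⟨k, fun z => ?_⟩
        have h4 := hk z
        rw [hd, Forms.lEquiv_symm_mulVec, Forms.lEquiv_symm_mulVec] at h4
        exact h4
    obtain ⟨hid, k, hk⟩ := main
    obtain ⟨j, hj⟩ : τ ∈ Subgroup.zpowers σ := LocalBalance.mem_zpowers_of_fixes σ τ fun y hy =>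
      congrArg ι (hid ⟨y, hy⟩)
    have hτ1 : τ = 1 := by
      have h1 : orderOf τ ∣ 2 := hσ2 ▸ orderOf_dvd_of_mem_zpowers ⟨j, hj⟩
      exact orderOf_eq_one_iff.mp (Nat.dvd_one.mp (hτodd.coprime_two_right.gcd_eq_one ▸
        Nat.dvd_gcd dvd_rfl h1))
    subst hτ1
    have hsc : a₀ = k • (1 : Matrix (Fin n) (Fin n) F₀) := Matrix.ext_of_mulVec_single fun i => by
      have := hk (Pi.single i 1)
      rw [Matrix.smul_mulVec, Matrix.one_mulVec, ← this]
      simp only [φ]
      rw [show ⇑τ₀ ∘ (Pi.single i (1 : F₀) : Fin n → F₀) = Pi.single i 1 from funext fun t => hid _]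
    have hAs : A = (b⁻¹ * ι k) • (1 : Mn) := by
      rw [mul_smul, eq_inv_smul_iff₀ hb0, ← ha₀, hsc]
      ext i j
      simp [Matrix.one_apply, apply_ite ι]
    rw [map_one fU, mul_one]
    refine cU_of_scalar (c := b⁻¹ * ι k) (unit_inj' (B := B) ?_)
    have hBA' : (B : Mn) * A = a.1.val * (B : Mn) := hBA.trans (by congr 1)
    rw [← hBA', hAs, Matrix.mul_smul, Matrix.mul_one, Matrix.smul_mul, Matrix.one_mul]

end Cfsg.Agent.Small.PSUn
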