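import Mathlib
import Cfsg.Agent.Lib.Small.PSUn.FieldBalance
import Cfsg.Agent.Lib.Small.PSUn.GraphBalance

/-!
The local balance criterion for `PSU_n(q)`.
-/

set_option autoImplicit false
set_option linter.unusedSectionVars false

namespace Cfsg.Agent.Small.PSUn

open Matrix Cfsg.Agent.Small.Unitary

variable {F : Type*} [Field F] [Fintype F] [StarRing F] {n q : ℕ}

local notation "Pn" => Cfsg.PSU n F q
local notation "Gn" => Cfsg.SU n F q

variable (hstar : ∀ x : F, star x = x ^ q) (hF : Fintype.card F = q ^ 2) (hn : 3 ≤ n)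

include hstar hF hn in
theorem not_comm {r : ℕ} [Fact r.Prime] [CharP F r] : ¬ ∀ a b : Pn, a * b = b * a := by
  intro h
  obtain ⟨i, j, l, e, f, P, -, -⟩ := exists_std hstar hF hn
  have h1 := (Tb_commute_iff hstar hF hn r (pair_isPt P).1 (pair_isPt P).2).mp fun x _ y _ => h x y
  rw [P.ef] at h1
  exact one_ne_zero h1

include hstar hF hn in
theorem conj_injective_of_simple {r : ℕ} [Fact r.Prime] [CharP F r] (hK : IsSimpleGroup Pn) :
    Function.Injective (MulAut.conj : Pn → MulAut Pn) := by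
  refine (injective_iff_map_eq_one MulAut.conj).mpr fun y hy => ?_
  rcases (inferInstance : (Subgroup.center Pn).Normal).eq_bot_or_eq_top with h | h
  · refine Subgroup.mem_bot.mp (h ▸ Subgroup.mem_center_iff.mpr fun x => ?_)
    have h1 := DFunLike.congr_fun hy x
    rw [MulAut.conj_apply, MulAut.one_apply, mul_inv_eq_iff_eq_mul] at h1
    exact h1.symm
  · refine absurd (fun a b => ?_) (not_comm hstar hF hn (r := r))
    exact (Subgroup.mem_center_iff.mp (h.symm ▸ Subgroup.mem_top a : a ∈ Subgroup.center Pn) b).symm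

include hn in
/-- `PSU_3(2)` is not simple. -/
theorem exclude_three_two {r : ℕ} [Fact r.Prime] [CharP F r]
    (hstar : ∀ x : F, star x = x ^ q) (hF : Fintype.card F = q ^ 2) (hK : IsSimpleGroup Pn) :
    ¬(n = 3 ∧ q = 2) := by
  rintro ⟨rfl, rfl⟩
  obtain ⟨-, -, τ, -, -, -, -, hτ⟩ := Cfsg.Agent.Classical.exists_usigma hF
  have hmem : ∀ x : Cfsg.SU 3 F 2,
      Matrix.SpecialLinearGroup.toGL x.1 ∈ Classical.unitGroup τ 3 := fun x => by
    have h : x.1.1ᴴ * x.1.1 = 1 := conjTranspose_mul_self hstar x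
    have h1 : (x.1.1ᴴ * x.1.1)ᵀ = 1 := by rw [h, Matrix.transpose_one]
    rw [Matrix.transpose_mul] at h1
    change x.1.1ᵀ * x.1.1.map τ = 1
    have e : x.1.1.map τ = (x.1.1ᴴ)ᵀ := by
      ext i j
      simp [hstar, hτ.apply_eq]
    rw [e]
    exact h1
  have : Group.IsSolvable (Classical.unitGroup τ 3) := Classical.isSolvable_unitGroup_three hτ
  have : Group.IsSolvable (Cfsg.SU 3 F 2) :=
    Group.isSolvable_of_isSolvable_injective
      (f := (Matrix.SpecialLinearGroup.toGL.comp (Cfsg.SU 3 F 2).subtype).codRestrict _ hmem)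
      fun x y h => ext_val (congrArg (fun z : Classical.unitGroup τ 3 => z.1.val) h)
  exact not_comm hstar hF hn (r := r)
    (IsSimpleGroup.comm_iff_isSolvable.mpr (Group.isSolvable_of_surjective pu_surjective))

include hstar hF in
theorem star_of_order_two (σ : F ≃+* F) (hσ : orderOf σ = 2) (x : F) : σ x = star x := by
  classical
  have : Finite (F ≃+* F) := Finite.of_injective (fun e => ⇑e) DFunLike.coe_injective
  let G := Subgroup.zpowers σ
  let F₀ := FixedPoints.subfield G F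
  have : Fintype G := Fintype.ofFinite G
  have : Fintype F₀ := Fintype.ofFinite F₀
  have hc : Fintype.card F = Fintype.card F₀ ^ 2 := by
    rw [Module.card_eq_pow_finrank (K := F₀) (V := F), FixedPoints.finrank_eq_card G F,
      ← Nat.card_eq_fintype_card (α := G), Nat.card_zpowers, hσ]
  have hcard : Fintype.card F₀ = q := Nat.pow_left_injective two_ne_zero (hc.symm.trans hF)
  let st : F ≃+* F :=
    { toFun := star, invFun := star, left_inv := star_star, right_inv := star_star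
      map_mul' := star_mul', map_add' := star_add }
  obtain ⟨k, hk⟩ : st ∈ Subgroup.zpowers σ := LocalBalance.mem_zpowers_of_fixes σ st fun y hy => by
    have hy' : y ∈ F₀ := by
      rintro ⟨g, hg⟩
      exact Subgroup.zpowers_le.mpr (show σ ∈ MulAction.stabilizer (F ≃+* F) y from hy) hg
    have h1 := congrArg Subtype.val (FiniteField.pow_card (⟨y, hy'⟩ : F₀))
    rw [hcard] at h1
    change star y = y
    rw [hstar]
    simpa using h1
  rcases Int.even_or_odd k with ⟨j, hj⟩ | ⟨j, hj⟩ <;> subst hj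
  · exfalso
    obtain ⟨b, hb⟩ := Hermitian.exists_star_ne hstar hF
    apply hb
    have h1 : st = 1 := by
      rw [← hk]
      change σ ^ (j + j) = 1
      rw [← two_mul, _root_.zpow_mul, zpow_two, ← pow_two, ← hσ, pow_orderOf_eq_one,
        _root_.one_zpow]
    exact DFunLike.congr_fun h1 b
  · have h1 : σ = st := by
      rw [← hk]
      change σ = σ ^ (2 * j + 1)
      rw [_root_.zpow_add, _root_.zpow_mul, zpow_two, ← pow_two, ← hσ, pow_orderOf_eq_one,
        _root_.one_zpow, one_mul, zpow_one]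
    rw [h1]
    rfl

include hstar hF hn in
/-- The local balance criterion for `PSU_n(q)`. -/
theorem balance {r : ℕ} [Fact r.Prime] [CharP F r] (hK : IsSimpleGroup Pn)
    (A : Subgroup (MulAut Pn)) (hinn : ∀ k : Pn, MulAut.conj k ∈ A)
    {p : ℕ} [Fact p.Prime] (hpr : p ≠ r) (x : MulAut Pn) (hord : orderOf x = p)
    (hnot : ¬ Cfsg.IsInnerDiagonalAutPSU x) :
    Cfsg.pPrimeCore p ↥(A ⊓ Subgroup.centralizer {x}) ≠ ⊥ ↔
      ((∃ γ φ : MulAut Pn, Cfsg.IsInnerDiagonalAutPSU γ ∧
          (∃ σ : F ≃+* F, Cfsg.IsFieldAutPSUOf σ φ) ∧ x = φ.trans γ) ∧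
        Nat.Coprime p (Nat.card ↥(MonoidHom.eqLocus x.toMonoidHom (MonoidHom.id Pn)))) := by
  classical
  have hp : p.Prime := Fact.out
  have hr : r.Prime := Fact.out
  have hex := exclude_three_two hn (r := r) hstar hF hK
  have hinj := conj_injective_of_simple hstar hF hn (r := r) hK
  obtain ⟨g, σ, hx⟩ := aut_decomp hstar hF hn hex x
  have hform : ∃ γ φ : MulAut Pn, Cfsg.IsInnerDiagonalAutPSU γ ∧
      (∃ σ : F ≃+* F, Cfsg.IsFieldAutPSUOf σ φ) ∧ x = φ.trans γ :=
    ⟨cU g, fU σ, (innerDiag_iff _).mpr ⟨g, rfl⟩, ⟨σ, (fieldOf_iff σ _).mpr rfl⟩, hx⟩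
  have hσ1 : σ ≠ 1 := fun h => hnot ((innerDiag_iff x).mpr ⟨g, by rw [hx, h, map_one, mul_one]⟩)
  have hσp : σ ^ p = 1 := by
    obtain ⟨N, -, hN⟩ := decomp_pow g σ p
    rw [← hx, ← hord, pow_orderOf_eq_one] at hN
    refine hord ▸ (decomp_unique hstar hF hn (g := 1) (σ := 1) (g' := N) ?_).2.symm
    rw [map_one cU, map_one fU, one_mul]
    exact hN
  have hσo : orderOf σ = p := orderOf_eq_prime hσp hσ1
  rcases eq_or_ne p 2 with rfl | hp2
  · have h2 : (2 : F) ≠ 0 := fun h => hpr (Eq.symm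
      ((Nat.prime_dvd_prime_iff_eq hr Nat.prime_two).mp
        ((CharP.cast_eq_zero_iff F r 2).mp (by exact_mod_cast h))))
    have hσs : ∀ y, σ y = star y := star_of_order_two hstar hF σ hσo
    have hxx : x * x = 1 := by rw [← pow_two, ← hord, pow_orderOf_eq_one]
    have hbot : Cfsg.pPrimeCore 2 ↥(A ⊓ Subgroup.centralizer {x}) = ⊥ := by
      refine LocalBalance.core_eq_bot A hinn x 1 x (by group) fun L hL hL2 hc => ?_
      subst hx
      exact graph_core (r := r) hstar hF hn hex h2 g σ hσs hσo hinj hxx L hL hL2 hc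
    refine iff_of_false (fun h => h hbot) ?_
    rintro ⟨-, hcop⟩
    refine LocalBalance.core_ne_bot A hinn x hinj ?_ hcop hbot
    by_contra hno
    push Not at hno
    refine not_comm hstar hF hn (r := r) fun a b =>
      (MonoidHom.FixedPointFree.commute_all_of_involutive (φ := x.toMonoidHom) hno
        (fun y => ?_) a b).eq
    exact DFunLike.congr_fun hxx y
  -- odd order: the fixed field
  have hodd : Odd (orderOf σ) := hσo.symm ▸ hp.odd_of_ne_two hp2
  have : Finite (F ≃+* F) := Finite.of_injective (fun e => ⇑e) DFunLike.coe_injective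
  let G := Subgroup.zpowers σ
  let F₀ := FixedPoints.subfield G F
  have : Fintype G := Fintype.ofFinite G
  have : Fintype F₀ := Fintype.ofFinite F₀
  have hc : Fintype.card F = Fintype.card F₀ ^ p := by
    rw [Module.card_eq_pow_finrank (K := F₀) (V := F), FixedPoints.finrank_eq_card G F,
      ← Nat.card_eq_fintype_card (α := G), Nat.card_zpowers, hσo]
  have : CharP F₀ r := (F₀.subtype.charP_iff F₀.subtype.injective r).mpr inferInstance
  obtain ⟨m, -, hm⟩ := FiniteField.card F₀ r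
  obtain ⟨j, hj⟩ : ∃ j, q = r ^ j := by
    obtain ⟨j, -, hj⟩ := (Nat.dvd_prime_pow hr).mp
      (show q ∣ r ^ ((m : ℕ) * p) by rw [pow_mul, ← hm, ← hc, hF]; exact dvd_pow_self q two_ne_zero)
    exact ⟨j, hj⟩
  have hjm : j * 2 = (m : ℕ) * p := Nat.pow_right_injective hr.two_le
    (show r ^ (j * 2) = r ^ ((m : ℕ) * p) by rw [pow_mul, pow_mul, ← hj, ← hF, hc, hm])
  obtain ⟨i, hi⟩ : Even (m : ℕ) := by
    rcases Nat.even_mul.mp (hjm ▸ (even_two.mul_left j) : Even ((m : ℕ) * p)) with h | h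
    · exact h
    · exact absurd h (Nat.not_even_iff_odd.mpr (hp.odd_of_ne_two hp2))
  have hcard₀ : Fintype.card F₀ = (r ^ i) ^ 2 := by
    rw [hm, hi, ← pow_mul]
    congr 1
    omega
  have hqq : q = (r ^ i) ^ p := by
    rw [hj, ← pow_mul]
    congr 1
    rw [hi] at hjm
    nlinarith
  obtain ⟨-, -, τ₀, -, -, -, -, hτ₀⟩ := Cfsg.Agent.Classical.exists_usigma hcard₀
  let : StarRing F₀ := Hermitian.starRingOfInvolution (τ₀ : F₀ →+* F₀) hτ₀.involutive
  have hstar₀ : ∀ y : F₀, star y = y ^ (r ^ i) := fun y => hτ₀.apply_eq y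
  let ι : F₀ →+* F := F₀.subtype
  have hι : ∀ y : F, σ y = y ↔ y ∈ Set.range ι := by
    intro y
    constructor
    · intro hy
      refine ⟨⟨y, ?_⟩, rfl⟩
      rintro ⟨s, hs⟩
      exact Subgroup.zpowers_le.mpr (show σ ∈ MulAction.stabilizer (F ≃+* F) y from hy) hs
    · rintro ⟨⟨y, hy⟩, rfl⟩
      exact hy ⟨σ, Subgroup.mem_zpowers σ⟩
  have D : SubData σ ι q (r ^ i) :=
    ⟨hstar, hF, hstar₀, hcard₀, hι,
      comp_star hstar hstar₀ hcard₀ (hp.odd_of_ne_two hp2) hqq ι⟩
  obtain ⟨B, hB⟩ := field_conj hstar hF hn D.star₀ D.card₀ σ hodd ι hι D.comp g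
    (by rw [← hx, hσo, ← hord, pow_orderOf_eq_one])
  have hconj : (cU B : MulAut Pn)⁻¹ * x * ((cU B : MulAut Pn)⁻¹)⁻¹ = fU σ := by
    rw [hx, hB]; group
  constructor
  · intro hne
    refine ⟨hform, ?_⟩
    by_contra hcop
    refine hne (LocalBalance.core_eq_bot A hinn x (cU B)⁻¹ (fU σ) hconj fun L hL h2 hc' =>
      field_core (r := r) hn hex D hp2 hσo hinj ?_ L hL h2 hc')
    obtain ⟨k₀, hk₀⟩ := exists_prime_orderOf_dvd_card' p
      ((Nat.Prime.coprime_iff_not_dvd hp).not_left.mp hcop)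
    refine ⟨(cU B : MulAut Pn)⁻¹ k₀.1, ?_, ?_⟩
    · rw [← hconj, inv_inv, MulAut.mul_apply, MulAut.mul_apply, MulAut.apply_inv_self]
      exact congrArg _ k₀.2
    · rw [MulEquiv.orderOf_eq, Subgroup.orderOf_coe, hk₀]
  · rintro ⟨-, hcop⟩
    refine LocalBalance.core_ne_bot A hinn x hinj ?_ hcop
    obtain ⟨k, hk, hk1⟩ := exists_rational (p := r) hn D
    refine ⟨cU B k, ?_, ?_⟩
    · rw [hx, hB]
      simp only [MulAut.mul_apply, MulAut.inv_apply_self, hk]
    · rwa [Ne, EmbeddingLike.map_eq_one_iff]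

end Cfsg.Agent.Small.PSUn
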