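import Cfsg.Agent.Lib.Small.PSUn.Out
import Cfsg.Agent.Lib.Small.PSUn.Balance
import Cfsg.Agent.Lib.Small.PSUn.FieldAut
import Cfsg.Agent.Lib.Small.PSLn.FieldAut
import Cfsg.Agent.Lib.Small.Gram.Standard

/-!
# Involutory graph automorphisms of `PSU_n(q)` and Gram matrices over `F_q`

`gr B` is the involutory field automorphism followed by conjugation by `B`. The semilinear map it gives has
a basis of fixed vectors, on which the Hermitian form is a scalar times a form with entries in the subfield.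
-/

set_option autoImplicit false
set_option linter.unusedSectionVars false

namespace Cfsg.Agent.Small.PSUn

open Matrix Cfsg.Agent.Small Cfsg.Agent.Small.Gram

variable {F : Type*} [Field F] [Fintype F] [StarRing F] {n q : ℕ}

local notation "Pn" => Cfsg.PSU n F q
local notation "Un" => Cfsg.GU n F q
local notation "Mn" => Matrix (Fin n) (Fin n) F

section Conj

variable {κ μ ν : Type} [Fintype κ] [Fintype μ] [Fintype ν]

/-- Conjugation of the entries. -/
def cj (M : Matrix κ μ F) : Matrix κ μ F := M.map star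

theorem cj_apply (M : Matrix κ μ F) (i : κ) (j : μ) : cj M i j = star (M i j) := rfl

theorem cj_mul (A : Matrix κ μ F) (B : Matrix μ ν F) : cj (A * B) = cj A * cj B :=
  Matrix.map_mul (f := starRingEnd F)

theorem cj_smul (c : F) (A : Matrix κ μ F) : cj (c • A) = star c • cj A := by
  ext i j
  simp [cj_apply]

theorem cj_cj (A : Matrix κ μ F) : cj (cj A) = A := by
  ext i j
  simp [cj_apply]

theorem cj_one [DecidableEq κ] : cj (1 : Matrix κ κ F) = 1 := Matrix.map_one _ (star_zero F) (star_one F)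

theorem cj_transpose (A : Matrix κ μ F) : (cj A)ᵀ = Aᴴ := rfl

theorem cj_conjTranspose (A : Matrix κ μ F) : cj Aᴴ = Aᵀ := by
  ext i j
  simp [cj_apply]

end Conj

/-- The involution as an automorphism. -/
def stR (F : Type*) [Field F] [StarRing F] : F ≃+* F where
  toFun := star
  invFun := star
  left_inv := star_star
  right_inv := star_star
  map_mul' := star_mul'
  map_add' := star_add

theorem stR_apply (x : F) : stR F x = star x := rfl

theorem stR_sq : stR F * stR F = 1 := RingEquiv.ext fun x => star_star x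

/-- The graph automorphism given by a unitary matrix. -/
noncomputable def gr (B : Un) : MulAut Pn := cU B * fU (stR F)

theorem uField_stR (g : Un) : (uField (stR F) g).1.val = cj g.1.val := rfl

variable (hstar : ∀ x : F, star x = x ^ q) (hF : Fintype.card F = q ^ 2)

include hstar in
theorem cj_eq_invT (B : Un) : cj B.1.val = (B.1⁻¹).valᵀ := by
  have h := (mem_GU_iff_star hstar _).1 B.2
  have e : B.1.valᴴ = (B.1⁻¹).val := by
    calc B.1.valᴴ = B.1.valᴴ * (B.1.val * (B.1⁻¹).val) := by rw [Units.mul_inv, Matrix.mul_one]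
      _ = (B.1⁻¹).val := by rw [← Matrix.mul_assoc, h, Matrix.one_mul]
  rw [← e]
  rfl

include hstar in
theorem cU_eq_of_smul {g h : Un} {c : F} (e : g.1.val = c • h.1.val) : (cU g : MulAut Pn) = cU h := by
  rw [← mul_inv_eq_one, ← map_inv, ← map_mul]
  refine cU_of_scalar (c := c) ?_
  rw [Subgroup.coe_mul, Units.val_mul, e, Matrix.smul_mul, Subgroup.coe_inv, Units.mul_inv]

include hstar hF in
theorem gr_eq_iff (hn : 3 ≤ n) (B B' : Un) :
    gr B = gr B' ↔ ∃ c : Fˣ, B.1.val = (c : F) • B'.1.val := by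
  rw [gr, gr, mul_left_inj]
  constructor
  · intro h
    obtain ⟨u, hu⟩ := (cU_eq_one_iff hstar hF hn (B * B'⁻¹)).1 (by rw [map_mul, map_inv, h, mul_inv_cancel])
    refine ⟨u.1, ?_⟩
    have e : B = scalarU hstar u * B' := by rw [← hu, inv_mul_cancel_right]
    rw [e, Subgroup.coe_mul, Units.val_mul, scalarU_val, Matrix.smul_mul, Matrix.one_mul]
  · rintro ⟨c, hc⟩
    exact cU_eq_of_smul hstar hc

theorem conj_gr (h B : Un) : cU h * gr B * (cU h)⁻¹ = gr (h * B * uField (stR F) h⁻¹) := by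
  rw [gr, gr, ← map_inv, mul_assoc, mul_assoc, fU_cU, map_mul, map_mul]
  simp only [mul_assoc]

include hstar in
theorem conj_gr_val (h B : Un) :
    (h * B * uField (stR F) h⁻¹).1.val = h.1.val * B.1.val * h.1.valᵀ := by
  rw [Subgroup.coe_mul, Subgroup.coe_mul, Units.val_mul, Units.val_mul, uField_stR, cj_eq_invT hstar,
    Subgroup.coe_inv, inv_inv]

theorem gr_mul_self (B : Un) : gr B * gr B = cU (B * uField (stR F) B) := by
  rw [gr, decomp_mul, stR_sq, map_one, mul_one]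

include hstar hF in
theorem gr_ne_one (hn : 3 ≤ n) (B : Un) : gr B ≠ 1 := fun h => by
  have e : (cU B * fU (stR F) : MulAut Pn) = cU (1 : Un) * fU 1 := by
    rw [map_one, map_one, mul_one]
    exact h
  obtain ⟨b, hb⟩ := Hermitian.exists_star_ne hstar hF
  exact hb (DFunLike.congr_fun (decomp_unique hstar hF hn e).2 b)

include hstar hF in
theorem gr_order_iff (hn : 3 ≤ n) (B : Un) :
    orderOf (gr B) = 2 ↔ B.1.valᵀ = B.1.val ∨ B.1.valᵀ = -B.1.val := by
  haveI : Nonempty (Fin n) := ⟨⟨0, by omega⟩⟩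
  have key : gr B * gr B = 1 ↔ B.1.valᵀ = B.1.val ∨ B.1.valᵀ = -B.1.val := by
    rw [gr_mul_self, cU_eq_one_iff hstar hF hn]
    constructor
    · rintro ⟨u, hu⟩
      have e : B.1.val * (B.1⁻¹).valᵀ = (u.1 : F) • (1 : Mn) := by
        rw [← cj_eq_invT hstar, ← uField_stR, ← Units.val_mul, ← Subgroup.coe_mul, hu, scalarU_val]
      have h1 : B.1.val = (u.1 : F) • B.1.valᵀ := by
        have e' := congrArg (· * B.1.valᵀ) e
        simp only [Matrix.smul_mul, Matrix.one_mul, Matrix.mul_assoc, ← Matrix.transpose_mul, Units.mul_inv,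
          Matrix.transpose_one, Matrix.mul_one] at e'
        exact e'
      have h2 : B.1.valᵀ = (u.1 : F) • B.1.val := by
        conv_lhs => rw [h1, Matrix.transpose_smul, Matrix.transpose_transpose]
      have h3 : ((u.1 : F) * u.1) • B.1.val = (1 : F) • B.1.val := by
        rw [← smul_smul, ← h2, ← h1, one_smul]
      rcases mul_self_eq_one_iff.1 (smul_left_injective F B.1.ne_zero h3) with he | he
      · exact .inl (by rw [h2, he, one_smul])
      · exact .inr (by rw [h2, he, neg_one_smul])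
    · intro h
      have he : ∀ ε : Fˣ, ε * ε = 1 → B.1.valᵀ = (ε : F) • B.1.val →
          ∃ u : U1 F q, B * uField (stR F) B = scalarU hstar u := fun ε h1 hε => by
        have h2 : ((B.1⁻¹).valᵀ) = (ε : F) • (B.1⁻¹).val := by
          have e : (B.1⁻¹).valᵀ * B.1.valᵀ = 1 := by rw [← Matrix.transpose_mul, Units.mul_inv, Matrix.transpose_one]
          rw [hε, Matrix.mul_smul] at e
          have e' := congrArg (fun X => (ε : F) • (X * (B.1⁻¹).val)) e
          simp only [Matrix.smul_mul, Matrix.one_mul, Matrix.mul_assoc, Units.mul_inv, Matrix.mul_one, smul_smul] at e'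
          rw [← Units.val_mul ε ε, h1, Units.val_one, one_smul] at e'
          exact e'
        have hu : ε ∈ U1 F q := by
          rw [mem_U1_iff hstar]
          rcases mul_self_eq_one_iff.1 (show (ε : F) * ε = 1 by rw [← Units.val_mul, h1, Units.val_one]) with
            h3 | h3 <;> rw [h3] <;> simp
        refine ⟨⟨ε, hu⟩, Subtype.ext (Units.ext ?_)⟩
        rw [Subgroup.coe_mul, Units.val_mul, uField_stR, cj_eq_invT hstar, h2, Matrix.mul_smul, Units.mul_inv,
          scalarU_val]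
      rcases h with h | h
      · exact he 1 (one_mul 1) (by rw [Units.val_one, one_smul]; exact h)
      · exact he (-1) (by simp) (by rw [Units.val_neg, Units.val_one, neg_one_smul]; exact h)
  rw [← key, ← pow_two]
  exact ⟨fun h => by rw [← h]; exact pow_orderOf_eq_one _,
    fun h => orderOf_eq_prime h (gr_ne_one hstar hF hn B)⟩

include hstar hF in
theorem graph_of_gr (hn : 3 ≤ n) (B : Un) : Cfsg.IsGraphAutClassPSU (gr B) := by
  refine ⟨hn, cU B, fU (stR F), stR F, ?_, (innerDiag_iff _).2 ⟨B, rfl⟩, (fieldOf_iff _ _).2 rfl, rfl⟩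
  have : orderOf (stR F) = 2 := orderOf_eq_prime (by rw [pow_two, stR_sq]) fun h => by
    obtain ⟨b, hb⟩ := Hermitian.exists_star_ne hstar hF
    exact hb (DFunLike.congr_fun h b)
  rw [this]
  exact even_two

include hstar hF in
theorem exists_gram (hn : 3 ≤ n) {γ : MulAut Pn} (hγ : Cfsg.IsGraphAutClassPSU γ) (h2 : orderOf γ = 2) :
    ∃ B : Un, γ = gr B ∧ (B.1.valᵀ = B.1.val ∨ B.1.valᵀ = -B.1.val) := by
  obtain ⟨-, δ, φ, σ, hev, hδ, hφ, rfl⟩ := hγ
  obtain ⟨B, rfl⟩ := (innerDiag_iff δ).1 hδ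
  rw [(fieldOf_iff σ φ).1 hφ] at h2 ⊢
  have e : (cU (B * uField σ B) * fU (σ * σ) : MulAut Pn) = cU (1 : Un) * fU 1 := by
    rw [← decomp_mul, ← pow_two, ← h2, pow_orderOf_eq_one, map_one, map_one, mul_one]
  have hσ : orderOf σ = 2 := by
    have hd : orderOf σ ∣ 2 := orderOf_dvd_of_pow_eq_one (by rw [pow_two]; exact (decomp_unique hstar hF hn e).2)
    rcases (Nat.dvd_prime Nat.prime_two).1 hd with h | h
    · rw [h] at hev
      exact absurd hev (by decide)
    · exact h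
  obtain rfl : σ = stR F := RingEquiv.ext fun x => star_of_order_two hstar hF σ hσ x
  exact ⟨B, rfl, (gr_order_iff hstar hF hn B).1 h2⟩

include hstar hF in
theorem field_gram (hn : 3 ≤ n) (σ : F ≃+* F) (hσ : ∀ a : F, σ a = a ^ q) {φ : MulAut Pn}
    (hφ : Cfsg.IsFieldAutPSUOf σ φ) : φ = gr (1 : Un) := by
  obtain rfl : σ = stR F := RingEquiv.ext fun x => by rw [hσ, stR_apply, hstar]
  rw [(fieldOf_iff _ φ).1 hφ, gr, map_one, one_mul]

/-! ### The matrix over the subfield -/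

variable {F₀ : Type*} [Field F₀] (ι : F₀ →+* F) {κ μ : Type} [Fintype κ] [DecidableEq κ] [Fintype μ]
  [DecidableEq μ]

/-- `G` is the Gram matrix on a basis of fixed vectors. -/
def Desc (B : Mn) (G : Matrix κ κ F₀) : Prop :=
  ∃ (M : Matrix (Fin n) κ F) (N : Matrix κ (Fin n) F) (a b : Fˣ),
    M * N = 1 ∧ N * M = 1 ∧ B * cj M = (a : F) • M ∧ Mᴴ * M = (b : F) • G.map ι

variable (hι : ∀ y : F, star y = y ↔ y ∈ Set.range ι)

include hι in
theorem cj_map (A : Matrix κ μ F₀) : cj (A.map ι) = A.map ι := by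
  ext i j
  rw [cj_apply, Matrix.map_apply]
  exact (hι _).2 ⟨_, rfl⟩

include hι in
theorem map_conjTranspose' (A : Matrix κ μ F₀) : (A.map ι)ᴴ = Aᵀ.map ι := by
  rw [← cj_transpose, cj_map ι hι, Matrix.transpose_map]

theorem map_smul' (c : F₀) (A : Matrix κ μ F₀) : (c • A).map ι = ι c • A.map ι := by
  ext i j
  simp

include hι in
/-- A matrix proportional to its conjugate is proportional to a matrix over the subfield. -/
theorem exists_real {P : Matrix κ μ F} {k : F} (h : cj P = k • P) (hP : P ≠ 0) :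
    ∃ (s : Fˣ) (P₀ : Matrix κ μ F₀), P = (s : F) • P₀.map ι := by
  obtain ⟨i, j, hij⟩ : ∃ i j, P i j ≠ 0 := by
    by_contra! hh
    exact hP (by ext i j; exact hh i j)
  have e : ∀ a b, star (P a b) = k * P a b := fun a b => by
    rw [← cj_apply, h, Matrix.smul_apply, smul_eq_mul]
  have hk : k ≠ 0 := fun hk0 => hij (by simpa [hk0] using e i j)
  have hfix : ∀ a b, P a b / P i j ∈ Set.range ι := fun a b => (hι _).1 (by
    rw [star_div₀, e, e, mul_div_mul_left _ _ hk])
  choose P₀ hP₀ using hfix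
  refine ⟨Units.mk0 _ hij, Matrix.of P₀, ?_⟩
  ext a b
  rw [Matrix.smul_apply, Matrix.map_apply, Matrix.of_apply, hP₀, Units.val_mk0, smul_eq_mul,
    mul_div_cancel₀ _ hij]

include hι in
theorem Desc.model {B : Mn} {G : Matrix κ κ F₀} {G' : Matrix μ μ F₀} (h : Desc ι B G) (hm : Model G G') :
    Desc ι B G' := by
  obtain ⟨M, N, a, b, hMN, hNM, hB, hH⟩ := h
  obtain ⟨P, R, c, hPR, hRP, hc⟩ := hm
  refine ⟨M * P.map ι, R.map ι * N, a, b * Units.map (ι : F₀ →* F) c, ?_, ?_, ?_, ?_⟩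
  · rw [Matrix.mul_assoc, ← Matrix.mul_assoc (P.map ι), ← Matrix.map_mul, hPR, Matrix.map_one ι (map_zero ι)
      (map_one ι), Matrix.one_mul, hMN]
  · rw [Matrix.mul_assoc, ← Matrix.mul_assoc N, hNM, Matrix.one_mul, ← Matrix.map_mul, hRP,
      Matrix.map_one ι (map_zero ι) (map_one ι)]
  · rw [cj_mul, cj_map ι hι, ← Matrix.mul_assoc, hB, Matrix.smul_mul]
  · rw [Matrix.conjTranspose_mul, map_conjTranspose' ι hι, Matrix.mul_assoc, ← Matrix.mul_assoc Mᴴ, hH,
      Matrix.smul_mul, Matrix.mul_smul, ← Matrix.map_mul, ← Matrix.map_mul, ← Matrix.mul_assoc, hc, map_smul',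
      smul_smul, Units.val_mul]
    rfl

theorem Desc.isUnit {B : Mn} {G : Matrix κ κ F₀} (h : Desc ι B G) : IsUnit G.det := by
  obtain ⟨M, N, a, b, hMN, hNM, -, hH⟩ := h
  have e : (N * Nᴴ) * ((b : F) • G.map ι) = 1 := by
    rw [← hH, Matrix.mul_assoc, ← Matrix.mul_assoc Nᴴ, ← Matrix.conjTranspose_mul, hMN,
      Matrix.conjTranspose_one, Matrix.one_mul, hNM]
  refine isUnit_iff_ne_zero.2 fun h0 => ?_
  have e' := congrArg Matrix.det e
  rw [Matrix.det_mul _ ((b : F) • G.map ι), Matrix.det_smul, show (G.map ι).det = ι G.det from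
    (RingHom.map_det ι G).symm, h0, map_zero, mul_zero, mul_zero, Matrix.det_one] at e'
  exact zero_ne_one e'

include hι in
theorem Desc.transpose [Nonempty κ] {B : Mn} {G : Matrix κ κ F₀} (h : Desc ι B G) {ε : F₀}
    (hB : Bᵀ = ι ε • B) : Gᵀ = ε • G := by
  have hu := h.isUnit
  obtain ⟨M, N, a, b, hMN, hNM, hBM, hH⟩ := h
  have e1 : (a : F) • Mᵀ = ι ε • (Mᴴ * B) := by
    rw [← Matrix.transpose_smul, ← hBM, Matrix.transpose_mul, cj_transpose, hB, Matrix.mul_smul]
  have e2 : (a : F) • cj (Mᴴ * M) = (a : F) • (ι ε • (Mᴴ * M)) := by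
    rw [cj_mul, cj_conjTranspose, ← Matrix.smul_mul, e1, Matrix.smul_mul, Matrix.mul_assoc, hBM, Matrix.mul_smul,
      smul_comm]
  have e3 := (IsUnit.smul_left_cancel a.isUnit).1 e2
  rw [hH, cj_smul, cj_map ι hι, smul_smul] at e3
  have hG : G.map ι ≠ 0 := fun h0 => hu.ne_zero (ι.injective (by
    rw [RingHom.map_det ι G, map_zero, show ι.mapMatrix G = 0 from h0, Matrix.det_zero]))
  have e4 : star (b : F) = ι ε * b := smul_left_injective F hG e3
  have e5 : (Mᴴ * M)ᴴ = Mᴴ * M := by rw [Matrix.conjTranspose_mul, Matrix.conjTranspose_conjTranspose]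
  rw [hH, Matrix.conjTranspose_smul, map_conjTranspose' ι hι, e4] at e5
  have hε : ε * ε = 1 := ι.injective (by
    rw [map_mul, map_one]
    have e6 : star (star (b : F)) = b := star_star _
    rw [e4, star_mul', (hι _).2 ⟨_, rfl⟩, e4, ← mul_assoc] at e6
    exact mul_right_cancel₀ b.ne_zero (by rw [one_mul]; exact e6))
  have e7 : (b : F) • (ε • Gᵀ).map ι = (b : F) • G.map ι := by
    rw [map_smul', smul_smul, mul_comm, e5]
  have e8 := Matrix.map_injective ι.injective ((IsUnit.smul_left_cancel b.isUnit).1 e7)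
  rw [← one_smul F₀ Gᵀ, ← hε, ← smul_smul, e8]

include hι in
theorem Desc.unique {B : Mn} {G : Matrix κ κ F₀} {G' : Matrix μ μ F₀} (h : Desc ι B G) (h' : Desc ι B G') :
    Model G G' := by
  have hu' := h'.isUnit
  obtain ⟨M, N, a, b, hMN, hNM, hBM, hH⟩ := h
  obtain ⟨M', N', a', b', hMN', hNM', hBM', hH'⟩ := h'
  rcases isEmpty_or_nonempty μ with hμ | hμ
  · haveI : IsEmpty κ := by
      refine ⟨fun k => ?_⟩
      have e := congrFun (congrFun hNM k) k
      have hn0 : ∀ i : Fin n, False := fun i => by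
        have e := congrFun (congrFun hMN' i) i
        simp [Matrix.mul_apply] at e
      rw [Matrix.mul_apply, Finset.sum_eq_zero (fun i _ => (hn0 i).elim), Matrix.one_apply_eq] at e
      exact zero_ne_one e
    exact ⟨0, 0, 1, Matrix.ext fun i => isEmptyElim i, Matrix.ext fun i => isEmptyElim i,
      Matrix.ext fun i => isEmptyElim i⟩
  obtain ⟨P, hP⟩ : ∃ P, P = N * M' := ⟨_, rfl⟩
  have hMP : M * P = M' := by rw [hP, ← Matrix.mul_assoc, hMN, Matrix.one_mul]
  have e1 : (a : F) • (M * cj P) = (a' : F) • (M * P) := by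
    rw [← Matrix.smul_mul, ← hBM, Matrix.mul_assoc, ← cj_mul, hMP, hBM']
  have e2 : cj P = ((a⁻¹ : Fˣ) * a' : F) • P := by
    have e := congrArg (fun X => ((a⁻¹ : Fˣ) : F) • (N * X)) e1
    simp only [Matrix.mul_smul, ← Matrix.mul_assoc, hNM, Matrix.one_mul, smul_smul, Units.inv_mul, one_smul] at e
    exact e
  have hP0 : P ≠ 0 := fun h0 => by
    rw [h0, Matrix.mul_zero] at hMP
    obtain ⟨k⟩ := hμ
    have e := congrFun (congrFun hNM' k) k
    rw [← hMP, Matrix.mul_zero, Matrix.zero_apply, Matrix.one_apply_eq] at e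
    exact zero_ne_one e
  obtain ⟨s, P₀, hs⟩ := exists_real ι hι e2 hP0
  have e3 : (b' : F) • G'.map ι = (star (s : F) * s * b) • (P₀ᵀ * G * P₀).map ι := by
    rw [← hH', ← hMP, Matrix.conjTranspose_mul, Matrix.mul_assoc, ← Matrix.mul_assoc Mᴴ, hH, hs,
      Matrix.conjTranspose_smul, map_conjTranspose' ι hι, Matrix.map_mul, Matrix.map_mul]
    simp only [Matrix.smul_mul, Matrix.mul_smul, smul_smul, Matrix.mul_assoc]
    congr 1
    ring
  obtain ⟨i, j, hij⟩ : ∃ i j, G' i j ≠ 0 := by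
    by_contra! hh
    exact hu'.ne_zero (by rw [show G' = 0 by ext i j; exact hh i j, Matrix.det_zero])
  have e4 := congrFun (congrFun e3 i) j
  simp only [Matrix.smul_apply, Matrix.map_apply, smul_eq_mul] at e4
  have hne : (P₀ᵀ * G * P₀) i j ≠ 0 := fun h0 => by
    rw [h0, map_zero, mul_zero] at e4
    exact mul_ne_zero b'.ne_zero (fun h => hij (ι.injective (by rw [h, map_zero]))) e4
  refine model_of_gram P₀ (div_ne_zero hne hij) ?_ hu' ?_
  · ext k l
    rw [Matrix.smul_apply, smul_eq_mul, div_mul_eq_mul_div, eq_div_iff hij]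
    have e5 := congrFun (congrFun e3 k) l
    simp only [Matrix.smul_apply, Matrix.map_apply, smul_eq_mul] at e5
    refine ι.injective ?_
    rw [map_mul, map_mul]
    refine mul_left_cancel₀ b'.ne_zero ?_
    linear_combination (ι ((P₀ᵀ * G * P₀) k l)) * e4 - (ι ((P₀ᵀ * G * P₀) i j)) * e5
  · have h1 := Matrix.rank_one (R := F) (n := κ)
    have hc : ∀ {α β : Type} [Fintype α] [DecidableEq α] [Fintype β] [DecidableEq β] (X : Matrix α β F)
        (Y : Matrix β α F), X * Y = 1 → Fintype.card α ≤ Fintype.card β := fun {α β} _ _ _ _ X Y e => by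
      rw [← Matrix.rank_one (R := F) (n := α), ← e]
      exact (Matrix.rank_mul_le_left X Y).trans (Matrix.rank_le_card_width X)
    exact le_antisymm ((hc N M hNM).trans (hc M' N' hMN')) ((hc N' M' hNM').trans (hc M N hMN))

include hstar in
theorem Desc.of_conj (h B : Un) {c : F} (hc : c ≠ 0) {B' : Mn} (e : B' = c • (h.1.val * B.1.val * h.1.valᵀ))
    {G : Matrix κ κ F₀} (hd : Desc ι B.1.val G) : Desc ι B' G := by
  obtain ⟨M, N, a, b, hMN, hNM, hB, hH⟩ := hd
  refine ⟨h.1.val * M, N * (h.1⁻¹).val, Units.mk0 c hc * a, b, ?_, ?_, ?_, ?_⟩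
  · rw [Matrix.mul_assoc, ← Matrix.mul_assoc M, hMN, Matrix.one_mul, Units.mul_inv]
  · rw [Matrix.mul_assoc, ← Matrix.mul_assoc (h.1⁻¹).val, Units.inv_mul, Matrix.one_mul, hNM]
  · rw [e, cj_mul, cj_eq_invT hstar, Matrix.smul_mul, Matrix.mul_assoc (h.1.val * B.1.val),
      ← Matrix.mul_assoc h.1.valᵀ, ← Matrix.transpose_mul, Units.inv_mul, Matrix.transpose_one, Matrix.one_mul,
      Matrix.mul_assoc h.1.val, hB, Matrix.mul_smul, smul_smul, Units.val_mul, Units.val_mk0]
  · rw [Matrix.conjTranspose_mul, Matrix.mul_assoc, ← Matrix.mul_assoc h.1.valᴴ,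
      (mem_GU_iff_star hstar _).1 h.2, Matrix.one_mul, hH]

include hstar hF in
theorem exists_unitary (hι : ∀ y : F, star y = y ↔ y ∈ Set.range ι) {X : Mn} {β : F} (hβ0 : β ≠ 0)
    (hβ : star β = β) (hX : Xᴴ * X = β • (1 : Mn)) : ∃ (h : Un) (t : Fˣ), h.1.val = (t : F) • X := by
  obtain ⟨t, ht0, ht⟩ := Hermitian.exists_norm hstar hF (a := β⁻¹) (inv_ne_zero hβ0)
    (by rw [star_inv₀, hβ])
  have hu : (t • X)ᴴ * (t • X) = 1 := by
    rw [Matrix.conjTranspose_smul, Matrix.smul_mul, Matrix.mul_smul, smul_smul, hX, smul_smul, ht,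
      inv_mul_cancel₀ hβ0, one_smul]
  let gl : GL (Fin n) F := ⟨t • X, (t • X)ᴴ, mul_eq_one_comm.mp hu, hu⟩
  exact ⟨⟨gl, (mem_GU_iff_star hstar gl).2 hu⟩, Units.mk0 t ht0, rfl⟩

include hstar hF hι in
theorem conj_of_desc (hn : 3 ≤ n) {B B' : Un} {G : Matrix κ κ F₀} (h : Desc ι B.1.val G)
    (h' : Desc ι B'.1.val G) : Cfsg.IsConjUnder (Cfsg.inndiagPSU n F q) (gr B) (gr B') := by
  have hu := h.isUnit
  obtain ⟨M, N, a, b, hMN, hNM, hB, hH⟩ := h
  obtain ⟨M', N', a', b', hMN', hNM', hB', hH'⟩ := h'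
  haveI : Nonempty κ := by
    by_contra h0
    rw [not_nonempty_iff] at h0
    have e := congrFun (congrFun hMN ⟨0, by omega⟩) ⟨0, by omega⟩
    simp [Matrix.mul_apply] at e
  have hG : G.map ι ≠ 0 := fun h0 => hu.ne_zero (ι.injective (by
    rw [RingHom.map_det ι G, map_zero, show ι.mapMatrix G = 0 from h0, Matrix.det_zero]))
  obtain ⟨i, j, hij⟩ : ∃ i j, G.map ι i j ≠ 0 := by
    by_contra! hh
    exact hG (by ext i j; exact hh i j)
  have hherm : ∀ (L : Matrix (Fin n) κ F) (d : Fˣ), Lᴴ * L = (d : F) • G.map ι →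
      star (d : F) • (G.map ι)ᴴ = (d : F) • G.map ι := fun L d e => by
    rw [← Matrix.conjTranspose_smul, ← e, Matrix.conjTranspose_mul, Matrix.conjTranspose_conjTranspose]
  have e1 := congrFun (congrFun (hherm M b hH) i) j
  have e2 := congrFun (congrFun (hherm M' b' hH') i) j
  simp only [Matrix.smul_apply, smul_eq_mul] at e1 e2
  have hreal : star ((b' : F) / b) = b' / b := by
    rw [star_div₀, div_eq_div_iff (star_ne_zero.2 b.ne_zero) b.ne_zero]
    refine mul_right_cancel₀ hij ?_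
    linear_combination star (b' : F) * (-e1) + star (b : F) * e2
  have hX : (M' * N)ᴴ * (M' * N) = ((b' : F) / b) • (1 : Mn) := by
    rw [Matrix.conjTranspose_mul, Matrix.mul_assoc, ← Matrix.mul_assoc M'ᴴ, hH',
      show (b' : F) • G.map ι = ((b' : F) / b) • (Mᴴ * M) by rw [hH, smul_smul, div_mul_cancel₀ _ b.ne_zero],
      Matrix.smul_mul, Matrix.mul_smul, Matrix.mul_assoc Mᴴ, hMN, Matrix.mul_one, ← Matrix.conjTranspose_mul,
      hMN, Matrix.conjTranspose_one]
  obtain ⟨h, t, ht⟩ := exists_unitary hstar hF ι hι (div_ne_zero b'.ne_zero b.ne_zero) hreal hX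
  refine ⟨cU h, by rw [inndiag_eq]; exact ⟨h, rfl⟩, ?_⟩
  rw [conj_gr, gr_eq_iff hstar hF hn]
  have hs : star (t : F) ≠ 0 := star_ne_zero.2 t.ne_zero
  -- `h B` is proportional to `B' (cj h)`
  have key : (star (t : F) * a') • (h.1.val * B.1.val) = ((t : F) * a) • (B'.1.val * cj h.1.val) := by
    rw [ht, cj_smul, cj_mul, Matrix.mul_smul, ← Matrix.mul_assoc B'.1.val, hB', Matrix.smul_mul, Matrix.smul_mul,
      smul_smul, smul_smul, smul_smul]
    have hNB : N * B.1.val = (a : F) • cj N := by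
      calc N * B.1.val = N * (B.1.val * (cj M * cj N)) := by rw [← cj_mul, hMN, cj_one, Matrix.mul_one]
        _ = _ := by rw [← Matrix.mul_assoc B.1.val, hB, Matrix.smul_mul, Matrix.mul_smul, ← Matrix.mul_assoc,
              hNM, Matrix.one_mul]
    rw [Matrix.mul_assoc M', hNB, Matrix.mul_smul, smul_smul]
    congr 1
    ring
  refine ⟨Units.mk0 ((star (t : F) * a') / ((t : F) * a))
    (div_ne_zero (mul_ne_zero hs a'.ne_zero) (mul_ne_zero t.ne_zero a.ne_zero)), ?_⟩
  rw [conj_gr_val hstar, Units.val_mk0, div_eq_inv_mul, ← smul_smul, ← Matrix.smul_mul, key, Matrix.smul_mul,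
    smul_smul, inv_mul_cancel₀ (mul_ne_zero t.ne_zero a.ne_zero), one_smul, cj_eq_invT hstar, Matrix.mul_assoc,
    ← Matrix.transpose_mul, Units.mul_inv, Matrix.transpose_one, Matrix.mul_one]

include hstar hF hι in
theorem conjUnder_iff (hn : 3 ≤ n) {B B' : Un} {G : Matrix κ κ F₀} {G' : Matrix μ μ F₀}
    (h : Desc ι B.1.val G) (h' : Desc ι B'.1.val G') :
    Cfsg.IsConjUnder (Cfsg.inndiagPSU n F q) (gr B) (gr B') ↔ Model G G' := by
  constructor
  · rintro ⟨x, hx, e⟩
    rw [inndiag_eq] at hx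
    obtain ⟨g, rfl⟩ := hx
    rw [conj_gr, gr_eq_iff hstar hF hn] at e
    obtain ⟨c, hc⟩ := e
    rw [conj_gr_val hstar] at hc
    exact (Desc.of_conj hstar ι g B c.ne_zero hc h).unique ι hι h'
  · exact fun hm => conj_of_desc hstar hF ι hι hn (h.model ι hι hm) h'

include hstar hF hι in
theorem exists_desc (hn : 3 ≤ n) (B : Un) (hB : B.1.valᵀ = B.1.val ∨ B.1.valᵀ = -B.1.val) :
    ∃ G : Matrix (Fin n) (Fin n) F₀, Desc ι B.1.val G := by
  classical
  haveI : Nonempty (Fin n) := ⟨⟨0, by omega⟩⟩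
  obtain ⟨ε, hε1, hεs, hε⟩ : ∃ ε : F, ε * ε = 1 ∧ star ε = ε ∧ B.1.valᵀ = ε • B.1.val := by
    rcases hB with h | h
    · exact ⟨1, one_mul 1, star_one F, by rw [one_smul]; exact h⟩
    · exact ⟨-1, by ring, by rw [star_neg, star_one], by rw [neg_one_smul]; exact h⟩
  have hε0 : ε ≠ 0 := fun h => by rw [h, zero_mul] at hε1; exact zero_ne_one hε1
  obtain ⟨t, ht0, ht⟩ := Hermitian.exists_norm hstar hF hε0 hεs
  obtain ⟨C, hC⟩ : ∃ C, C = t • B.1.val := ⟨_, rfl⟩
  have hinv : (B.1⁻¹).valᵀ = ε • (B.1⁻¹).val := by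
    have e : (B.1⁻¹).valᵀ * B.1.valᵀ = 1 := by rw [← Matrix.transpose_mul, Units.mul_inv, Matrix.transpose_one]
    rw [hε, Matrix.mul_smul] at e
    have e' := congrArg (fun X => ε • (X * (B.1⁻¹).val)) e
    simp only [Matrix.smul_mul, Matrix.one_mul, Matrix.mul_assoc, Units.mul_inv, Matrix.mul_one, smul_smul,
      hε1, one_smul] at e'
    exact e'
  have hord : orderOf (stR F) = 2 := orderOf_eq_prime (by rw [pow_two, stR_sq]) fun h => by
    obtain ⟨b, hb⟩ := Hermitian.exists_star_ne hstar hF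
    exact hb (DFunLike.congr_fun h b)
  have htw : PSLn.tw (stR F) C (orderOf (stR F)) = 1 := by
    rw [hord]
    show C * (C * (1 : Mn).map (stR F)).map (stR F) = 1
    rw [PSLn.map_one', Matrix.mul_one]
    show C * cj C = 1
    rw [hC, cj_smul, cj_eq_invT hstar, hinv, Matrix.smul_mul, Matrix.mul_smul, Matrix.mul_smul, Units.mul_inv,
      smul_smul, smul_smul, show t * star t * ε = (star t * t) * ε by ring, ht, hε1, one_smul]
  obtain ⟨W, hW⟩ := PSLn.exists_descent_cyclic (stR F) C htw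
  have hW' : C * cj W.val = W.val := hW
  obtain ⟨a, ha⟩ : ∃ a : Fˣ, (a : F) = t⁻¹ := ⟨Units.mk0 _ (inv_ne_zero ht0), rfl⟩
  have hBW : B.1.val * cj W.val = (a : F) • W.val := by
    conv_rhs => rw [← hW', hC, Matrix.smul_mul, smul_smul, ha, inv_mul_cancel₀ ht0, one_smul]
  have e1 : (a : F) • W.valᵀ = ε • (W.valᴴ * B.1.val) := by
    rw [← Matrix.transpose_smul, ← hBW, Matrix.transpose_mul, cj_transpose, hε, Matrix.mul_smul]
  have e2 : (a : F) • cj (W.valᴴ * W.val) = (a : F) • (ε • (W.valᴴ * W.val)) := by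
    rw [cj_mul, cj_conjTranspose, ← Matrix.smul_mul, e1, Matrix.smul_mul, Matrix.mul_assoc, hBW, Matrix.mul_smul,
      smul_comm]
  have e3 := (IsUnit.smul_left_cancel a.isUnit).1 e2
  have hne : W.valᴴ * W.val ≠ 0 := fun h0 => by
    have : W.valᴴ = 0 := by
      have e := congrArg (· * (W⁻¹).val) h0
      simpa [Matrix.mul_assoc] using e
    exact W.ne_zero (Matrix.conjTranspose_eq_zero.1 this)
  obtain ⟨s, G, hs⟩ := exists_real ι hι e3 hne
  exact ⟨G, W.val, (W⁻¹).val, a, s, Units.mul_inv W, Units.inv_mul W, hBW, hs⟩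

include hstar hF hι in
theorem exists_B (hn : 3 ≤ n) {G : Matrix κ κ F₀} (hu : IsUnit G.det) (hc : Fintype.card κ = n)
    (hG : Gᵀ = G ∨ Gᵀ = -G) : ∃ B : Un, orderOf (gr B) = 2 ∧ Desc ι B.1.val G := by
  classical
  obtain ⟨ε, hε1, hεs, hε⟩ : ∃ ε : F, ε * ε = 1 ∧ star ε = ε ∧ (Gᵀ).map ι = ε • G.map ι := by
    rcases hG with h | h
    · exact ⟨1, one_mul 1, star_one F, by rw [h, one_smul]⟩
    · exact ⟨-1, by ring, by rw [star_neg, star_one], by
        rw [h, neg_one_smul]; ext i j; simp⟩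
  obtain ⟨b, hb0, hb⟩ : ∃ b : F, b ≠ 0 ∧ star b = ε * b := by
    obtain ⟨x, hx⟩ := Hermitian.exists_star_ne hstar hF
    rcases mul_self_eq_one_iff.1 hε1 with rfl | rfl
    · exact ⟨1, one_ne_zero, by rw [star_one, mul_one]⟩
    · exact ⟨x - star x, sub_ne_zero.2 (Ne.symm hx), by rw [star_sub, star_star]; ring⟩
  obtain ⟨e⟩ : Nonempty (Fin n ≃ κ) := Fintype.card_eq.1 (by rw [Fintype.card_fin, hc])
  obtain ⟨H, hH⟩ : ∃ H, H = (b • G.map ι).submatrix e e := ⟨_, rfl⟩
  have hHh : Hᴴ = H := by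
    rw [hH, Matrix.conjTranspose_submatrix, Matrix.conjTranspose_smul, map_conjTranspose' ι hι, hε, hb, smul_smul,
      show ε * b * ε = (ε * ε) * b by ring, hε1, one_mul]
  have hHu : IsUnit H := by
    rw [Matrix.isUnit_iff_isUnit_det, hH, Matrix.det_submatrix_equiv_self, Matrix.det_smul,
      show (G.map ι).det = ι G.det from (RingHom.map_det ι G).symm]
    exact ((isUnit_iff_ne_zero.2 hb0).pow _).mul (hu.map ι)
  obtain ⟨P, ⟨P, rfl⟩, hP⟩ := Hermitian.exists_congr_one hstar hF n H hHh hHu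
  have hPH : (P⁻¹).valᴴ * (P⁻¹).val = H := by
    calc (P⁻¹).valᴴ * (P⁻¹).val = (P⁻¹).valᴴ * (P.valᴴ * H * P.val) * (P⁻¹).val := by rw [hP, Matrix.mul_one]
      _ = (P.val * (P⁻¹).val)ᴴ * H * (P.val * (P⁻¹).val) := by
          simp only [Matrix.conjTranspose_mul, Matrix.mul_assoc]
      _ = H := by rw [Units.mul_inv, Matrix.conjTranspose_one, Matrix.one_mul, Matrix.mul_one]
  obtain ⟨M, hM⟩ : ∃ M, M = (P⁻¹).val.submatrix id e.symm := ⟨_, rfl⟩
  obtain ⟨N, hN⟩ : ∃ N, N = P.val.submatrix e.symm id := ⟨_, rfl⟩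
  have hMN : M * N = 1 := by
    rw [hM, hN, Matrix.submatrix_mul_equiv, Units.inv_mul, Matrix.submatrix_id_id]
  have hNM : N * M = 1 := by
    rw [hM, hN, ← Matrix.submatrix_mul _ _ _ _ _ Function.bijective_id, Units.mul_inv,
      Matrix.submatrix_one_equiv]
  have hMM : Mᴴ * M = b • G.map ι := by
    rw [hM, Matrix.conjTranspose_submatrix, ← Matrix.submatrix_mul _ _ _ _ _ Function.bijective_id, hPH, hH,
      Matrix.submatrix_submatrix, Equiv.self_comp_symm, Matrix.submatrix_id_id]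
  obtain ⟨a, ha0, ha⟩ := Hermitian.exists_norm hstar hF
    (show ε ≠ 0 from fun h => by rw [h, zero_mul] at hε1; exact zero_ne_one hε1) hεs
  obtain ⟨X, hX⟩ : ∃ X, X = a • (M * cj N) := ⟨_, rfl⟩
  have hTM : cj (Mᴴ * M) = (ε * b) • G.map ι := by rw [hMM, cj_smul, cj_map ι hι, hb]
  have hXu : Xᴴ * X = 1 := by
    have h1 : Mᴴ * M = ε • (Mᵀ * cj M) := by
      rw [← cj_conjTranspose, ← cj_mul, hTM, smul_smul, ← mul_assoc, hε1, one_mul, hMM]
    rw [hX, Matrix.conjTranspose_smul, Matrix.smul_mul, Matrix.mul_smul, smul_smul, ha,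
      Matrix.conjTranspose_mul, Matrix.mul_assoc, ← Matrix.mul_assoc Mᴴ, h1, ← cj_transpose (cj N), cj_cj,
      Matrix.smul_mul, Matrix.mul_smul, smul_smul, hε1, one_smul, Matrix.mul_assoc Mᵀ, ← cj_mul, hMN, cj_one,
      Matrix.mul_one, ← Matrix.transpose_mul, hMN, Matrix.transpose_one]
  let gl : GL (Fin n) F := ⟨X, Xᴴ, mul_eq_one_comm.mp hXu, hXu⟩
  obtain ⟨B, hB⟩ : ∃ B : Un, B.1.val = X := ⟨⟨gl, (mem_GU_iff_star hstar gl).2 hXu⟩, rfl⟩
  have hBM : B.1.val * cj M = a • M := by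
    rw [hB, hX, Matrix.smul_mul, Matrix.mul_assoc, ← cj_mul, hNM, cj_one, Matrix.mul_one]
  refine ⟨B, (gr_order_iff hstar hF hn B).2 ?_, M, N, Units.mk0 a ha0, Units.mk0 b hb0, hMN, hNM, hBM, hMM⟩
  have e : B.1.val * (B.1⁻¹).valᵀ = ε • (1 : Mn) := by
    rw [← cj_eq_invT hstar, hB, hX, cj_smul, cj_mul, cj_cj, Matrix.smul_mul, Matrix.mul_smul, smul_smul,
      Matrix.mul_assoc M, ← Matrix.mul_assoc (cj N), ← cj_mul, hNM, cj_one, Matrix.one_mul, hMN,
      mul_comm a, ha]
  have h1 : B.1.val = ε • B.1.valᵀ := by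
    have e' := congrArg (· * B.1.valᵀ) e
    simp only [Matrix.smul_mul, Matrix.one_mul, Matrix.mul_assoc, ← Matrix.transpose_mul, Units.mul_inv,
      Matrix.transpose_one, Matrix.mul_one] at e'
    exact e'
  rcases mul_self_eq_one_iff.1 hε1 with rfl | rfl
  · exact .inl (by rw [one_smul] at h1; exact h1.symm)
  · refine .inr ?_
    rw [neg_one_smul] at h1
    exact neg_eq_iff_eq_neg.1 h1.symm

end Cfsg.Agent.Small.PSUn
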