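import Cfsg.Agent.Lib.Small.PSUn.Graph

/-!
# Centralisers of involutory graph automorphisms of `PSU_n(q)` in the inner-diagonal group
-/

set_option autoImplicit false
set_option linter.unusedSectionVars false

namespace Cfsg.Agent.Small.PSUn

open Matrix Cfsg.Agent.Small Cfsg.Agent.Small.Gram

variable {F : Type*} [Field F] [Fintype F] [StarRing F] {n q : ℕ}

local notation "Pn" => Cfsg.PSU n F q
local notation "Un" => Cfsg.GU n F q
local notation "Mn" => Matrix (Fin n) (Fin n) F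

variable (hstar : ∀ x : F, star x = x ^ q) (hF : Fintype.card F = q ^ 2) (hn : 3 ≤ n)
  {F₀ : Type*} [Field F₀] (ι : F₀ →+* F) (hι : ∀ y : F, star y = y ↔ y ∈ Set.range ι)
  {κ : Type} [Fintype κ] [DecidableEq κ]

include hstar hF hn in
theorem mem_cent_iff (B h : Un) :
    h ∈ (Subgroup.centralizer {gr B}).comap cU ↔
      ∃ c : Fˣ, h.1.val * B.1.val = (c : F) • (B.1.val * cj h.1.val) := by
  rw [Subgroup.mem_comap, Subgroup.mem_centralizer_singleton_iff, ← mul_inv_eq_iff_eq_mul, conj_gr,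
    gr_eq_iff hstar hF hn]
  refine exists_congr fun c => ?_
  rw [conj_gr_val hstar, cj_eq_invT hstar]
  constructor
  · intro e
    have e' := congrArg (· * (h.1⁻¹).valᵀ) e
    simp only [Matrix.smul_mul, Matrix.mul_assoc, ← Matrix.transpose_mul, Units.inv_mul, Matrix.transpose_one,
      Matrix.mul_one] at e'
    exact e'
  · intro e
    rw [e, Matrix.smul_mul, Matrix.mul_assoc, ← Matrix.transpose_mul, Units.mul_inv, Matrix.transpose_one,
      Matrix.mul_one]

/-- The relation between a unitary matrix and a similitude over the subfield. -/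
def Lifts (M : Matrix (Fin n) κ F) (N : Matrix κ (Fin n) F) (g : GL κ F₀) (h : Un) (s : Fˣ) : Prop :=
  h.1.val = (s : F) • (M * g.val.map ι * N)

theorem map_gl_det (g : GL κ F₀) :
    (g.val.map ι).det = ι (Matrix.GeneralLinearGroup.det g : F₀) := by
  rw [Matrix.GeneralLinearGroup.val_det_apply]
  exact (RingHom.map_det ι g.val).symm

variable {B : Cfsg.GU n F q} {G : Matrix κ κ F₀} {M : Matrix (Fin n) κ F} {N : Matrix κ (Fin n) F} {a b : Fˣ}
  (hMN : M * N = 1) (hNM : N * M = 1) (hB : B.1.val * cj M = (a : F) • M)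
  (hH : Mᴴ * M = (b : F) • G.map ι) (hG : IsUnit G.det)

include hstar hF hn hι hMN hH in
theorem exists_lift (g : GL κ F₀) (c : F₀ˣ) (hg : g.valᵀ * G * g.val = (c : F₀) • G) :
    ∃ (h : Un) (s : Fˣ), Lifts ι M N g h s ∧ star (s : F) * s * ι c = 1 := by
  have hβ0 : ι (c : F₀) ≠ 0 := fun h => c.ne_zero (ι.injective (by rw [h, map_zero]))
  have hβ : star (ι (c : F₀)) = ι c := (hι _).2 ⟨_, rfl⟩
  have hX : (M * g.val.map ι * N)ᴴ * (M * g.val.map ι * N) = ι (c : F₀) • (1 : Mn) := by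
    calc (M * g.val.map ι * N)ᴴ * (M * g.val.map ι * N)
        = Nᴴ * ((g.val.map ι)ᴴ * (Mᴴ * M) * g.val.map ι) * N := by
          simp only [Matrix.conjTranspose_mul, Matrix.mul_assoc]
      _ = ι (c : F₀) • (Nᴴ * (Mᴴ * M) * N) := by
          rw [hH, map_conjTranspose' ι hι, Matrix.mul_smul, Matrix.smul_mul, ← Matrix.map_mul,
            ← Matrix.map_mul, hg, map_smul', smul_smul, mul_comm, ← smul_smul]
          simp only [Matrix.mul_smul, Matrix.smul_mul]
      _ = ι (c : F₀) • ((M * N)ᴴ * (M * N)) := by simp only [Matrix.conjTranspose_mul, Matrix.mul_assoc]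
      _ = _ := by rw [hMN, Matrix.conjTranspose_one, Matrix.one_mul]
  obtain ⟨h, t, ht⟩ := exists_unitary hstar hF ι hι hβ0 hβ hX
  refine ⟨h, t, ht, ?_⟩
  have e := (mem_GU_iff_star hstar _).1 h.2
  rw [ht, Matrix.conjTranspose_smul, Matrix.smul_mul, Matrix.mul_smul, smul_smul, hX, smul_smul] at e
  simpa using congrFun (congrFun e (⟨0, by omega⟩ : Fin n)) (⟨0, by omega⟩ : Fin n)

include hstar hF hι hn hMN hNM hB in
theorem lift_mem {g : GL κ F₀} {h : Un} {s : Fˣ} (hl : Lifts ι M N g h s) :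
    h ∈ (Subgroup.centralizer {gr B}).comap cU := by
  rw [mem_cent_iff hstar hF hn]
  have hs : star (s : F) ≠ 0 := star_ne_zero.2 s.ne_zero
  refine ⟨Units.mk0 ((s : F) / star (s : F)) (div_ne_zero s.ne_zero hs), ?_⟩
  have hNB : N * B.1.val = (a : F) • cj N := by
    calc N * B.1.val = N * (B.1.val * (cj M * cj N)) := by rw [← cj_mul, hMN, cj_one, Matrix.mul_one]
      _ = _ := by rw [← Matrix.mul_assoc B.1.val, hB, Matrix.smul_mul, Matrix.mul_smul, ← Matrix.mul_assoc,
            hNM, Matrix.one_mul]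
  rw [hl, cj_smul, cj_mul, cj_mul, cj_map ι hι, Matrix.mul_smul, ← Matrix.mul_assoc, ← Matrix.mul_assoc, hB,
    Matrix.smul_mul, Matrix.smul_mul, Matrix.smul_mul, Units.val_mk0, smul_smul, smul_smul,
    Matrix.mul_assoc (M * _) N, hNB, Matrix.mul_smul, smul_smul, div_mul_cancel₀ _ hs]

include hstar hF hι hn hMN hNM hB hH hG in
theorem exists_descend {h : Un} (hh : h ∈ (Subgroup.centralizer {gr B}).comap cU) :
    ∃ (g : GL κ F₀) (c : F₀ˣ) (s : Fˣ), g.valᵀ * G * g.val = (c : F₀) • G ∧ Lifts ι M N g h s ∧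
      star (s : F) * s * ι c = 1 := by
  haveI : Nonempty κ := by
    by_contra h0
    rw [not_nonempty_iff] at h0
    have e := congrFun (congrFun hMN ⟨0, by omega⟩) ⟨0, by omega⟩
    simp [Matrix.mul_apply] at e
  haveI : Nonempty (Fin n) := ⟨⟨0, by omega⟩⟩
  obtain ⟨c, hc⟩ := (mem_cent_iff hstar hF hn B h).1 hh
  obtain ⟨P, hP⟩ : ∃ P, P = N * h.1.val * M := ⟨_, rfl⟩
  have hMP : M * P = h.1.val * M := by
    rw [hP, ← Matrix.mul_assoc, ← Matrix.mul_assoc, hMN, Matrix.one_mul]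
  have hhP : h.1.val = M * P * N := by rw [hMP, Matrix.mul_assoc, hMN, Matrix.mul_one]
  have e1 : (a : F) • (M * P) = (c : F) • ((a : F) • (M * cj P)) := by
    rw [hMP, ← Matrix.mul_smul, ← hB, ← Matrix.mul_assoc, hc, Matrix.smul_mul, Matrix.mul_assoc, ← cj_mul, ← hMP,
      cj_mul, ← Matrix.mul_assoc, hB, Matrix.smul_mul]
  have e2 : cj P = ((c⁻¹ : Fˣ) : F) • P := by
    rw [smul_comm] at e1
    have e3 := (IsUnit.smul_left_cancel a.isUnit).1 e1
    have e := congrArg (fun X => ((c⁻¹ : Fˣ) : F) • (N * X)) e3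
    simp only [Matrix.mul_smul, ← Matrix.mul_assoc, hNM, Matrix.one_mul, smul_smul, Units.inv_mul, one_smul] at e
    exact e.symm
  have hP0 : P ≠ 0 := fun h0 => h.1.ne_zero (by rw [hhP, h0, Matrix.mul_zero, Matrix.zero_mul])
  obtain ⟨s, P₀, hs⟩ := exists_real ι hι e2 hP0
  have e4 : (star (s : F) * s) • ((b : F) • (P₀ᵀ * G * P₀).map ι) = (b : F) • G.map ι := by
    rw [← hH, show (b : F) • (P₀ᵀ * G * P₀).map ι = (P₀.map ι)ᴴ * ((b : F) • G.map ι) * P₀.map ι by
      rw [map_conjTranspose' ι hι, Matrix.mul_smul, Matrix.smul_mul, Matrix.map_mul, Matrix.map_mul], ← hH]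
    calc (star (s : F) * s) • ((P₀.map ι)ᴴ * (Mᴴ * M) * P₀.map ι)
        = (M * P)ᴴ * (M * P) := by
          rw [hs]
          simp only [Matrix.conjTranspose_mul, Matrix.conjTranspose_smul, Matrix.mul_smul, Matrix.smul_mul,
            smul_smul, Matrix.mul_assoc, mul_comm (s : F) (star (s : F))]
      _ = _ := by
          rw [hMP, Matrix.conjTranspose_mul, Matrix.mul_assoc, ← Matrix.mul_assoc h.1.valᴴ,
            (mem_GU_iff_star hstar _).1 h.2, Matrix.one_mul]
  rw [smul_comm] at e4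
  have e5 := (IsUnit.smul_left_cancel b.isUnit).1 e4
  have hN0 : star (s : F) * s ≠ 0 := mul_ne_zero (star_ne_zero.2 s.ne_zero) s.ne_zero
  obtain ⟨ν, hν⟩ : (star (s : F) * s)⁻¹ ∈ Set.range ι :=
    (hι _).1 (by rw [star_inv₀, star_mul', star_star, mul_comm])
  have hν0 : ν ≠ 0 := fun h0 => by rw [h0, map_zero] at hν; exact inv_ne_zero hN0 hν.symm
  have e6 : P₀ᵀ * G * P₀ = ν • G := Matrix.map_injective ι.injective (by
    show (P₀ᵀ * G * P₀).map ι = (ν • G).map ι
    rw [map_smul', hν]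
    conv_rhs => rw [← e5, smul_smul, inv_mul_cancel₀ hN0, one_smul])
  have hd : P₀.det ≠ 0 := fun h0 => by
    have e := congrArg Matrix.det e6
    rw [Matrix.det_mul, Matrix.det_mul, Matrix.det_transpose, h0, zero_mul, zero_mul, Matrix.det_smul] at e
    exact mul_ne_zero (pow_ne_zero _ hν0) hG.ne_zero e.symm
  refine ⟨Matrix.nonsingInvUnit P₀ hd.isUnit, Units.mk0 ν hν0, s, e6, ?_, ?_⟩
  · show h.1.val = (s : F) • (M * P₀.map ι * N)
    rw [hhP, hs, Matrix.mul_smul, Matrix.smul_mul]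
  · rw [Units.val_mk0, hν, mul_inv_cancel₀ hN0]

include hMN hNM in
theorem lift_scalar_iff {g : GL κ F₀} {h : Un} {s : Fˣ} (hl : Lifts ι M N g h s) :
    (∃ c : F, h.1.val = c • (1 : Mn)) ↔ g ∈ Cfsg.Geo.scalars κ F₀ := by
  rw [Cfsg.Geo.mem_scalars_iff]
  constructor
  · rintro ⟨c, hc⟩
    have e : (s : F) • g.val.map ι = c • (1 : Matrix κ κ F) := by
      have e := congrArg (fun X => N * X * M) (hl.symm.trans hc)
      simp only [Matrix.mul_smul, Matrix.smul_mul, Matrix.mul_one, hNM] at e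
      rw [← e]
      congr 1
      rw [← Matrix.mul_assoc N, ← Matrix.mul_assoc N, hNM, Matrix.one_mul, Matrix.mul_assoc, hNM, Matrix.mul_one]
    rcases isEmpty_or_nonempty κ with h0 | h0
    · exact ⟨1, Subsingleton.elim _ _⟩
    obtain ⟨k⟩ := h0
    have ek := congrFun (congrFun e k) k
    rw [Matrix.smul_apply, Matrix.smul_apply, Matrix.map_apply, Matrix.one_apply_eq, smul_eq_mul, smul_eq_mul,
      mul_one] at ek
    haveI : Nonempty κ := ⟨k⟩
    have hg : g.val = g.val k k • (1 : Matrix κ κ F₀) := Matrix.map_injective ι.injective (by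
      show g.val.map ι = (g.val k k • (1 : Matrix κ κ F₀)).map ι
      rw [map_smul', Matrix.map_one ι (map_zero ι) (map_one ι)]
      refine (IsUnit.smul_left_cancel s.isUnit).1 ?_
      rw [e, smul_smul, ek])
    have hne : g.val k k ≠ 0 := fun h0 => by
      rw [h0, zero_smul] at hg
      exact g.ne_zero hg
    exact ⟨Units.mk0 _ hne, hg⟩
  · rintro ⟨c, hc⟩
    refine ⟨(s : F) * ι c, ?_⟩
    rw [hl, hc, map_smul', Matrix.map_one ι (map_zero ι) (map_one ι), Matrix.mul_smul, Matrix.smul_mul,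
      Matrix.mul_one, hMN, smul_smul]

include hstar hF hn hι in
theorem centralizer_desc (hd : Desc ι B.1.val G) :
    Nonempty (↥(Cfsg.inndiagPSU n F q ⊓ Subgroup.centralizer {gr B}) ≃* Cfsg.projQuot (Sim G)) := by
  classical
  have hG := hd.isUnit
  obtain ⟨M, N, a, b, hMN, hNM, hB, hH⟩ := hd
  have hex : ∀ g : ↥(Sim G), ∃ (h : Un) (s : Fˣ), Lifts ι M N g.1 h s := fun g => by
    obtain ⟨c, hc⟩ := g.2
    obtain ⟨h, s, hl, -⟩ := exists_lift hstar hF hn ι hι hMN hH g.1 c hc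
    exact ⟨h, s, hl⟩
  choose lift sc hlift using hex
  have hwell : ∀ {g : GL κ F₀} {h h' : Un} {s s' : Fˣ}, Lifts ι M N g h s → Lifts ι M N g h' s' →
      (cU h : MulAut Pn) = cU h' := fun {g h h' s s'} e e' => by
    refine cU_eq_of_smul hstar (c := (s : F) * ((s'⁻¹ : Fˣ) : F)) ?_
    rw [e, e', smul_smul, mul_assoc, Units.inv_mul, mul_one]
  let f : ↥(Sim G) →* MulAut Pn := MonoidHom.mk' (fun g => cU (lift g)) fun g g' => by
    rw [← map_mul]
    refine hwell (hlift (g * g')) (s' := sc g * sc g') ?_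
    rw [Lifts, Subgroup.coe_mul, Units.val_mul, hlift g, hlift g', Subgroup.coe_mul, Units.val_mul,
      Matrix.smul_mul, Matrix.mul_smul, smul_smul, ← Units.val_mul, Matrix.mul_assoc (M * _) N,
      ← Matrix.mul_assoc N, ← Matrix.mul_assoc N, hNM, Matrix.one_mul]
    simp only [Units.val_mul, Matrix.map_mul, Matrix.mul_assoc]
  have hr : f.range = Cfsg.inndiagPSU n F q ⊓ Subgroup.centralizer {gr B} := by
    ext x
    rw [Subgroup.mem_inf, inndiag_eq]
    constructor
    · rintro ⟨g, rfl⟩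
      exact ⟨⟨lift g, rfl⟩, lift_mem hstar hF hn ι hι hMN hNM hB (hlift g)⟩
    · rintro ⟨⟨h, rfl⟩, hh⟩
      obtain ⟨g, c, s, hg, hl, -⟩ := exists_descend hstar hF hn ι hι hMN hNM hB hH hG (h := h) hh
      exact ⟨⟨g, c, hg⟩, hwell (hlift ⟨g, c, hg⟩) hl⟩
  have hk : f.ker = (Cfsg.Geo.scalars κ F₀).subgroupOf (Sim G) := by
    ext g
    rw [MonoidHom.mem_ker, Subgroup.mem_subgroupOf, ← lift_scalar_iff ι hMN hNM (hlift g)]
    constructor
    · intro h
      obtain ⟨u, hu⟩ := (cU_eq_one_iff hstar hF hn _).1 h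
      exact ⟨_, by rw [hu, scalarU_val]⟩
    · rintro ⟨c, hc⟩
      exact cU_of_scalar hc
  exact ⟨((MulEquiv.subgroupCongr hr).symm.trans (QuotientGroup.quotientKerEquivRange f).symm).trans
    (QuotientGroup.quotientMulEquivOfEq hk)⟩

include hstar hF hn hι in
theorem det_image (hd : Desc ι B.1.val G) (u : U1 F q) :
    u ∈ ((Subgroup.centralizer {gr B}).comap cU).map (detU hstar) ↔
      ∃ (g : GL κ F₀) (c : F₀ˣ) (s : Fˣ), g.valᵀ * G * g.val = (c : F₀) • G ∧ star (s : F) * s * ι c = 1 ∧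
        (u.1 : F) = (s : F) ^ n * ι (Matrix.GeneralLinearGroup.det g : F₀) := by
  have hG := hd.isUnit
  obtain ⟨M, N, a, b, hMN, hNM, hB, hH⟩ := hd
  have hdet : ∀ {g : GL κ F₀} {h : Un} {s : Fˣ}, Lifts ι M N g h s →
      ((detU hstar h : Fˣ) : F) = (s : F) ^ n * ι (Matrix.GeneralLinearGroup.det g : F₀) := fun {g h s} e => by
    rw [detU_val, e, Matrix.det_smul, Fintype.card_fin, Matrix.det_conj_of_mul_eq_one hMN hNM, map_gl_det]
  constructor
  · rintro ⟨h, hh, rfl⟩
    obtain ⟨g, c, s, hg, hl, hs⟩ := exists_descend hstar hF hn ι hι hMN hNM hB hH hG hh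
    exact ⟨g, c, s, hg, hs, hdet hl⟩
  · rintro ⟨g, c, s, hg, hs, hu⟩
    obtain ⟨h, t, hl, ht⟩ := exists_lift hstar hF hn ι hι hMN hH g c hg
    obtain ⟨r, hr⟩ : ∃ r : U1 F q, (r.1 : F) = s * ((t⁻¹ : Fˣ) : F) := by
      refine ⟨⟨s * t⁻¹, ?_⟩, rfl⟩
      rw [mem_U1_iff hstar, Units.val_mul, star_mul', Units.val_inv_eq_inv_val, star_inv₀]
      have e : star (s : F) * s = star (t : F) * t := by
        refine mul_right_cancel₀ (b := ι (c : F₀)) ?_ (hs.trans ht.symm)
        exact fun h0 => c.ne_zero (ι.injective (by rw [h0, map_zero]))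
      field_simp [star_ne_zero.2 t.ne_zero]
      linear_combination e
    refine ⟨scalarU hstar r * h, mul_mem ?_ (lift_mem hstar hF hn ι hι hMN hNM hB hl), ?_⟩
    · rw [Subgroup.mem_comap, cU_scalarU]
      exact one_mem _
    · apply Subtype.ext
      apply Units.ext
      rw [map_mul, Subgroup.coe_mul, Units.val_mul, detU_scalarU, Subgroup.coe_pow, Units.val_pow_eq_pow_val, hr,
        hdet hl, hu, mul_pow, ← mul_assoc, mul_assoc ((s : F) ^ n), ← mul_pow, Units.inv_mul, one_pow, mul_one]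

include hstar hF hn in
theorem count_index (x : MulAut Pn) :
    Cfsg.splitClassCount (Cfsg.inndiagPSU n F q) (Cfsg.Inn Pn) x =
      (((Subgroup.centralizer {x}).comap cU).map (detU hstar) ⊔
        (powMonoidHom n : U1 F q →* U1 F q).range).index := by
  have hΔ : Function.Surjective (Delta (n := n) hstar) :=
    (QuotientGroup.mk'_surjective _).comp (detU_surjective hstar hn)
  rw [PSLn.splitClassCount_eq (D := U1 F q ⧸ (powMonoidHom n : U1 F q →* U1 F q).range)
    (cU (n := n) (F := F) (q := q)) (Delta hstar) hΔ inndiag_eq inn_le_inndiag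
    (inn_iff_Delta hstar hF hn)]
  rw [Delta, ← Subgroup.map_map, Subgroup.index_map, QuotientGroup.ker_mk',
    MonoidHom.range_eq_top.mpr (QuotientGroup.mk'_surjective _), Subgroup.index_top, mul_one]

end Cfsg.Agent.Small.PSUn
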