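import Cfsg.Agent.Lib.Small.PSUn.GraphCentralizer
import Cfsg.Agent.Lib.Small.Gram.Two
import Cfsg.Agent.Lib.Small.PSLn.GraphClasses
import Cfsg.Agent.Lib.Classical.UnitaryForm

/-!
# Classes of involutory graph automorphisms of `PSU_n(q)` and their splitting
-/

set_option autoImplicit false
set_option linter.unusedSectionVars false

namespace Cfsg.Agent.Small.PSUn

open Matrix Cfsg.Agent.Small Cfsg.Agent.Small.Gram FormDisc

section Field

variable {F₀ : Type*} [Field F₀] [Fintype F₀] {κ : Type} [Fintype κ] [DecidableEq κ]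

theorem neg_of_two {m k : Type} {M : Matrix m k F₀} [CharP F₀ 2] : -M = M := by
  ext i j
  rw [Matrix.neg_apply, CharTwo.neg_eq]

theorem skew_alt_gen (h2 : (2 : F₀) ≠ 0) {G : Matrix κ κ F₀} (h : Gᵀ = -G) (v : κ → F₀) :
    v ⬝ᵥ G *ᵥ v = 0 := by
  have e : v ⬝ᵥ G *ᵥ v = v ⬝ᵥ Gᵀ *ᵥ v := by
    rw [Matrix.mulVec_transpose, dotProduct_comm v (v ᵥ* G), Matrix.dotProduct_mulVec]
  rw [h, Matrix.neg_mulVec, dotProduct_neg] at e
  exact (mul_eq_zero.1 (show 2 * (v ⬝ᵥ G *ᵥ v) = 0 by linear_combination e)).resolve_left h2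

theorem even_model (h2 : (2 : F₀) ≠ 0) {m : ℕ} (hm : 1 ≤ m) (hc : Fintype.card κ = 2 * m) {a c : F₀}
    (hac : ∀ z₁ z₂ : F₀, z₁ ^ 2 + a * z₁ * z₂ + c * z₂ ^ 2 = 0 → z₁ = 0 ∧ z₂ = 0) {G : Matrix κ κ F₀}
    (hu : IsUnit G.det) (hG : Gᵀ = G ∨ Gᵀ = -G) :
    (Gᵀ = -G ∧ Model G (Matrix.J (Fin m) F₀)) ∨
      (Gᵀ = G ∧ (Model G (Jplus F₀ m) ∨ Model G (Jminus F₀ (m - 1) a c))) := by
  rcases hG with h | h
  · exact .inr ⟨h, sym_even h2 h hu hm hc hac⟩
  · exact .inl ⟨h, alt_model (skew_alt_gen h2 h) hu hc⟩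

/-- In odd dimension all forms are similar, and their groups are the parabolic one. -/
theorem odd_pgo {m : ℕ} (hc : Fintype.card κ = 2 * m + 1) {G G' : Matrix κ κ F₀}
    (hu : IsUnit G.det) (hu' : IsUnit G'.det) (hG : Gᵀ = G ∨ Gᵀ = -G) (hG' : G'ᵀ = G' ∨ G'ᵀ = -G') :
    Model G G' ∧ Nonempty (Cfsg.projQuot (Sim G) ≃* Cfsg.PGO F₀ (Cfsg.quadFormOdd m F₀)) := by
  by_cases h2 : (2 : F₀) = 0
  · haveI : CharP F₀ 2 := CharTwo.of_one_ne_zero_of_two_eq_zero one_ne_zero h2
    have hna : ∀ {μ : Type} [Fintype μ] [DecidableEq μ] {X : Matrix μ μ F₀}, Fintype.card μ = 2 * m + 1 →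
        IsUnit X.det → ¬ ∀ v : μ → F₀, v ⬝ᵥ X *ᵥ v = 0 := fun {μ} _ _ {X} hc hX h => by
      obtain ⟨k, hk⟩ := SymplecticSemisimple.exists_even _ (B := Matrix.toLinearMap₂' F₀ X)
        ⟨fun v => by rw [Matrix.toLinearMap₂'_apply']; exact h v, fun x hx => bil_nondeg hX x hx⟩ rfl
      rw [Module.finrank_fintype_fun_eq_card, hc] at hk
      omega
    have hmod : ∀ {X : Matrix κ κ F₀}, IsUnit X.det → (Xᵀ = X ∨ Xᵀ = -X) →
        Model X (SymFormsTwo.oddMat (F := F₀) m) := fun {X} hX h =>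
      two_model (h.elim id fun h => h.trans neg_of_two) hX (oddMat_symm m) (oddMat_det m)
        (by rw [hc]; simp; ring) (iff_of_false (hna hc hX) (hna (by simp; ring) (oddMat_det m)))
    refine ⟨(hmod hu hG).trans (hmod hu' hG').symm, ?_⟩
    haveI : Nonempty ((Fin m ⊕ Fin m) ⊕ Fin 1) := ⟨.inr 0⟩
    obtain ⟨a⟩ := (hmod hu hG).projQuot
    obtain ⟨b⟩ := twoQuot (oddMat_det (F := F₀) m)
    obtain ⟨c⟩ := isoOdd_equiv (F := F₀) m
    obtain ⟨d⟩ := Cfsg.Agent.Classical.OrthTwo.equiv (F := F₀) (m := m)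
    obtain ⟨e⟩ := twoQuad (Cfsg.quadFormOdd m F₀)
      (fun c v => by
        simp only [Cfsg.quadFormOdd, Pi.smul_apply, smul_eq_mul, mul_add, Finset.mul_sum]
        exact congrArg₂ (· + ·) (by ring) (Finset.sum_congr rfl fun i _ => by ring))
      ⟨Pi.single (.inl ()) 1, by simp [Cfsg.quadFormOdd]⟩
    exact ⟨a.trans (b.symm.trans (c.symm.trans (d.symm.trans e)))⟩
  · have hmod : ∀ {X : Matrix κ κ F₀}, IsUnit X.det → (Xᵀ = X ∨ Xᵀ = -X) → Model X (Jodd F₀ m) := fun {X} hX h => by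
      rcases h with h | h
      · exact sym_odd h2 h hX hc
      · have e := congrArg Matrix.det h
        rw [Matrix.det_transpose, Matrix.det_neg, hc, Odd.neg_one_pow ⟨m, rfl⟩] at e
        exact absurd ((mul_eq_zero.1 (show 2 * X.det = 0 by linear_combination e)).resolve_left h2) hX.ne_zero
    refine ⟨(hmod hu hG).trans (hmod hu' hG').symm, ?_⟩
    unfold Cfsg.PGO
    rw [quadSim_eq h2 (polar_odd m) (odd_quad m)]
    exact (hmod hu hG).projQuot

theorem symp_det {m : ℕ} {G : Matrix κ κ F₀} (hG : Model G (Matrix.J (Fin m) F₀)) {g : GL κ F₀} {c : F₀ˣ}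
    (hg : g.valᵀ * G * g.val = (c : F₀) • G) :
    (Matrix.GeneralLinearGroup.det g : F₀) = (c : F₀) ^ m := by
  obtain ⟨M, N, k, hMN, hNM, hk⟩ := hG
  obtain ⟨d, hd, hdd⟩ := sim_J_mult (F := F₀) m c⁻¹
  obtain ⟨h, hh⟩ : ∃ h, h = changeBasis M N hMN hNM g := ⟨_, rfl⟩
  have h1 : h.valᵀ * Matrix.J (Fin m) F₀ * h.val = (c : F₀) • Matrix.J (Fin m) F₀ := by
    refine (IsUnit.smul_left_cancel k.isUnit).1 ?_
    rw [← Matrix.smul_mul, ← Matrix.mul_smul, smul_comm (k : F₀) (c : F₀), ← hk, hh, changeBasis_val, ← gram_mul,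
      show M * (N * g.val * M) = g.val * M by simp only [← Matrix.mul_assoc, hMN, Matrix.one_mul], gram_mul, hg,
      Matrix.mul_smul, Matrix.smul_mul]
  have hi : (h * d).valᵀ * Matrix.J (Fin m) F₀ * (h * d).val = Matrix.J (Fin m) F₀ := by
    rw [Units.val_mul, gram_mul, h1, Matrix.mul_smul, Matrix.smul_mul, hd, smul_smul, ← Units.val_mul,
      mul_inv_cancel, Units.val_one, one_smul]
  have h2 := SymplecticClasses.det_eq_one ⟨(h * d).val, SymplecticGroup.mem_iff'.2 hi⟩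
  rw [← Matrix.GeneralLinearGroup.val_det_apply, Units.val_eq_one, map_mul, hdd, inv_pow, mul_inv_eq_one] at h2
  have h3 : Matrix.GeneralLinearGroup.det g = Matrix.GeneralLinearGroup.det h := by
    rw [hh]
    exact Units.ext (Matrix.det_conj_of_mul_eq_one hNM hMN).symm
  rw [h3, h2, Units.val_pow_eq_pow_val]

theorem symp_mult {m : ℕ} {G : Matrix κ κ F₀} (hG : Model G (Matrix.J (Fin m) F₀)) (c : F₀ˣ) :
    ∃ g : GL κ F₀, g.valᵀ * G * g.val = (c : F₀) • G := by
  obtain ⟨M, N, k, hMN, hNM, hk⟩ := hG.symm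
  obtain ⟨d, hd, -⟩ := sim_J_mult (F := F₀) m c
  refine ⟨changeBasis M N hMN hNM d, (IsUnit.smul_left_cancel k.isUnit).1 ?_⟩
  rw [← Matrix.smul_mul, ← Matrix.mul_smul, smul_comm (k : F₀) (c : F₀), ← hk, changeBasis_val, ← gram_mul,
    show M * (N * d.val * M) = d.val * M by simp only [← Matrix.mul_assoc, hMN, Matrix.one_mul], gram_mul, hd,
    Matrix.mul_smul, Matrix.smul_mul]

theorem sq_mult {G : Matrix κ κ F₀} (hu : IsUnit G.det) (hc : Odd (Fintype.card κ) ∨ CharP F₀ 2) {g : GL κ F₀}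
    {c : F₀ˣ} (hg : g.valᵀ * G * g.val = (c : F₀) • G) :
    ∃ t : F₀ˣ, c = t ^ 2 ∧ Matrix.GeneralLinearGroup.det g = t ^ Fintype.card κ := by
  have hd := det_sq_of_sim hu hg
  generalize Fintype.card κ = N at hd hc ⊢
  generalize Matrix.GeneralLinearGroup.det g = d at hd ⊢
  have hd' : d ^ 2 = c ^ N := Units.ext (by rw [Units.val_pow_eq_pow_val, Units.val_pow_eq_pow_val]; exact hd)
  rcases hc with ⟨k, rfl⟩ | h
  · refine ⟨d / c ^ k, ?_, ?_⟩
    · rw [div_pow, hd', ← pow_mul, mul_comm k 2, pow_succ, mul_div_cancel_left]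
    · rw [div_pow, pow_succ, pow_mul d 2 k, hd', ← pow_mul, ← pow_mul, mul_comm (2 * k + 1) k, mul_div_assoc]
      simp
  · obtain ⟨t, rfl⟩ := exists_sqrt c
    refine ⟨t, (pow_two t).symm, Units.ext (SymFormsTwo.sq_inj ?_)⟩
    rw [hd, Units.val_mul, Units.val_pow_eq_pow_val, ← pow_two, ← pow_mul, ← pow_mul, mul_comm]

end Field

theorem index_pm {A : Type*} [CommGroup A] [IsCyclic A] [Finite A] {e : A} (he : e * e = 1) (he1 : e ≠ 1)
    {n m : ℕ} (hnm : n = 2 * m) :
    (Subgroup.zpowers e ⊔ (powMonoidHom m : A →* A).range ⊔ (powMonoidHom n : A →* A).range).index =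
      Nat.gcd n (Nat.card A) / 2 := by
  classical
  have hle : (powMonoidHom n : A →* A).range ≤ (powMonoidHom m : A →* A).range := by
    rintro _ ⟨u, rfl⟩
    exact ⟨u ^ 2, by rw [powMonoidHom_apply, powMonoidHom_apply, ← pow_mul, hnm]⟩
  rw [sup_assoc, sup_eq_left.2 hle]
  have hR : (powMonoidHom m : A →* A).range.index = Nat.gcd (Nat.card A) m :=
    IsCyclic.index_powMonoidHom_range (G := A) m
  generalize hg : Nat.gcd (Nat.card A) m = g at hR
  obtain ⟨b, hb⟩ : g ∣ Nat.card A := hg ▸ Nat.gcd_dvd_left _ _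
  obtain ⟨a, ha⟩ : g ∣ m := hg ▸ Nat.gcd_dvd_right _ _
  have hg0 : 0 < g := Nat.pos_of_ne_zero fun h => by rw [h, zero_mul] at hb; exact Nat.card_pos.ne' hb
  have hcop : Nat.Coprime a b := by
    have : g * Nat.gcd b a = g * 1 := by rw [← Nat.gcd_mul_left, ← hb, ← ha, hg, mul_one]
    exact (Nat.coprime_comm).1 (Nat.eq_of_mul_eq_mul_left hg0 this)
  have hgn : Nat.gcd n (Nat.card A) = g * Nat.gcd 2 b := by
    rw [hnm, ha, hb, show 2 * (g * a) = g * (2 * a) by ring, Nat.gcd_mul_left,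
      Nat.Coprime.gcd_mul_right_cancel _ hcop]
  have hcard : Nat.card (powMonoidHom m : A →* A).range = b := by
    have h := Subgroup.card_mul_index (powMonoidHom m : A →* A).range
    rw [hR, hb, mul_comm g b] at h
    exact Nat.eq_of_mul_eq_mul_right hg0 h
  have hker : (powMonoidHom m : A →* A).range = (powMonoidHom b : A →* A).ker := by
    refine Subgroup.eq_of_le_of_card_ge ?_ (by rw [PSLn.card_pow_ker ⟨g, by rw [hb, mul_comm]⟩, hcard])
    rintro _ ⟨u, rfl⟩
    rw [MonoidHom.mem_ker, powMonoidHom_apply, powMonoidHom_apply, ← pow_mul, ha, mul_assoc, mul_comm a b,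
      ← mul_assoc, ← hb, pow_mul, pow_card_eq_one', one_pow]
  rcases Nat.even_or_odd b with hev | hod
  · obtain ⟨t, rfl⟩ := hev
    have hmem : e ∈ (powMonoidHom m : A →* A).range := by
      rw [hker, MonoidHom.mem_ker, powMonoidHom_apply, pow_add, ← mul_pow, he, one_pow]
    rw [sup_eq_right.2 (Subgroup.zpowers_le.2 hmem), hR, hgn, ← two_mul, Nat.gcd_mul_right_right,
      Nat.mul_div_cancel g two_pos]
  · obtain ⟨S, hS⟩ : ∃ S, S = Subgroup.zpowers e ⊔ (powMonoidHom m : A →* A).range := ⟨_, rfl⟩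
    rw [← hS, hgn, (Nat.coprime_two_left.2 hod).gcd_eq_one, mul_one]
    have hb0 : 0 < b := hod.pos
    have hup : S ≤ (powMonoidHom (2 * b) : A →* A).ker := by
      rw [hS, hker]
      refine sup_le (Subgroup.zpowers_le.2 ?_) fun x hx => ?_
      · rw [MonoidHom.mem_ker, powMonoidHom_apply, pow_mul, pow_two, he, one_pow]
      · rw [MonoidHom.mem_ker, powMonoidHom_apply] at hx ⊢
        rw [mul_comm, pow_mul, hx, one_pow]
    have h2g : 2 ∣ g := by
      have hN : 2 ∣ Nat.card A := by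
        rw [← orderOf_eq_prime (x := e) (p := 2) (by rw [pow_two, he]) he1]
        exact orderOf_dvd_natCard e
      rw [hb] at hN
      exact (Nat.Coprime.dvd_of_dvd_mul_right (Nat.coprime_two_left.2 hod) hN)
    obtain ⟨j, hj⟩ := h2g
    have h1 : Nat.card S ≤ 2 * b := by
      rw [← PSLn.card_pow_ker (A := A) (m := 2 * b) ⟨j, by rw [hb, hj]; ring⟩]
      exact Subgroup.card_le_of_le hup
    obtain ⟨t, ht⟩ := Subgroup.card_dvd_of_le (hS ▸ le_sup_right : (powMonoidHom m : A →* A).range ≤ S)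
    rw [hcard] at ht
    have h2 : t ≠ 1 := fun h => by
      have heq := Subgroup.eq_of_le_of_card_ge (hS ▸ le_sup_right : (powMonoidHom m : A →* A).range ≤ S)
        (by rw [hcard, ht, h, mul_one])
      have hmem : e ∈ (powMonoidHom b : A →* A).ker := by
        rw [← hker, heq, hS]
        exact Subgroup.mem_sup_left (Subgroup.mem_zpowers e)
      obtain ⟨i, rfl⟩ := hod
      rw [MonoidHom.mem_ker, powMonoidHom_apply, pow_succ, pow_mul, pow_two, he, one_pow, one_mul] at hmem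
      exact he1 hmem
    have h3 : Nat.card S = b * 2 := by
      have h0 : 0 < Nat.card S := Nat.card_pos
      rcases Nat.lt_or_ge t 2 with hlt | hge
      · interval_cases t
        · omega
        · exact absurd rfl h2
      · have h4 : b * 2 ≤ b * t := Nat.mul_le_mul_left b hge
        omega
    have h5 := Subgroup.card_mul_index S
    rw [h3, hb, hj, show 2 * j * b = b * 2 * j by ring] at h5
    rw [Nat.eq_of_mul_eq_mul_left (by omega) h5, hj, Nat.mul_div_cancel_left j two_pos]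

section Main

variable {F : Type*} [Field F] [Fintype F] [StarRing F] {n q : ℕ}

local notation "Pn" => Cfsg.PSU n F q
local notation "Un" => Cfsg.GU n F q

variable (hstar : ∀ x : F, star x = x ^ q) (hF : Fintype.card F = q ^ 2) (hn : 3 ≤ n)
  {F₀ : Type*} [Field F₀] [Fintype F₀] (ι : F₀ →+* F) (hι : ∀ y : F, star y = y ↔ y ∈ Set.range ι)
  {κ : Type} [Fintype κ] [DecidableEq κ]

include hstar hF in
theorem exists_incl (hF₀ : Fintype.card F₀ = q) :
    ∃ j : F₀ →+* F, ∀ y : F, star y = y ↔ y ∈ Set.range j := by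
  obtain ⟨p, e, -, hp, -, hq, -, -⟩ := Cfsg.Agent.Classical.exists_usigma hF
  haveI : Fact p.Prime := ⟨hp⟩
  have hord : orderOf (stR F) = 2 := orderOf_eq_prime (by rw [pow_two, stR_sq]) fun h => by
    obtain ⟨b, hb⟩ := Hermitian.exists_star_ne hstar hF
    exact hb (DFunLike.congr_fun h b)
  exact PSLn.exists_fixed_embedding (p := p) (f := e * 2) (by rw [hF, hq, pow_mul]) (stR F) F₀
    (by rw [hord, Nat.mul_div_cancel e two_pos, hF₀, hq])

include hι in
theorem desc_sym [Nonempty κ] {B : Un} {G : Matrix κ κ F₀} (hd : Desc ι B.1.val G)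
    (hB : B.1.valᵀ = B.1.val ∨ B.1.valᵀ = -B.1.val) : Gᵀ = G ∨ Gᵀ = -G := by
  rcases hB with h | h
  · refine .inl ?_
    have := hd.transpose ι hι (ε := 1) (by rw [map_one, one_smul]; exact h)
    rwa [one_smul] at this
  · refine .inr ?_
    have := hd.transpose ι hι (ε := -1) (by rw [map_neg, map_one, neg_one_smul]; exact h)
    rwa [neg_one_smul] at this

include hstar in
theorem norm_one_mem {s : Fˣ} {t : F₀ˣ} (hι : ∀ y : F, star y = y ↔ y ∈ Set.range ι)
    (h : star (s : F) * s * ι ((t ^ 2 : F₀ˣ) : F₀) = 1) : s * Units.map (ι : F₀ →* F) t ∈ U1 F q := by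
  rw [mem_U1_iff hstar, Units.val_mul, star_mul', Units.coe_map]
  rw [Units.val_pow_eq_pow_val, map_pow] at h
  simp only [MonoidHom.coe_coe]
  rw [(hι (ι (t : F₀))).2 ⟨_, rfl⟩]
  linear_combination h

include hstar hF hn hι in
theorem count_triv {B : Un} {G : Matrix κ κ F₀} (hd : Desc ι B.1.val G) (hκ : Fintype.card κ = n)
    (hc : Odd n ∨ CharP F₀ 2) :
    Cfsg.splitClassCount (Cfsg.inndiagPSU n F q) (Cfsg.Inn Pn) (gr B) = Nat.gcd n (q + 1) := by
  rw [count_index hstar hF hn, ← index_pow hF n]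
  congr 1
  refine sup_eq_right.2 fun u hu => ?_
  obtain ⟨g, c, s, hg, hs, hu'⟩ := (det_image hstar hF hn ι hι hd u).1 hu
  obtain ⟨t, rfl, hdet⟩ := sq_mult hd.isUnit (by rwa [hκ]) hg
  refine ⟨⟨s * Units.map (ι : F₀ →* F) t, norm_one_mem hstar ι hι hs⟩, Subtype.ext (Units.ext ?_)⟩
  rw [hu', hdet, hκ, powMonoidHom_apply, Subgroup.coe_pow, Units.val_pow_eq_pow_val, Units.val_mul, Units.coe_map,
    mul_pow, Units.val_pow_eq_pow_val, map_pow]
  rfl

include hstar hF hι in
theorem exists_ratio' (u : U1 F q) :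
    ∃ (s : Fˣ) (c : F₀ˣ), star (s : F) * s * ι c = 1 ∧ (u.1 : F) = (s : F) ^ 2 * ι c := by
  have hord : orderOf (stR F) = 2 := orderOf_eq_prime (by rw [pow_two, stR_sq]) fun h => by
    obtain ⟨b, hb⟩ := Hermitian.exists_star_ne hstar hF
    exact hb (DFunLike.congr_fun h b)
  obtain ⟨s, hs0, hs⟩ := PSLn.exists_div_of_norm_one (stR F) (x := (u.1 : F)) (by
    rw [hord, Finset.prod_range_succ, Finset.prod_range_one, pow_zero, pow_one]
    show (u.1 : F) * star (u.1 : F) = 1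
    rw [mul_comm]
    exact (mem_U1_iff hstar u.1).1 u.2)
  have hN0 : star s * s ≠ 0 := mul_ne_zero (star_ne_zero.2 hs0) hs0
  obtain ⟨ν, hν⟩ : (star s * s)⁻¹ ∈ Set.range ι :=
    (hι _).1 (by rw [star_inv₀, star_mul', star_star, mul_comm])
  have hν0 : ν ≠ 0 := fun h0 => by rw [h0, map_zero] at hν; exact inv_ne_zero hN0 hν.symm
  refine ⟨Units.mk0 s hs0, Units.mk0 ν hν0, ?_, ?_⟩
  · rw [Units.val_mk0, Units.val_mk0, hν, mul_inv_cancel₀ hN0]
  · have e : (u.1 : F) * star s = s := hs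
    rw [Units.val_mk0, Units.val_mk0, hν]
    field_simp [star_ne_zero.2 hs0]
    linear_combination e

include hstar hF hn hι in
theorem count_symp {m : ℕ} (hnm : n = 2 * m) {B : Un} {G : Matrix κ κ F₀} (hd : Desc ι B.1.val G)
    (hG : Model G (Matrix.J (Fin m) F₀)) :
    Cfsg.splitClassCount (Cfsg.inndiagPSU n F q) (Cfsg.Inn Pn) (gr B) = Nat.gcd m (q + 1) := by
  have himg : ((Subgroup.centralizer {gr B}).comap cU).map (detU (n := n) hstar) =
      (powMonoidHom m : U1 F q →* U1 F q).range := by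
    ext u
    rw [det_image hstar hF hn ι hι hd]
    constructor
    · rintro ⟨g, c, s, hg, hs, hu⟩
      have hw : (s * s * Units.map (ι : F₀ →* F) c) ∈ U1 F q := by
        rw [mem_U1_iff hstar, Units.val_mul, Units.val_mul, Units.coe_map, star_mul', star_mul']
        simp only [MonoidHom.coe_coe]
        rw [(hι (ι (c : F₀))).2 ⟨_, rfl⟩]
        linear_combination (star (s : F) * s * ι (c : F₀) + 1) * hs
      refine ⟨⟨_, hw⟩, Subtype.ext (Units.ext ?_)⟩
      rw [hu, symp_det hG hg, hnm, powMonoidHom_apply, Subgroup.coe_pow, Units.val_pow_eq_pow_val, Units.val_mul,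
        Units.val_mul, Units.coe_map, map_pow, mul_pow, ← pow_two, ← pow_mul]
      rfl
    · rintro ⟨w, rfl⟩
      obtain ⟨s, c, hs, hw⟩ := exists_ratio' hstar hF ι hι w
      obtain ⟨g, hg⟩ := symp_mult hG c
      refine ⟨g, c, s, hg, hs, ?_⟩
      rw [powMonoidHom_apply, Subgroup.coe_pow, Units.val_pow_eq_pow_val, hw, symp_det hG hg, hnm, map_pow,
        mul_pow, ← pow_mul]
  rw [count_index hstar hF hn, himg, PSLn.pow_range_sup, IsCyclic.index_powMonoidHom_range, card_U1 hF,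
    Nat.gcd_eq_left (show m ∣ n from ⟨2, by rw [hnm, mul_comm]⟩), Nat.gcd_comm]

include hstar in
theorem neg_one_mem : (-1 : Fˣ) ∈ U1 F q := by
  rw [mem_U1_iff hstar]
  simp

include hstar hF hn hι in
theorem count_orth (h2 : (2 : F₀) ≠ 0) {m : ℕ} (hm : 1 ≤ m) (hnm : n = 2 * m) {B : Un} {G : Matrix κ κ F₀}
    (hκ : Fintype.card κ = 2 * m) (hd : Desc ι B.1.val G) (hs : Gᵀ = G) :
    Cfsg.splitClassCount (Cfsg.inndiagPSU n F q) (Cfsg.Inn Pn) (gr B) = Nat.gcd n (q + 1) / 2 := by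
  haveI : Nonempty κ := Fintype.card_pos_iff.1 (by omega)
  have hu := hd.isUnit
  obtain ⟨e, he⟩ : ∃ e : U1 F q, e = ⟨-1, neg_one_mem hstar⟩ := ⟨_, rfl⟩
  have he1 : e ≠ 1 := fun h => by
    rw [he] at h
    have h' := congrArg (fun w : U1 F q => ((w.1 : Fˣ) : F)) h
    simp only [Units.val_neg, Units.val_one, OneMemClass.coe_one] at h'
    refine h2 (ι.injective ?_)
    rw [map_zero, map_ofNat]
    linear_combination -h'
  have himg : ((Subgroup.centralizer {gr B}).comap cU).map (detU (n := n) hstar) =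
      Subgroup.zpowers e ⊔ (powMonoidHom m : U1 F q →* U1 F q).range := by
    have hsign : ∀ (g : GL κ F₀) (c : F₀ˣ), g.valᵀ * G * g.val = (c : F₀) • G →
        (Matrix.GeneralLinearGroup.det g : F₀) = (c : F₀) ^ m ∨
          (Matrix.GeneralLinearGroup.det g : F₀) = -(c : F₀) ^ m := fun g c hg => by
      have h := det_sq_of_sim hu hg
      rw [hκ, two_mul, pow_add, pow_two] at h
      exact mul_self_eq_mul_self_iff.1 h
    have hval : ∀ (g : GL κ F₀) (c : F₀ˣ) (s : Fˣ), g.valᵀ * G * g.val = (c : F₀) • G →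
        (Matrix.GeneralLinearGroup.det g : F₀) = (c : F₀) ^ m →
        (s : F) ^ n * ι (Matrix.GeneralLinearGroup.det g : F₀) = ((s : F) ^ 2 * ι c) ^ m := fun g c s _ h => by
      rw [h, hnm, map_pow, mul_pow, ← pow_mul]
    obtain ⟨r, hr, hrd⟩ := exists_det_neg_one h2 hs hu
    apply le_antisymm
    · intro u hu'
      obtain ⟨g, c, s, hg, hn1, hu''⟩ := (det_image hstar hF hn ι hι hd u).1 hu'
      have hw : (s * s * Units.map (ι : F₀ →* F) c) ∈ U1 F q := by
        rw [mem_U1_iff hstar, Units.val_mul, Units.val_mul, Units.coe_map, star_mul', star_mul']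
        simp only [MonoidHom.coe_coe]
        rw [(hι (ι (c : F₀))).2 ⟨_, rfl⟩]
        linear_combination (star (s : F) * s * ι (c : F₀) + 1) * hn1
      rcases hsign g c hg with h | h
      · refine Subgroup.mem_sup_right ⟨⟨_, hw⟩, Subtype.ext (Units.ext ?_)⟩
        rw [hu'', hval g c s hg h, powMonoidHom_apply, Subgroup.coe_pow, Units.val_pow_eq_pow_val, Units.val_mul,
          Units.val_mul, Units.coe_map, ← pow_two]
        rfl
      · have hu3 : u = e * (⟨_, hw⟩ : U1 F q) ^ m := by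
          refine Subtype.ext (Units.ext ?_)
          rw [hu'', h, hnm, map_neg, map_pow, he, Subgroup.coe_mul, Subgroup.coe_pow, Units.val_mul,
            Units.val_pow_eq_pow_val, Units.val_mul, Units.val_mul, Units.coe_map, Units.val_neg, Units.val_one,
            pow_mul, ← pow_two, mul_pow]
          simp only [MonoidHom.coe_coe]
          ring
        rw [hu3]
        exact mul_mem (Subgroup.mem_sup_left (Subgroup.mem_zpowers e)) (Subgroup.mem_sup_right ⟨_, rfl⟩)
    · refine sup_le (Subgroup.zpowers_le.2 ?_) ?_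
      · refine (det_image hstar hF hn ι hι hd e).2 ⟨r, 1, 1, by rw [Units.val_one, one_smul]; exact hr, by simp, ?_⟩
        rw [he, hrd]
        simp
      · rintro _ ⟨w, rfl⟩
        obtain ⟨s, c, hn1, hw⟩ := exists_ratio' hstar hF ι hι w
        obtain ⟨g, hg⟩ := exists_similitude h2 hs hu hm hκ c
        refine (det_image hstar hF hn ι hι hd _).2 ?_
        rcases hsign g c hg with h | h
        · refine ⟨g, c, s, hg, hn1, ?_⟩
          rw [hval g c s hg h, powMonoidHom_apply, Subgroup.coe_pow, Units.val_pow_eq_pow_val, hw]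
        · refine ⟨r * g, c, s, ?_, hn1, ?_⟩
          · rw [Units.val_mul, gram_mul, hr, hg]
          · rw [powMonoidHom_apply, Subgroup.coe_pow, Units.val_pow_eq_pow_val, hw, map_mul, hrd, Units.val_mul,
              Units.val_neg, Units.val_one, h, neg_mul_neg, one_mul, hnm, map_pow, mul_pow, ← pow_mul]
  rw [count_index hstar hF hn, himg,
    index_pm (show e * e = 1 by rw [he]; exact Subtype.ext (by simp)) he1 hnm, card_U1 hF]

include hstar hF hn hι in
theorem centralizer_model {B : Un} {G : Matrix κ κ F₀} (hd : Desc ι B.1.val G) {μ : Type} [Fintype μ]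
    [DecidableEq μ] {G' : Matrix μ μ F₀} (hm : Model G G') :
    Nonempty (↥(Cfsg.inndiagPSU n F q ⊓ Subgroup.centralizer {gr B}) ≃* Cfsg.projQuot (Sim G')) :=
  centralizer_desc hstar hF hn ι hι (hd.model ι hι hm)

end Main

end Cfsg.Agent.Small.PSUn
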